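/-
Orthogonal spaces of dimension three and four without totally singular planes: Siegel maps and their
characterisations.
-/
import Cfsg.Agent.Lib.Geo.OrthTensor.Siegel

set_option autoImplicit false
set_option linter.unusedSectionVars false

namespace CfsgLib.Geo.OrthTensorFour

open Module
open CfsgLib.Geo.MixTensor (SymForm refl refl_apply)
open CfsgLib.Geo.OrthTensor (sv sv_apply exists_iso_partner)
open LinearMap (BilinForm)

variable {F : Type*} [Field F] {U : Type*} [AddCommGroup U] [Module F U] [FiniteDimensional F U]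

/-- No totally singular planes. -/
def Thin (f : BilinForm F U) : Prop :=
  ∀ w z, f w w = 0 → w ≠ 0 → f w z = 0 → f z z = 0 → z ∈ Submodule.span F {w}

variable {f : BilinForm F U}

theorem Thin.aniso (hT : Thin f) {w z : U} (hw : f w w = 0) (hw0 : w ≠ 0) (hz : f w z = 0)
    (hzw : z ∉ Submodule.span F {w}) : f z z ≠ 0 := fun h => hzw (hT w z hw hw0 hz h)

variable (hf : SymForm f)
include hf

/-- A three dimensional space has no totally singular planes. -/
theorem thin_three (h3 : finrank F U = 3) : Thin f := by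
  intro w z hw hw0 hz hzz
  by_contra hzw
  have hlt : Submodule.span F {w} < Submodule.span F ({w, z} : Set U) :=
    lt_of_le_of_ne (Submodule.span_mono (by simp)) fun e => hzw (e.symm ▸ Submodule.subset_span (by simp))
  have h2 := Submodule.finrank_lt_finrank_of_lt hlt
  rw [finrank_span_singleton hw0] at h2
  obtain ⟨x, hx, hxx⟩ := hf.exists_aniso_mem (Submodule.span F ({w, z} : Set U)) (by omega)
  obtain ⟨s, t, rfl⟩ := Submodule.mem_span_pair.1 hx
  exact hxx (by simp [hw, hz, hzz, hf.symm w z])

theorem iso_inj {A : U →ₗ[F] U} (hA : ∀ x y, f (A x) (A y) = f x y) : Function.Injective A := fun x y e =>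
  sub_eq_zero.1 (hf.nd.1 _ fun v => by rw [map_sub, LinearMap.sub_apply, ← hA x, ← hA y, e, sub_self])

theorem iso_surj {A : U →ₗ[F] U} (hA : ∀ x y, f (A x) (A y) = f x y) : Function.Surjective A :=
  LinearMap.injective_iff_surjective.1 (iso_inj hf hA)

theorem sv_comp {w z z' : U} (hw : f w w = 0) (hz : f w z = 0) (hz' : f w z' = 0) (x : U) :
    sv f w z (sv f w z' x) = sv f w (z + z') x := by
  have h2 := hf.two
  simp only [sv_apply, map_add, map_sub, map_smul, LinearMap.add_apply, smul_eq_mul, hw, hz', hz, hf.symm w z,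
    hf.symm w z', hf.symm z z', mul_zero, add_zero, sub_zero]
  match_scalars <;> field_simp <;> ring

theorem sv_zero (w x : U) : sv f w 0 x = x := by simp [sv_apply]

theorem sv_smul_self {w : U} (hw : f w w = 0) (c : F) (x : U) : sv f w (c • w) x = x := by
  simp [sv_apply, hw, smul_smul, mul_comm]

theorem sv_inv {w z : U} (hw : f w w = 0) (hz : f w z = 0) (x : U) : sv f w z (sv f w (-z) x) = x := by
  rw [sv_comp hf hw hz (by simp [hz]), add_neg_cancel, sv_zero hf]

theorem sv_pow {w z : U} (hw : f w w = 0) (hz : f w z = 0) (n : ℕ) (x : U) :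
    ((sv f w z : Module.End F U) ^ n) x = sv f w ((n : F) • z) x := by
  induction n with
  | zero => simp [sv_apply]
  | succ n ih =>
    rw [pow_succ', Module.End.mul_apply, ih, sv_comp hf hw hz (by simp [hz])]
    congr 1
    simp [add_smul, add_comm]

/-- The vectors fixed by a Siegel map. -/
theorem sv_fix_iff {w z : U} (hw : f w w = 0) (hw0 : w ≠ 0) (hz : f w z = 0) (hzz : f z z ≠ 0) (x : U) :
    sv f w z x = x ↔ f w x = 0 ∧ f z x = 0 := by
  constructor
  · intro h
    rw [sv_apply] at h
    have h' : f w x • z - (f z x + f z z / 2 * f w x) • w = 0 := by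
      linear_combination (norm := module) h
    have k := congrArg (f z) h'
    simp only [map_sub, map_smul, smul_eq_mul, hf.symm w z, hz, mul_zero, sub_zero, map_zero, mul_eq_zero,
      hzz, or_false] at k
    rw [k, zero_smul, zero_sub, neg_eq_zero, smul_eq_zero, mul_zero, add_zero, or_iff_left hw0] at h'
    exact ⟨k, h'⟩
  · rintro ⟨h1, h2⟩
    simp [sv_apply, h1, h2]

/-- The square of the nilpotent part of a Siegel map. -/
theorem sv_sq {w z : U} (hw : f w w = 0) (hz : f w z = 0) (x : U) :
    sv f w z (sv f w z x) - sv f w z x - (sv f w z x - x) = (-(f z z * f w x)) • w := by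
  have := hf.two
  simp only [sv_apply, map_add, map_sub, map_smul, smul_eq_mul, hw, hz, hf.symm w z, mul_zero, add_zero, sub_zero]
  match_scalars <;> field_simp <;> ring

/-- An isometry fixing a singular vector and the quotient of its orthogonal is a Siegel map. -/
theorem sv_of_fix {A : U →ₗ[F] U} (hA : ∀ x y, f (A x) (A y) = f x y) {w : U} (hw : f w w = 0) (hw0 : w ≠ 0)
    (hAw : A w = w) (h : ∀ z, f w z = 0 → A z - z ∈ Submodule.span F {w}) :
    ∃ z₀, f w z₀ = 0 ∧ ∀ x, A x = sv f w z₀ x := by
  obtain ⟨u, huu, hwu⟩ := exists_iso_partner hf hw hw0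
  have huw : f u w = 1 := by rw [hf.symm, hwu]
  have hwA : ∀ x, f w (A x) = f w x := fun x => by conv_lhs => rw [← hAw, hA]
  set s := f u (A u - u)
  set z₀ := A u - u - s • w with hz₀
  have hz0w : f w z₀ = 0 := by simp [hz₀, hwA, hw]
  have hz0u : f u z₀ = 0 := by simp [hz₀, s, huw, huu]
  have hAu : A u = u + z₀ + s • w := by simp only [hz₀]; abel
  have hs : 2 * s + f z₀ z₀ = 0 := by
    have h1 := hA u u
    rw [hAu] at h1
    simp only [map_add, map_smul, LinearMap.add_apply, LinearMap.smul_apply, smul_eq_mul, huu, hw, hwu, huw, hz0u,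
      hz0w, hf.symm u z₀, hf.symm w z₀] at h1
    linear_combination h1
  have hperp : ∀ z, f w z = 0 → f u z = 0 → A z = z - f z₀ z • w := by
    intro z hzw hzu
    obtain ⟨k, hk⟩ := Submodule.mem_span_singleton.1 (h z hzw)
    have hAz : A z = z + k • w := by rw [hk]; abel
    have h1 := hA u z
    rw [hAu, hAz] at h1
    simp only [map_add, map_smul, LinearMap.add_apply, LinearMap.smul_apply, smul_eq_mul, hw, huw, hzw, hzu,
      hf.symm w z₀, hz0w] at h1
    rw [hAz, show k = -f z₀ z by linear_combination h1, neg_smul, ← sub_eq_add_neg]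
  refine ⟨z₀, hz0w, fun x => ?_⟩
  set z := x - f w x • u - f u x • w with hz
  have hzw : f w z = 0 := by simp [hz, hwu, hw]
  have hzu : f u z = 0 := by simp [hz, huu, huw]
  have hx : x = z + f w x • u + f u x • w := by simp only [hz]; abel
  have h2 := hf.two
  have hs' : s = -(f z₀ z₀ / 2) := by field_simp; linear_combination hs
  conv_lhs => rw [hx, map_add, map_add, map_smul, map_smul, hperp z hzw hzu, hAu, hAw]
  rw [sv_apply, show f z₀ x = f z₀ z by
    conv_lhs => rw [hx]
    simp [hf.symm u z₀, hz0u, hf.symm w z₀, hz0w], hs']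
  simp only [hz]
  module

/-- An isometry is a Siegel map when it fixes a singular vector and is unipotent. -/
theorem sv_of_nilpotent (hT : Thin f) {A : U →ₗ[F] U} (hA : ∀ x y, f (A x) (A y) = f x y)
    (hn : IsNilpotent (A - LinearMap.id : Module.End F U)) (hne : A ≠ LinearMap.id) :
    ∃ w z₀, w ≠ 0 ∧ f w w = 0 ∧ f w z₀ = 0 ∧ f z₀ z₀ ≠ 0 ∧ ∀ x, A x = sv f w z₀ x := by
  classical
  set D : Module.End F U := A - LinearMap.id
  have hD : ∀ x, D x = A x - x := fun x => rfl
  -- a fixed singular vector in the range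
  have hex : ∃ n, D ^ n = 0 := hn
  have h1n : 2 ≤ Nat.find hex := by
    by_contra hlt
    have hsp := Nat.find_spec hex
    rcases (show Nat.find hex = 0 ∨ Nat.find hex = 1 by omega) with h | h <;> rw [h] at hsp
    · refine hne (LinearMap.ext fun x => ?_)
      have hx : x = 0 := by simpa using LinearMap.congr_fun hsp x
      simp [hx]
    · exact hne (sub_eq_zero.1 (by simpa using hsp))
  obtain ⟨x₀, hx₀⟩ : ∃ x, (D ^ (Nat.find hex - 1)) x ≠ 0 := by
    by_contra! hc
    exact Nat.find_min hex (by omega : Nat.find hex - 1 < Nat.find hex) (LinearMap.ext fun x => hc x)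
  set w := (D ^ (Nat.find hex - 1)) x₀ with hwdef
  have hAw : A w = w := by
    have e : D w = 0 := by
      rw [hwdef, ← Module.End.mul_apply, ← pow_succ', show Nat.find hex - 1 + 1 = Nat.find hex by omega,
        Nat.find_spec hex, LinearMap.zero_apply]
    exact sub_eq_zero.1 e
  have hwA : ∀ x, f w (A x) = f w x := fun x => by conv_lhs => rw [← hAw, hA]
  have hww : f w w = 0 := by
    obtain ⟨x₁, hx₁⟩ : ∃ x₁, w = D x₁ := ⟨(D ^ (Nat.find hex - 2)) x₀, by
      rw [hwdef, ← Module.End.mul_apply, ← pow_succ', show Nat.find hex - 2 + 1 = Nat.find hex - 1 by omega]⟩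
    conv_lhs => arg 2; rw [hx₁, hD]
    rw [map_sub, hwA, sub_self]
  -- trivial on the quotient
  have hquot : ∀ z, f w z = 0 → A z - z ∈ Submodule.span F {w} := by
    intro z hz
    by_contra hzn
    have hP : ∀ i, f w ((D ^ i) z) = 0 := by
      intro i
      induction i with
      | zero => simpa using hz
      | succ i ih => rw [pow_succ', Module.End.mul_apply, hD, map_sub, hwA, ih, sub_zero]
    have hex' : ∃ i, (D ^ i) z ∈ Submodule.span F {w} := by
      obtain ⟨n, h0⟩ := hex
      exact ⟨n, by rw [h0]; simp⟩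
    have h2 : 2 ≤ Nat.find hex' := by
      by_contra hlt
      have hsp := Nat.find_spec hex'
      rcases (show Nat.find hex' = 0 ∨ Nat.find hex' = 1 by omega) with h | h <;> rw [h] at hsp
      · rw [pow_zero, Module.End.one_apply] at hsp
        obtain ⟨c, hc⟩ := Submodule.mem_span_singleton.1 hsp
        exact hzn (by rw [← hc, map_smul, hAw, sub_self]; exact zero_mem _)
      · exact hzn (by simpa [D] using hsp)
    set i := Nat.find hex' - 2
    set z' := (D ^ i) z with hz'
    set y := D z' with hy
    have hyn : y ∉ Submodule.span F {w} := fun h => by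
      rw [hy, hz', ← Module.End.mul_apply, ← pow_succ'] at h
      exact Nat.find_min hex' (by omega : i + 1 < Nat.find hex') h
    obtain ⟨k, hk⟩ := Submodule.mem_span_singleton.1 (show D y ∈ Submodule.span F {w} by
      have h := Nat.find_spec hex'
      rwa [show Nat.find hex' = i + 1 + 1 by omega, pow_succ', pow_succ', Module.End.mul_apply,
        Module.End.mul_apply] at h)
    have hAy : A y = y + k • w := by rw [hk, hD]; abel
    have hAz : A z' = z' + y := by rw [hy, hD]; abel
    have hyw : f y w = 0 := by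
      rw [hf.symm, hy, hz', ← Module.End.mul_apply, ← pow_succ']; exact hP _
    have h := hA z' y
    rw [hAz, hAy] at h
    simp only [map_add, map_smul, LinearMap.add_apply, smul_eq_mul, hf.symm w z', show f w z' = 0 from hP i,
      hyw, mul_zero, add_zero] at h
    exact hT.aniso hww hx₀ (by rw [hf.symm]; exact hyw) hyn (by linear_combination h)
  obtain ⟨z₀, hz₀, e⟩ := sv_of_fix hf hA hww hx₀ hAw hquot
  refine ⟨w, z₀, hx₀, hww, hz₀, fun hzz => hne ?_, e⟩
  obtain ⟨c, rfl⟩ := Submodule.mem_span_singleton.1 (hT w z₀ hww hx₀ hz₀ hzz)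
  exact LinearMap.ext fun x => by rw [e, sv_smul_self hf hww]; rfl

/-- The common orthogonal of a singular vector and an orthogonal anisotropic one. -/
theorem finrank_orth_two {w z : U} (hw0 : w ≠ 0) (hw : f w w = 0) (hz : f w z = 0) (hzz : f z z ≠ 0) :
    finrank F (LinearMap.ker (f w) ⊓ LinearMap.ker (f z) : Submodule F U) + 2 = finrank F U := by
  obtain ⟨u, -, hwu⟩ := exists_iso_partner hf hw hw0
  have hr : LinearMap.range ((f w).prod (f z)) = ⊤ := by
    refine eq_top_iff.2 fun p _ => ⟨p.1 • u + ((p.2 - p.1 * f z u) / f z z) • z, ?_⟩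
    simp [hwu, hz, hzz]
  have h := LinearMap.finrank_range_add_finrank_ker ((f w).prod (f z))
  rw [hr, finrank_top, Module.finrank_prod, Module.finrank_self, LinearMap.ker_prod] at h
  omega

/-- An isometry fixing a singular vector and an orthogonal vector modulo it. -/
theorem fix_two (h4 : finrank F U ≤ 4) (hT : Thin f) {A : U →ₗ[F] U} (hA : ∀ x y, f (A x) (A y) = f x y) {w z : U}
    (hw : f w w = 0) (hw0 : w ≠ 0) (hAw : A w = w) (hz : f w z = 0) (hzz : f z z ≠ 0)
    (hAz : A z - z ∈ Submodule.span F {w}) :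
    (∃ z₀, f w z₀ = 0 ∧ ∀ x, A x = sv f w z₀ x) ∨
      ∃ c z₀, f c c ≠ 0 ∧ f w c = 0 ∧ f w z₀ = 0 ∧ ∀ x, A x = refl f c (sv f w z₀ x) := by
  set X := LinearMap.ker (f w) ⊓ LinearMap.ker (f z)
  have hX : finrank F X + 2 = finrank F U := finrank_orth_two hf hw0 hw hz hzz
  have hwA : ∀ x, f w (A x) = f w x := fun x => by conv_lhs => rw [← hAw, hA]
  obtain ⟨k, hk⟩ := Submodule.mem_span_singleton.1 hAz
  have hzA : ∀ x, f w x = 0 → f z (A x) = f z x := fun x hx => by
    have h := hA z x
    rw [show A z = z + k • w by rw [hk]; abel] at h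
    simpa [hwA, hx] using h
  have hAX : ∀ x ∈ X, A x ∈ X := fun x hx => by
    obtain ⟨h1, h2⟩ := Submodule.mem_inf.1 hx
    rw [LinearMap.mem_ker] at h1 h2
    exact ⟨LinearMap.mem_ker.2 (by rw [hwA, h1]), LinearMap.mem_ker.2 (by rw [hzA x h1, h2])⟩
  -- reduce to the action on the common orthogonal
  have key : ∀ {B : U →ₗ[F] U}, (∀ x y, f (B x) (B y) = f x y) → B w = w → B z - z ∈ Submodule.span F {w} →
      (∀ x ∈ X, B x - x ∈ Submodule.span F {w}) → ∃ z₀, f w z₀ = 0 ∧ ∀ x, B x = sv f w z₀ x := by
    intro B hB hBw hBz hBX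
    refine sv_of_fix hf hB hw hw0 hBw fun y hy => ?_
    have e : y = (y - (f z y / f z z) • z) + (f z y / f z z) • z := by abel
    have h1 := hBX (y - (f z y / f z z) • z) ⟨by simp [hy, hz], by simp [hzz]⟩
    have h2 : B y - y = (B (y - (f z y / f z z) • z) - (y - (f z y / f z z) • z)) + (f z y / f z z) • (B z - z) := by
      rw [map_sub, map_smul]; module
    rw [h2]
    exact add_mem h1 (Submodule.smul_mem _ _ hBz)
  by_cases hall : ∀ x ∈ X, x ∈ Submodule.span F {w}
  · refine Or.inl (key hA hAw hAz fun x hx => ?_)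
    exact sub_mem (hall _ (hAX x hx)) (hall x hx)
  push Not at hall
  obtain ⟨c, hcX, hcw⟩ := hall
  obtain ⟨hc1, hc2⟩ := Submodule.mem_inf.1 hcX
  rw [LinearMap.mem_ker] at hc1 hc2
  have hcc := hT.aniso hw hw0 hc1 hcw
  have hspan : ∀ x ∈ X, ∃ a b : F, x = a • w + b • c := by
    have hle : Submodule.span F ({w, c} : Set U) ≤ X :=
      Submodule.span_le.2 (Set.insert_subset ⟨LinearMap.mem_ker.2 hw, by simp [hf.symm w z, hz]⟩
        (Set.singleton_subset_iff.2 hcX))
    have hlt : Submodule.span F {w} < Submodule.span F ({w, c} : Set U) :=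
      lt_of_le_of_ne (Submodule.span_mono (by simp)) fun e => hcw (e.symm ▸ Submodule.subset_span (by simp))
    have h2 := Submodule.finrank_lt_finrank_of_lt hlt
    rw [finrank_span_singleton hw0] at h2
    have e := Submodule.eq_of_le_of_finrank_le hle (by omega)
    intro x hx
    rw [← e] at hx
    obtain ⟨a, b, hab⟩ := Submodule.mem_span_pair.1 hx
    exact ⟨a, b, hab.symm⟩
  obtain ⟨a, b, hab⟩ := hspan _ (hAX c hcX)
  have hb : b * b = 1 := by
    have h := hA c c
    rw [hab] at h
    simp only [map_add, map_smul, LinearMap.add_apply, LinearMap.smul_apply, smul_eq_mul, hw, hc1,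
      hf.symm w c, mul_zero, add_zero, zero_add] at h
    exact mul_right_cancel₀ hcc (by linear_combination h)
  rcases mul_self_eq_one_iff.1 hb with rfl | rfl
  · refine Or.inl (key hA hAw hAz fun x hx => ?_)
    obtain ⟨s, t, rfl⟩ := hspan x hx
    refine Submodule.mem_span_singleton.2 ⟨t * a, ?_⟩
    rw [map_add, map_smul, map_smul, hAw, hab]
    module
  · have hrw : refl f c w = w := hf.refl_fix (by rw [hf.symm]; exact hc1)
    have hrz : refl f c z = z := hf.refl_fix (by rw [hf.symm]; exact hc2)
    have hrc : refl f c c = -c := by rw [refl_apply, div_mul_cancel₀ _ hcc]; module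
    obtain ⟨z₀, h0, e⟩ := key (B := refl f c ∘ₗ A) (fun x y => by simp [hf.refl_isometry hcc, hA])
      (by rw [LinearMap.comp_apply, hAw, hrw]) (by
        rw [LinearMap.comp_apply, show A z = z + k • w by rw [hk]; abel, map_add, map_smul, hrw, hrz,
          add_sub_cancel_left]
        exact Submodule.smul_mem _ _ (Submodule.mem_span_singleton_self w)) fun x hx => by
        obtain ⟨s, t, rfl⟩ := hspan x hx
        refine Submodule.mem_span_singleton.2 ⟨t * a, ?_⟩
        rw [LinearMap.comp_apply, map_add, map_smul, map_smul, hAw, hab, map_add, map_smul, hrw, map_smul, map_add,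
          map_smul, map_smul, hrw, hrc]
        module
    exact Or.inr ⟨c, z₀, hcc, hc1, h0, fun x => by rw [← e, LinearMap.comp_apply, hf.refl_refl hcc]⟩

/-- An isometry commuting with a Siegel map. -/
theorem commute_sv {A : U →ₗ[F] U} (hA : ∀ x y, f (A x) (A y) = f x y) {w z : U} (hw : f w w = 0) (hw0 : w ≠ 0)
    (hz : f w z = 0) (hzz : f z z ≠ 0) (h : ∀ x, A (sv f w z x) = sv f w z (A x)) :
    ∃ r : F, r * r = 1 ∧ A w = r • w ∧ A z - r • z ∈ Submodule.span F {w} := by
  obtain ⟨u, -, hwu⟩ := exists_iso_partner hf hw hw0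
  set r := f w (A u)
  have hsq : ∀ x, A ((-(f z z * f w x)) • w) = (-(f z z * f w (A x))) • w := fun x => by
    rw [← sv_sq hf hw hz, ← sv_sq hf hw hz, map_sub, map_sub, map_sub, h, h]
  have hAw : A w = r • w := by
    have h1 := hsq u
    rw [hwu, mul_one, map_smul, neg_smul, neg_smul, neg_inj, mul_smul] at h1
    exact smul_right_injective U hzz h1
  have hr : r * r = 1 := by
    have h1 := hA w u
    rw [hAw, map_smul, LinearMap.smul_apply, smul_eq_mul, hwu] at h1
    exact h1
  refine ⟨r, hr, hAw, Submodule.mem_span_singleton.2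
    ⟨f z u * r + f z z / 2 * r - f z (A u) - f z z / 2 * r, ?_⟩⟩
  have h1 := h u
  rw [sv_apply, sv_apply, hwu, one_smul, mul_one, map_sub, map_sub, map_add, map_smul, map_smul, hAw] at h1
  linear_combination (norm := module) -h1

end CfsgLib.Geo.OrthTensorFour
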