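/-
`O₃ ⊗ O₄⁻`: the setting, isometries of the factors and their membership in the group.
-/
import Cfsg.Agent.Lib.Geo.OrthTensorFour.Thin

set_option autoImplicit false
set_option linter.unusedSectionVars false

namespace CfsgLib.Geo.OrthTensorFour

open CfsgLib.Classical CfsgLib.Classical.Quad Module
open CfsgLib.Geo.MixTensor (SymForm)
open CfsgLib.Geo.OrthTensor (sv sv_apply sv_norm sv_eq_refl exists_iso_partner exists_aniso_perp Tensor Tens Elig)
open CfsgLib.Known.OmegaCriterion
open QuadraticMap (polar polarBilin)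
open LinearMap (BilinForm)

variable {F : Type*} [Field F] [Finite F] {U W V : Type*} [AddCommGroup U] [Module F U] [FiniteDimensional F U]
  [AddCommGroup W] [Module F W] [FiniteDimensional F W] [AddCommGroup V] [Module F V] [FiniteDimensional F V]
  {Q : QuadraticForm F V} {f : BilinForm F U} {g : BilinForm F W} {T : U →ₗ[F] W →ₗ[F] V}
  {K : Subgroup (OQ Q)}

local notation "reflU" => MixTensor.refl f
local notation "reflW" => MixTensor.refl g

theorem finite_OQ' (Q : QuadraticForm F V) : Finite (OQ Q) := by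
  have : Finite V := Module.finite_of_finite F
  have : Finite (V ≃ₗ[F] V) := DFunLike.finite _
  exact inferInstance

/-- An overgroup of the stabiliser of `O₃ ⊗ O₄⁻` without central elements. -/
structure Four (Q : QuadraticForm F V) (f : BilinForm F U) (g : BilinForm F W) (T : U →ₗ[F] W →ₗ[F] V)
    (K : Subgroup (OQ Q)) : Prop extends Tensor Q f g T where
  dU : finrank F U = 3
  dW : finrank F W = 4
  thin : Thin g
  five : 5 ≤ Nat.card F
  base : ∀ k ∈ commutator (OQ Q), Tens T k → k ∈ K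
  sub : K ≤ commutator (OQ Q)
  nc : ∀ k ∈ K, ∀ (w : W) (φ : U →ₗ[F] U), w ≠ 0 → g w w = 0 →
    (∀ a y, (k : V ≃ₗ[F] V) (T a y) = T a y + g w y • T (φ a) w) → φ = 0

/-- An element acting on the first factor alone. -/
def PU (T : U →ₗ[F] W →ₗ[F] V) (k : OQ Q) (A : U →ₗ[F] U) : Prop :=
  ∀ a y, (k : V ≃ₗ[F] V) (T a y) = T (A a) y

/-- An element acting on the second factor alone. -/
def PW (T : U →ₗ[F] W →ₗ[F] V) (k : OQ Q) (B : W →ₗ[F] W) : Prop :=
  ∀ a y, (k : V ≃ₗ[F] V) (T a y) = T a (B y)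

/-- A map of the first factor in the group. -/
def InU (K : Subgroup (OQ Q)) (T : U →ₗ[F] W →ₗ[F] V) (A : U →ₗ[F] U) : Prop := ∃ k ∈ K, PU T k A

/-- A map of the second factor in the group. -/
def InW (K : Subgroup (OQ Q)) (T : U →ₗ[F] W →ₗ[F] V) (B : W →ₗ[F] W) : Prop := ∃ k ∈ K, PW T k B

theorem PU.mul {k k' : OQ Q} {A A' : U →ₗ[F] U} (h : PU T k A) (h' : PU T k' A') : PU T (k * k') (A ∘ₗ A') :=
  fun a y => by
    show (k : V ≃ₗ[F] V) ((k' : V ≃ₗ[F] V) (T a y)) = _
    rw [h', h]; rfl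

theorem PW.mul {k k' : OQ Q} {B B' : W →ₗ[F] W} (h : PW T k B) (h' : PW T k' B') : PW T (k * k') (B ∘ₗ B') :=
  fun a y => by
    show (k : V ≃ₗ[F] V) ((k' : V ≃ₗ[F] V) (T a y)) = _
    rw [h', h]; rfl

theorem InU.mul {A A' : U →ₗ[F] U} (h : InU K T A) (h' : InU K T A') : InU K T (A ∘ₗ A') := by
  obtain ⟨k, hk, e⟩ := h
  obtain ⟨k', hk', e'⟩ := h'
  exact ⟨k * k', K.mul_mem hk hk', e.mul e'⟩

theorem InW.mul {B B' : W →ₗ[F] W} (h : InW K T B) (h' : InW K T B') : InW K T (B ∘ₗ B') := by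
  obtain ⟨k, hk, e⟩ := h
  obtain ⟨k', hk', e'⟩ := h'
  exact ⟨k * k', K.mul_mem hk hk', e.mul e'⟩

theorem InU.one : InU K T (LinearMap.id : U →ₗ[F] U) := ⟨1, K.one_mem, fun _ _ => rfl⟩

theorem InW.one : InW K T (LinearMap.id : W →ₗ[F] W) := ⟨1, K.one_mem, fun _ _ => rfl⟩

namespace Four

variable (O : Four Q f g T K)
include O

theorem thinU : Thin f := thin_three O.hf O.dU

theorem dV : finrank F V = 12 := by rw [O.finrank_eq, O.dU, O.dW]

theorem reflTop : reflGroup Q = ⊤ := reflGroup_eq_top O.hQ (Or.inr (by rw [O.dV]; omega))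

theorem ntU : Nontrivial U := Module.nontrivial_of_finrank_pos (R := F) (by rw [O.dU]; omega)

theorem ntW : Nontrivial W := Module.nontrivial_of_finrank_pos (R := F) (by rw [O.dW]; omega)

theorem exists_scale : ∃ l : F, l ≠ 0 ∧ l * l ≠ 1 := by
  classical
  have := Fintype.ofFinite F
  by_contra! h
  have h5 := O.five
  rw [Nat.card_eq_fintype_card] at h5
  have : (Finset.univ : Finset F) ⊆ {0, 1, -1} := fun l _ => by
    by_cases hl : l = 0
    · simp [hl]
    · rcases mul_self_eq_one_iff.1 (h l hl) with rfl | rfl <;> simp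
  have h3 := (Finset.card_le_card this).trans Finset.card_le_three
  rw [Finset.card_univ] at h3
  omega

theorem exists_aniso_orth {w : W} (hw : g w w = 0) (hw0 : w ≠ 0) :
    ∃ u, g u u = 0 ∧ g w u = 1 ∧ ∃ h, g h h ≠ 0 ∧ g w h = 0 ∧ g u h = 0 := by
  obtain ⟨u, huu, hwu⟩ := exists_iso_partner O.hg hw hw0
  obtain ⟨h, hh, hhP⟩ := exists_aniso_perp O.hg _ (CfsgLib.Geo.OrthTensor.pair_nondeg O.hg hw huu hwu) (by
    classical
    have e' : ({w, u} : Set W) = (({w, u} : Finset W) : Set W) := by simp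
    show finrank F (Submodule.span F ({w, u} : Set W)) < _
    rw [e', O.dW]
    exact lt_of_le_of_lt ((finrank_span_finset_le_card _).trans Finset.card_le_two) (by omega))
  exact ⟨u, huu, hwu, h, hh, hhP w (Submodule.subset_span (Set.mem_insert _ _)),
    hhP u (Submodule.subset_span (Set.mem_insert_of_mem _ rfl))⟩

theorem exists_aniso_orthU {w : U} (hw : f w w = 0) (hw0 : w ≠ 0) :
    ∃ u, f u u = 0 ∧ f w u = 1 ∧ ∃ h, f h h ≠ 0 ∧ f w h = 0 ∧ f u h = 0 := by
  obtain ⟨u, huu, hwu⟩ := exists_iso_partner O.hf hw hw0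
  obtain ⟨h, hh, hhP⟩ := exists_aniso_perp O.hf _ (CfsgLib.Geo.OrthTensor.pair_nondeg O.hf hw huu hwu) (by
    classical
    have e' : ({w, u} : Set U) = (({w, u} : Finset U) : Set U) := by simp
    show finrank F (Submodule.span F ({w, u} : Set U)) < _
    rw [e', O.dU]
    exact lt_of_le_of_lt ((finrank_span_finset_le_card _).trans Finset.card_le_two) (by omega))
  exact ⟨u, huu, hwu, h, hh, hhP w (Submodule.subset_span (Set.mem_insert _ _)),
    hhP u (Submodule.subset_span (Set.mem_insert_of_mem _ rfl))⟩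

/-- Two vectors orthogonal to three vectors of a hyperbolic frame of the first factor are equal. -/
theorem zero_of_frameU {d e z r : U} (hd : f d d = 0) (hd0 : d ≠ 0) (hde : f d e = 1) (hdz : f d z = 0)
    (hz : f z z ≠ 0) (h1 : f d r = 0) (h2 : f e r = 0) (h3 : f z r = 0) : r = 0 := by
  have hX := finrank_orth_two O.hf hd0 hd hdz hz
  rw [O.dU] at hX
  have hle : Submodule.span F {d} ≤ LinearMap.ker (f d) ⊓ LinearMap.ker (f z) :=
    (Submodule.span_singleton_le_iff_mem ..).2 ⟨hd, by simp [O.hf.symm d z, hdz]⟩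
  have he := Submodule.eq_of_le_of_finrank_le hle (by rw [finrank_span_singleton hd0]; omega)
  obtain ⟨c, rfl⟩ := Submodule.mem_span_singleton.1 (he.ge ⟨h1, h3⟩)
  rw [map_smul, smul_eq_mul, O.hf.symm d e, hde, mul_one] at h2
  rw [h2, zero_smul]

/-- Two orthogonal vectors of the anisotropic plane of a singular vector. -/
theorem plane_class {w c c' : W} (hw : g w w = 0) (hw0 : w ≠ 0) (h1 : g w c = 0) (h2 : g w c' = 0)
    (h : g c c' = 0) (hc : g c c ≠ 0) (hc' : g c' c' ≠ 0) : ¬ IsSquare (-(g c c * g c' c')) := by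
  rintro ⟨s, hs⟩
  have hq : g (g c' c' • c + s • c') (g c' c' • c + s • c') = 0 := by
    simp only [map_add, map_smul, LinearMap.add_apply, LinearMap.smul_apply, smul_eq_mul, h, O.hg.symm c c',
      mul_zero, add_zero, zero_add]
    linear_combination -(g c' c') * hs
  obtain ⟨k, hk⟩ := Submodule.mem_span_singleton.1 (O.thin w _ hw hw0 (by simp [h1, h2]) hq)
  have h3 := congrArg (g c) hk
  simp only [map_add, map_smul, smul_eq_mul, h, O.hg.symm w c, h1, mul_zero, add_zero] at h3
  exact mul_ne_zero hc' hc h3.symm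

/-- A frame of the second factor. -/
theorem zero_of_frameW {w u c c' r : W} (hw : g w w = 0) (hw0 : w ≠ 0) (hwu : g w u = 1) (h1 : g w c = 0)
    (h2 : g w c' = 0) (hu : g u c' = 0) (h : g c c' = 0) (hc : g c c ≠ 0) (hc' : g c' c' ≠ 0)
    (k1 : g w r = 0) (k2 : g u r = 0) (k3 : g c r = 0) (k4 : g c' r = 0) : r = 0 := by
  have hX := finrank_orth_two O.hg hw0 hw h1 hc
  rw [O.dW] at hX
  have hc'w : c' ∉ Submodule.span F {w} := fun hm => by
    obtain ⟨k, hk⟩ := Submodule.mem_span_singleton.1 hm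
    exact hc' (by rw [← hk]; simp [hw])
  have hlt : Submodule.span F {w} < Submodule.span F ({w, c'} : Set W) :=
    lt_of_le_of_ne (Submodule.span_mono (by simp)) fun e => hc'w (e.symm ▸ Submodule.subset_span (by simp))
  have h5 := Submodule.finrank_lt_finrank_of_lt hlt
  rw [finrank_span_singleton hw0] at h5
  have hle : Submodule.span F ({w, c'} : Set W) ≤ LinearMap.ker (g w) ⊓ LinearMap.ker (g c) :=
    Submodule.span_le.2 (Set.insert_subset ⟨hw, by simp [O.hg.symm w c, h1]⟩
      (Set.singleton_subset_iff.2 ⟨h2, h⟩))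
  have e := Submodule.eq_of_le_of_finrank_le hle (by omega)
  obtain ⟨a, b, rfl⟩ := Submodule.mem_span_pair.1 (e.ge ⟨k1, k3⟩)
  simp only [map_add, map_smul, smul_eq_mul, O.hg.symm w u, hwu, hu, O.hg.symm w c', h2, mul_zero, mul_one,
    add_zero, zero_add, mul_eq_zero, hc', or_false] at k2 k4
  rw [k2, k4, zero_smul, zero_smul, add_zero]

theorem exists_PU {A : U →ₗ[F] U} (hA : ∀ a b, f (A a) (A b) = f a b) : ∃ k : OQ Q, PU T k A :=
  O.exists_el (B := LinearMap.id) hA fun _ _ => rfl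

theorem exists_PW {B : W →ₗ[F] W} (hB : ∀ y z, g (B y) (B z) = g y z) : ∃ k : OQ Q, PW T k B :=
  O.exists_el (A := LinearMap.id) (fun _ _ => rfl) hB

theorem inU_pair {d d' : U} (hd : f d d ≠ 0) (hd' : f d' d' ≠ 0) : InU K T (reflU d ∘ₗ reflU d') := by
  obtain ⟨k, hk, e⟩ := O.toTensor.flip.pair_mem (c := d) (c' := d') (by rw [O.dV]; omega)
    ⟨hd, hd', Or.inl (by rw [O.dW]; decide)⟩
  exact ⟨k, O.base k hk ⟨reflU d ∘ₗ reflU d', LinearMap.id, fun a y => e y a⟩, fun a y => e y a⟩

theorem inW_siegel {w z : W} (hw : g w w = 0) (h : g w z = 0) (hz : g z z ≠ 0) : InW K T (sv g w z) := by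
  have hn := sv_norm O.hg hw h
  obtain ⟨k, hk, e⟩ := O.pair_mem (c := z) (c' := z + (g z z / 2) • w) (by rw [O.dV]; omega)
    ⟨hz, hn.symm ▸ hz, Or.inr ⟨g z z, by rw [hn]⟩⟩
  refine ⟨k, O.base k hk ⟨LinearMap.id, reflW z ∘ₗ reflW (z + (g z z / 2) • w), fun a y => ?_⟩, fun a y => ?_⟩
  · exact e a y
  · rw [e, sv_eq_refl O.hg hw h hz]

theorem inU_siegel {w z : U} (hw : f w w = 0) (h : f w z = 0) (hz : f z z ≠ 0) : InU K T (sv f w z) := by
  have hn := sv_norm O.hf hw h
  obtain ⟨k, hk, e⟩ := O.inU_pair hz (hn.symm ▸ hz : f (z + (f z z / 2) • w) (z + (f z z / 2) • w) ≠ 0)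
  exact ⟨k, hk, fun a y => by rw [e, sv_eq_refl O.hf hw h hz]; rfl⟩

theorem inW_iso {B : W →ₗ[F] W} (h : InW K T B) (y z : W) : g (B y) (B z) = g y z := by
  obtain ⟨k, -, e⟩ := h
  have := O.ntU
  obtain ⟨a, ha⟩ := O.hf.exists_aniso
  have h1 := OQ.map_polar k (T a y) (T a z)
  rw [e, e, O.polarT, O.polarT] at h1
  exact mul_left_cancel₀ ha h1

theorem inU_iso {A : U →ₗ[F] U} (h : InU K T A) (a b : U) : f (A a) (A b) = f a b := by
  obtain ⟨k, -, e⟩ := h
  have := O.ntW
  obtain ⟨y, hy⟩ := O.hg.exists_aniso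
  have h1 := OQ.map_polar k (T a y) (T b y)
  rw [e, e, O.polarT, O.polarT] at h1
  exact mul_right_cancel₀ hy h1

theorem PU_unique {k : OQ Q} {A A' : U →ₗ[F] U} (h : PU T k A) (h' : PU T k A') : A = A' := by
  have := O.ntW
  obtain ⟨y, hy⟩ := O.hg.exists_aniso
  exact LinearMap.ext fun a => O.T_injective (r := y) (fun h0 => hy (by simp [h0])) ((h a y).symm.trans (h' a y))

theorem PW_unique {k : OQ Q} {B B' : W →ₗ[F] W} (h : PW T k B) (h' : PW T k B') : B = B' := by
  have := O.ntU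
  obtain ⟨a, ha⟩ := exists_ne (0 : U)
  exact LinearMap.ext fun y => O.T_injective' ha ((h a y).symm.trans (h' a y))

/-- Parity and spinor norms: `-1` is outside the commutator subgroup, and so is a reflection of either factor. -/
theorem invariants :
    (∃ N : OQ Q, (∀ v, (N : V ≃ₗ[F] V) v = -v) ∧ par N = 0 ∧ spinor N ≠ 1 ∧
      ∀ c, f c c ≠ 0 → ∀ k : OQ Q, PU T k (reflU c) → par k = 0 ∧ spinor k = spinor N) ∧
    ∀ c, g c c ≠ 0 → ∀ k : OQ Q, PW T k (reflW c) → par k = 1 := by
  classical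
  have hR := O.reflTop
  have h5 : 5 ≤ finrank F V := by rw [O.dV]; omega
  obtain ⟨K₀, hK⟩ := O.toTensor.refl_invariants h5
  obtain ⟨K₁, hK₁⟩ := O.toTensor.flip.refl_invariants h5
  rw [O.dU] at hK
  rw [O.dW] at hK₁
  have := O.ntW
  have := O.ntU
  -- `-1` as a product of four reflections of the second factor
  obtain ⟨w, -, hw0, hw⟩ := O.hg.exists_isotropic (P := (⊤ : Submodule F W)) (by rw [finrank_top, O.dW]; omega)
  obtain ⟨u, huu, hwu, c, hc, hwc, huc⟩ := O.exists_aniso_orth hw hw0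
  obtain ⟨c', hc', hc'P⟩ : ∃ c', g c' c' ≠ 0 ∧ g w c' = 0 ∧ g u c' = 0 ∧ g c c' = 0 := by
    obtain ⟨c', hc', hP⟩ := exists_aniso_perp O.hg (Submodule.span F (({w, u, c} : Finset W) : Set W)) (by
        intro x hx hxP
        simp only [Finset.coe_insert, Finset.coe_singleton, Submodule.mem_span_insert,
          Submodule.mem_span_singleton] at hx
        obtain ⟨α, _, ⟨β, _, ⟨γ, rfl⟩, rfl⟩, rfl⟩ := hx
        have k1 := hxP w (Submodule.subset_span (by simp))
        have k2 := hxP u (Submodule.subset_span (by simp))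
        have k3 := hxP c (Submodule.subset_span (by simp))
        simp only [map_add, map_smul, smul_eq_mul, hw, huu, hwu, O.hg.symm w u, hwc, huc, O.hg.symm w c,
          O.hg.symm u c, mul_zero, mul_one, add_zero, zero_add, mul_eq_zero, hc, or_false] at k1 k2 k3
        simp [k1, k2, k3])
      (lt_of_le_of_lt ((finrank_span_finset_le_card _).trans Finset.card_le_three) (by rw [O.dW]; omega))
    exact ⟨c', hc', hP w (Submodule.subset_span (by simp)), hP u (Submodule.subset_span (by simp)),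
      hP c (Submodule.subset_span (by simp))⟩
  obtain ⟨hwc', huc', hcc'⟩ := hc'P
  have hp : g (w + u) (w + u) = 2 := by simp [hw, huu, hwu, O.hg.symm w u]; norm_num
  have hm : g (w - u) (w - u) = -2 := by simp [hw, huu, hwu, O.hg.symm w u]; norm_num
  have hp0 : g (w + u) (w + u) ≠ 0 := hp ▸ O.two
  have hm0 : g (w - u) (w - u) ≠ 0 := hm ▸ neg_ne_zero.2 O.two
  obtain ⟨k₁, e₁, p₁, s₁⟩ := hK _ hp0
  obtain ⟨k₂, e₂, p₂, s₂⟩ := hK _ hm0
  obtain ⟨k₃, e₃, p₃, s₃⟩ := hK _ hc
  obtain ⟨k₄, e₄, p₄, s₄⟩ := hK _ hc'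
  set N : OQ Q := k₁ * k₂ * (k₃ * k₄)
  have hN : ∀ v, (N : V ≃ₗ[F] V) v = -v := fun v =>
    LinearMap.congr_fun (O.hom_ext (L := ((N : V ≃ₗ[F] V) : V →ₗ[F] V)) (L' := -LinearMap.id) fun a y => by
      show (k₁ : V ≃ₗ[F] V) ((k₂ : V ≃ₗ[F] V) ((k₃ : V ≃ₗ[F] V) ((k₄ : V ≃ₗ[F] V) (T a y)))) = -T a y
      rw [e₄, e₃, e₂, e₁, ← map_neg]
      congr 1
      refine sub_eq_zero.1 (O.zero_of_frameW hw hw0 hwu hwc hwc' huc' hcc' hc hc' ?_ ?_ ?_ ?_) <;>
      · have h2 := O.two
        simp [MixTensor.refl_apply, hw, huu, hwu, O.hg.symm w u, hwc, huc, O.hg.symm w c, O.hg.symm u c, hwc', huc',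
          O.hg.symm w c', O.hg.symm u c', hcc', O.hg.symm c c', hp, hm, div_neg, inv_neg, div_self h2]
        all_goals
          first
          | (rw [show (2 : F) / (-1 - 1) = -1 by rw [show (-1 : F) - 1 = -2 by ring, div_neg, div_self h2],
                show (2 : F) / (1 + 1) = 1 by rw [one_add_one_eq_two, div_self h2]]; ring)
          | (field_simp; ring)) v
  have hpN : par N = 0 := by
    rw [par_mul O.hQ hR, par_mul O.hQ hR, par_mul O.hQ hR, p₁, p₂, p₃, p₄]
    push_cast
    decide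
  have h22 : (2 : F) * -2 ≠ 0 := mul_ne_zero O.two (neg_ne_zero.2 O.two)
  have hsN : spinor N ≠ 1 := by
    rw [spinor_mul O.hQ hR, spinor_mul O.hQ hR, spinor_mul O.hQ hR, s₁, s₂, s₃, s₄, hp, hm,
      mul_mul_mul_comm K₀, mul_mul_mul_comm K₀ _ K₀, sqClass_mul_self, one_mul, one_mul, ← mul_pow, ← mul_pow,
      ← mul_pow, ← sqc_mul O.two (neg_ne_zero.2 O.two), ← sqc_mul hc hc', ← sqc_mul h22 (mul_ne_zero hc hc'),
      pow_succ, pow_two, sqClass_mul_self, one_mul, Ne, sqc_eq_one_iff (mul_ne_zero h22 (mul_ne_zero hc hc'))]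
    rintro ⟨s, hs⟩
    refine O.plane_class hw hw0 hwc hwc' hcc' hc hc' ⟨s / 2, ?_⟩
    have h2 := O.two
    field_simp
    linear_combination hs
  -- `-1` as a product of three reflections of the first factor
  obtain ⟨d, -, hd0, hd⟩ := O.hf.exists_isotropic (P := (⊤ : Submodule F U)) (by rw [finrank_top, O.dU])
  obtain ⟨e, hee, hde, z, hz, hdz, hez⟩ := O.exists_aniso_orthU hd hd0
  have hp' : f (d + e) (d + e) = 2 := by simp [hd, hee, hde, O.hf.symm d e]; norm_num
  have hm' : f (d - e) (d - e) = -2 := by simp [hd, hee, hde, O.hf.symm d e]; norm_num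
  obtain ⟨l₁, a₁, q₁, t₁⟩ := hK₁ (d + e) (hp' ▸ O.two)
  obtain ⟨l₂, a₂, q₂, t₂⟩ := hK₁ (d - e) (hm' ▸ neg_ne_zero.2 O.two)
  obtain ⟨l₃, a₃, q₃, t₃⟩ := hK₁ z hz
  have hfour : ∀ s : SqClass F, s ^ 4 = 1 := fun s => by
    rw [show (4 : ℕ) = 2 * 2 from rfl, pow_mul, pow_two s, sqClass_mul_self, one_pow]
  have hNl : l₁ * l₂ * l₃ = N := O.el_ext fun a y => by
    rw [hN]
    show (l₁ : V ≃ₗ[F] V) ((l₂ : V ≃ₗ[F] V) ((l₃ : V ≃ₗ[F] V) (T.flip y a))) = -T.flip y a
    rw [a₃, a₂, a₁, ← map_neg]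
    congr 1
    refine sub_eq_zero.1 (O.zero_of_frameU hd hd0 hde hdz hz ?_ ?_ ?_) <;>
    · have h2 := O.two
      simp [MixTensor.refl_apply, hd, hee, hde, O.hf.symm d e, hdz, hez, O.hf.symm d z, O.hf.symm e z, hp', hm', div_neg, inv_neg, div_self h2]
      all_goals
        first
        | (rw [show (2 : F) / (-1 - 1) = -1 by rw [show (-1 : F) - 1 = -2 by ring, div_neg, div_self h2],
              show (2 : F) / (1 + 1) = 1 by rw [one_add_one_eq_two, div_self h2]]; ring)
        | (field_simp; ring)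
  have hK₁N : K₁ = spinor N := by
    rw [← hNl, spinor_mul O.hQ hR, spinor_mul O.hQ hR, t₁, t₂, t₃, hfour, hfour, hfour, mul_one, sqClass_mul_self,
      one_mul]
  refine ⟨⟨N, hN, hpN, hsN, fun c hc k hk => ?_⟩, fun c hc k hk => ?_⟩
  · obtain ⟨k', e', p', s'⟩ := hK₁ c hc
    rw [show k = k' from O.el_ext fun a y => (hk a y).trans (e' y a).symm, p', s', hfour, mul_one, hK₁N]
    exact ⟨by decide, rfl⟩
  · obtain ⟨k', e', p', -⟩ := hK c hc
    rw [show k = k' from O.el_ext fun a y => (hk a y).trans (e' a y).symm, p']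
    decide

theorem not_negU : ¬ InU K T (-LinearMap.id : U →ₗ[F] U) := by
  rintro ⟨k, hk, e⟩
  obtain ⟨⟨N, hN, -, hs, -⟩, -⟩ := O.invariants
  rw [show k = N from O.el_ext fun a y => by rw [e, hN]; simp] at hk
  exact hs ((mem_commutator_iff O.hQ O.reflTop N).1 (O.sub hk)).2

theorem not_negW : ¬ InW K T (-LinearMap.id : W →ₗ[F] W) := by
  rintro ⟨k, hk, e⟩
  obtain ⟨⟨N, hN, -, hs, -⟩, -⟩ := O.invariants
  rw [show k = N from O.el_ext fun a y => by rw [e, hN]; simp] at hk
  exact hs ((mem_commutator_iff O.hQ O.reflTop N).1 (O.sub hk)).2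

theorem not_reflU {c : U} (hc : f c c ≠ 0) : ¬ InU K T (reflU c) := by
  rintro ⟨k, hk, e⟩
  obtain ⟨⟨N, -, -, hs, hr⟩, -⟩ := O.invariants
  exact hs ((hr c hc k e).2 ▸ ((mem_commutator_iff O.hQ O.reflTop k).1 (O.sub hk)).2)

theorem not_reflW {c : W} (hc : g c c ≠ 0) : ¬ InW K T (reflW c) := by
  rintro ⟨k, hk, e⟩
  have h := ((mem_commutator_iff O.hQ O.reflTop k).1 (O.sub hk)).1
  rw [O.invariants.2 c hc k e] at h
  exact one_ne_zero h

theorem not_neg_reflW {c : W} (hc : g c c ≠ 0) : ¬ InW K T (-reflW c) := by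
  rintro ⟨k, hk, e⟩
  obtain ⟨⟨N, hN, hp, -, -⟩, hr⟩ := O.invariants
  obtain ⟨k', e'⟩ := O.exists_PW (O.hg.refl_isometry hc)
  have h := ((mem_commutator_iff O.hQ O.reflTop k).1 (O.sub hk)).1
  rw [show k = N * k' from O.el_ext fun a y => by
    rw [e]
    show _ = (N : V ≃ₗ[F] V) ((k' : V ≃ₗ[F] V) (T a y))
    rw [e', hN]; simp, par_mul O.hQ O.reflTop, hp, hr c hc k' e', zero_add] at h
  exact one_ne_zero h

/-- The negative of a reflection of the first factor. -/
theorem inU_neg_refl {x : U} (hx : f x x ≠ 0) : InU K T (-reflU x) := by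
  obtain ⟨d, -, hd0, hd⟩ := O.hf.exists_isotropic (P := (⊤ : Submodule F U)) (by rw [finrank_top, O.dU])
  obtain ⟨e, hee, hde, z, hz, hdz, hez⟩ := O.exists_aniso_orthU hd hd0
  have hp' : f (d + e) (d + e) = 2 := by simp [hd, hee, hde, O.hf.symm d e]; norm_num
  have hm' : f (d - e) (d - e) = -2 := by simp [hd, hee, hde, O.hf.symm d e]; norm_num
  have h := (O.inU_pair (d := d + e) (d' := d - e) (hp' ▸ O.two) (hm' ▸ neg_ne_zero.2 O.two)).mul (O.inU_pair hz hx)
  convert h using 1
  refine LinearMap.ext fun a => ?_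
  have hneg : ∀ b, reflU (d + e) (reflU (d - e) (reflU z b)) = -b := fun b => by
    refine sub_eq_zero.1 (O.zero_of_frameU hd hd0 hde hdz hz ?_ ?_ ?_) <;>
    · have h2 := O.two
      simp [MixTensor.refl_apply, hd, hee, hde, O.hf.symm d e, hdz, hez, O.hf.symm d z, O.hf.symm e z, hp', hm', div_neg, inv_neg, div_self h2]
      all_goals
        first
        | (rw [show (2 : F) / (-1 - 1) = -1 by rw [show (-1 : F) - 1 = -2 by ring, div_neg, div_self h2],
              show (2 : F) / (1 + 1) = 1 by rw [one_add_one_eq_two, div_self h2]]; ring)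
        | (field_simp; ring)
  simp [hneg]

/-- The negative of a reflection of a three-dimensional space has determinant one. -/
theorem det_neg_refl {x : U} (hx : f x x ≠ 0) : LinearMap.det (-reflU x) = 1 := by
  have h1 : reflU x = LinearMap.transvection (-(2 / f x x) • f x) x := by
    refine LinearMap.ext fun a => ?_
    rw [MixTensor.refl_apply, LinearMap.transvection.apply]
    simp [smul_smul, sub_eq_add_neg]
  rw [← neg_one_smul F (reflU x), LinearMap.det_smul, h1, LinearMap.transvection.det, O.dU]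
  simp only [LinearMap.smul_apply, smul_eq_mul]
  field_simp
  ring

/-- Up to sign every isometry of the first factor lies in the group. -/
theorem inU_or_neg' {A : U →ₗ[F] U} (hA : ∀ a b, f (A a) (A b) = f a b) :
    (InU K T A ∧ LinearMap.det A = 1) ∨ (InU K T (-A) ∧ LinearMap.det (-A) = 1) := by
  have hf := O.hf
  let P : (U →ₗ[F] U) → Prop := fun A => InU K T A ∧ LinearMap.det A = 1
  have pmul : ∀ {A B : U →ₗ[F] U}, P A → P B → P (A ∘ₗ B) := fun h h' =>
    ⟨h.1.mul h'.1, by rw [LinearMap.det_comp, h.2, h'.2, one_mul]⟩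
  have pneg : ∀ {x : U}, f x x ≠ 0 → P (-reflU x) := fun hx => ⟨O.inU_neg_refl hx, O.det_neg_refl hx⟩
  show P A ∨ P (-A)
  -- composing with a reflection
  have step : ∀ {x : U} {A : U →ₗ[F] U}, f x x ≠ 0 → (P (reflU x ∘ₗ A) ∨ P (-(reflU x ∘ₗ A))) →
      P A ∨ P (-A) := by
    intro x A hx h
    have e : A = reflU x ∘ₗ (reflU x ∘ₗ A) := LinearMap.ext fun a => (hf.refl_refl hx _).symm
    rcases h with h | h
    · refine Or.inr ?_
      convert pmul (pneg hx) h using 1
      exact LinearMap.ext fun a => by simp [hf.refl_refl hx]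
    · refine Or.inl ?_
      convert pmul (pneg hx) h using 1
      exact LinearMap.ext fun a => by simp [hf.refl_refl hx]
  -- fixing one more vector
  have fixone : ∀ {A : U →ₗ[F] U}, (∀ a b, f (A a) (A b) = f a b) → ∀ c, f c c ≠ 0 →
      (∀ B : U →ₗ[F] U, (∀ a b, f (B a) (B b) = f a b) → B c = c →
        (∀ b, A b = b → f c b = 0 → B b = b) → P B ∨ P (-B)) → P A ∨ P (-A) := by
    intro A hA c hc h
    by_cases h0 : f (A c - c) (A c - c) = 0
    · by_cases hfix : A c = c
      · exact h A hA hfix fun b hb _ => hb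
      have hAc : f (A c) (A c) = f c c := hA c c
      have hne : f (A c + c) (A c + c) ≠ 0 := by
        rcases hf.sub_or_add (a := A c) (b := c) hAc (hAc.symm ▸ hc) with h1 | h1
        · exact absurd h0 h1
        · exact h1
      refine step hne (step (x := c) hc ?_)
      refine h _ (fun a b => by simp [hf.refl_isometry hc, hf.refl_isometry hne, hA]) ?_ ?_
      · have e1 : reflU (A c + c) (A c) = -c := by
          have h1 := hf.refl_swap (a := A c) (b := -c) (by simp [hAc]) (by rwa [sub_neg_eq_add])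
          rwa [sub_neg_eq_add] at h1
        simp only [LinearMap.comp_apply, e1, map_neg, MixTensor.refl_apply, div_mul_cancel₀ _ hc]
        module
      · intro b hb hcb
        have hAcb : f (A c) b = 0 := by conv_lhs => rw [← hb, hA, hcb]
        simp only [LinearMap.comp_apply, hb]
        rw [hf.refl_fix (e := A c + c) (x := b) (by rw [map_add, LinearMap.add_apply, hAcb, hcb, add_zero]), hf.refl_fix hcb]
    · refine step h0 (h _ (fun a b => by simp [hf.refl_isometry h0, hA]) ?_ fun b hb hcb => ?_)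
      · rw [LinearMap.comp_apply, hf.refl_swap (hA c c) h0]
      · have hAcb : f (A c) b = 0 := by conv_lhs => rw [← hb, hA, hcb]
        rw [LinearMap.comp_apply, hb, hf.refl_fix (by simp [hAcb, hcb])]
  obtain ⟨d, -, hd0, hd⟩ := hf.exists_isotropic (P := (⊤ : Submodule F U)) (by rw [finrank_top, O.dU])
  obtain ⟨e, hee, hde, z, hz, hdz, hez⟩ := O.exists_aniso_orthU hd hd0
  have h2 := O.two
  have hp' : f (d + e) (d + e) ≠ 0 := by
    have : f (d + e) (d + e) = 2 := by simp [hd, hee, hde, hf.symm d e]; norm_num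
    rwa [this]
  have hm' : f (d - e) (d - e) ≠ 0 := by
    have : f (d - e) (d - e) = -2 := by simp [hd, hee, hde, hf.symm d e]; norm_num
    rw [this]; exact neg_ne_zero.2 h2
  refine fixone hA z hz fun B hB hBz _ => fixone hB (d + e) hp' fun B' hB' hB'p hB'fix =>
    fixone hB' (d - e) hm' fun B'' hB'' hB''m hB''fix => Or.inl ?_
  have e1 : B'' z = z := hB''fix z (hB'fix z hBz (by simp [hf.symm d z, hf.symm e z, hdz, hez]))
    (by simp [hf.symm d z, hf.symm e z, hdz, hez])
  have e2 : B'' (d + e) = d + e := hB''fix _ hB'p (by simp [hd, hee, hde, hf.symm d e])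
  rw [show B'' = LinearMap.id from ?_]
  · exact ⟨InU.one, LinearMap.det_id⟩
  refine LinearMap.ext fun a => sub_eq_zero.1 (O.zero_of_frameU hd hd0 hde hdz hz ?_ ?_ ?_)
  all_goals simp only [LinearMap.id_apply, map_sub]
  · have k1 := hB'' (d + e) a
    have k2 := hB'' (d - e) a
    rw [e2] at k1
    rw [hB''m] at k2
    simp only [map_add, map_sub, LinearMap.add_apply, LinearMap.sub_apply] at k1 k2
    exact mul_left_cancel₀ h2 (by linear_combination k1 + k2)
  · have k1 := hB'' (d + e) a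
    have k2 := hB'' (d - e) a
    rw [e2] at k1
    rw [hB''m] at k2
    simp only [map_add, map_sub, LinearMap.add_apply, LinearMap.sub_apply] at k1 k2
    exact mul_left_cancel₀ h2 (by linear_combination k1 - k2)
  · conv_lhs => arg 1; rw [← e1, hB'']
    exact sub_self _

theorem inU_or_neg {A : U →ₗ[F] U} (hA : ∀ a b, f (A a) (A b) = f a b) : InU K T A ∨ InU K T (-A) :=
  (O.inU_or_neg' hA).imp And.left And.left

/-- A map of the first factor in the group has determinant one. -/
theorem det_inU {A : U →ₗ[F] U} (h : InU K T A) : LinearMap.det A = 1 := by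
  rcases O.inU_or_neg' (O.inU_iso h) with h' | ⟨⟨k', hk', e'⟩, -⟩
  · exact h'.2
  exfalso
  obtain ⟨k, hk, e⟩ := h
  refine O.not_negU ⟨k⁻¹ * k', K.mul_mem (K.inv_mem hk) hk', fun a y => ?_⟩
  show (k : V ≃ₗ[F] V).symm ((k' : V ≃ₗ[F] V) (T a y)) = _
  rw [LinearEquiv.symm_apply_eq, e', e]
  simp

/-- A map of the second factor in the group fixing a singular vector and a vector modulo it. -/
theorem inW_fix_two {B : W →ₗ[F] W} (h : InW K T B) {w z : W} (hw : g w w = 0) (hw0 : w ≠ 0) (hBw : B w = w)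
    (hz : g w z = 0) (hzz : g z z ≠ 0) (hBz : B z - z ∈ Submodule.span F {w}) :
    ∃ z₀, g w z₀ = 0 ∧ ∀ x, B x = sv g w z₀ x := by
  rcases fix_two O.hg (by rw [O.dW]) O.thin (O.inW_iso h) hw hw0 hBw hz hzz hBz with h1 | ⟨c, z₀, hc, hwc, h0, e⟩
  · exact h1
  · exfalso
    by_cases hz₀ : g z₀ z₀ = 0
    · obtain ⟨k, rfl⟩ := Submodule.mem_span_singleton.1 (O.thin w z₀ hw hw0 h0 hz₀)
      exact O.not_reflW hc (by
        convert h using 1
        exact LinearMap.ext fun x => by rw [e, sv_smul_self O.hg hw])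
    · refine O.not_reflW hc (c := c) ?_
      have h2 := h.mul (O.inW_siegel (w := w) (z := -z₀) hw (by simp [h0]) (by simpa using hz₀))
      convert h2 using 1
      exact LinearMap.ext fun x => by rw [LinearMap.comp_apply, e, sv_inv O.hg hw h0]

/-- A map of the second factor in the group commuting with a Siegel map. -/
theorem inW_commute {B : W →ₗ[F] W} (h : InW K T B) {w z : W} (hw : g w w = 0) (hw0 : w ≠ 0) (hz : g w z = 0)
    (hzz : g z z ≠ 0) (hc : ∀ x, B (sv g w z x) = sv g w z (B x)) :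
    ∃ z₀, g w z₀ = 0 ∧ ∀ x, B x = sv g w z₀ x := by
  obtain ⟨r, hr, hBw, hBz⟩ := commute_sv O.hg (O.inW_iso h) hw hw0 hz hzz hc
  rcases mul_self_eq_one_iff.1 hr with rfl | rfl
  · rw [one_smul] at hBw hBz
    exact O.inW_fix_two h hw hw0 hBw hz hzz hBz
  exfalso
  rw [neg_one_smul] at hBw hBz
  rcases fix_two O.hg (by rw [O.dW]) O.thin (A := -B) (fun x y => by simp [O.inW_iso h]) hw hw0
    (by simp [hBw]) hz hzz (by
      rw [LinearMap.neg_apply, show -B z - z = -(B z - -z) by abel]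
      exact neg_mem hBz) with ⟨z₀, h0, e⟩ | ⟨c, z₀, hcc, hwc, h0, e⟩
  all_goals
    have hinv : InW K T (sv g w (-z₀)) := by
      by_cases hz₀ : g z₀ z₀ = 0
      · obtain ⟨k, rfl⟩ := Submodule.mem_span_singleton.1 (O.thin w z₀ hw hw0 h0 hz₀)
        convert (InW.one : InW K T (LinearMap.id : W →ₗ[F] W)) using 1
        exact LinearMap.ext fun x => by rw [← neg_smul, sv_smul_self O.hg hw]; rfl
      · exact O.inW_siegel hw (by simp [h0]) (by simpa using hz₀)
    have h2 := h.mul hinv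
  · refine O.not_negW ?_
    convert h2 using 1
    exact LinearMap.ext fun x => by
      have := e (sv g w (-z₀) x)
      rw [sv_inv O.hg hw h0, LinearMap.neg_apply] at this
      simp only [LinearMap.comp_apply, LinearMap.neg_apply, LinearMap.id_apply]
      exact (neg_eq_iff_eq_neg.1 this).symm
  · refine O.not_neg_reflW hcc ?_
    convert h2 using 1
    exact LinearMap.ext fun x => by
      have := e (sv g w (-z₀) x)
      rw [sv_inv O.hg hw h0, LinearMap.neg_apply] at this
      simp only [LinearMap.comp_apply, LinearMap.neg_apply, LinearMap.id_apply]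
      exact (neg_eq_iff_eq_neg.1 this).symm

/-- A map of the first factor in the group fixing a singular vector. -/
theorem inU_fix {A : U →ₗ[F] U} (h : InU K T A) {w : U} (hw : f w w = 0) (hw0 : w ≠ 0) (hAw : A w = w) :
    ∃ z₀, f w z₀ = 0 ∧ ∀ x, A x = sv f w z₀ x := by
  obtain ⟨u, huu, hwu, z, hzz, hz, huz⟩ := O.exists_aniso_orthU hw hw0
  have hA := O.inU_iso h
  have hzA : f w (A z) = 0 := by conv_lhs => rw [← hAw, hA, hz]
  set r := f u (A z)
  set ε := f z (A z) / f z z
  have hdec : A z = ε • z + r • w := sub_eq_zero.1 (O.zero_of_frameU hw hw0 hwu hz hzz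
    (by simp [hzA, hz, hw]) (by simp [huz, O.hf.symm w u, hwu, r])
    (by simp [hzz, O.hf.symm w z, hz, ε]))
  have hε : ε * ε = 1 := by
    have h1 := hA z z
    rw [hdec] at h1
    simp only [map_add, map_smul, LinearMap.add_apply, LinearMap.smul_apply, smul_eq_mul, hw, hz,
      O.hf.symm w z, mul_zero, add_zero] at h1
    exact mul_right_cancel₀ hzz (by linear_combination h1)
  have key : ∀ {B : U →ₗ[F] U}, (∀ a b, f (B a) (B b) = f a b) → B w = w → B z - z ∈ Submodule.span F {w} →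
      ∃ z₀, f w z₀ = 0 ∧ ∀ x, B x = sv f w z₀ x := by
    intro B hB hBw hBz
    rcases fix_two O.hf (by rw [O.dU]; omega) O.thinU hB hw hw0 hBw hz hzz hBz with h1 | ⟨c, z₀, hcc, hwc, h0, e⟩
    · exact h1
    exfalso
    obtain ⟨k, hk⟩ := Submodule.mem_span_singleton.1 hBz
    rw [e, sv_apply, hz] at hk
    simp only [zero_smul, mul_zero, add_zero, sub_zero, map_sub, map_smul,
      O.hf.refl_fix (show f c w = 0 by rw [O.hf.symm, hwc]), MixTensor.refl_apply f c z] at hk
    have h3 := congrArg (f c) hk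
    simp only [map_sub, map_smul, smul_eq_mul, O.hf.symm w c, hwc, mul_zero, sub_zero] at h3
    field_simp at h3
    have hcz : f c z = 0 := (mul_eq_zero.1 (show (2 : F) * f c z = 0 by linear_combination h3)).resolve_left O.two
    have hc0 : c = f u c • w := sub_eq_zero.1 (O.zero_of_frameU hw hw0 hwu hz hzz (by simp [hwc, hw])
      (by simp [O.hf.symm w u, hwu]) (by simp [O.hf.symm c z, hcz, O.hf.symm w z, hz]))
    exact hcc (by rw [hc0]; simp [hw])
  rcases mul_self_eq_one_iff.1 hε with he | he <;> rw [he] at hdec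
  · exact key hA hAw (Submodule.mem_span_singleton.2 ⟨r, by rw [hdec]; module⟩)
  exfalso
  have hrw : reflU z w = w := O.hf.refl_fix (by rw [O.hf.symm, hz])
  obtain ⟨z₀, h0, e⟩ := key (B := reflU z ∘ₗ A) (fun a b => by simp [O.hf.refl_isometry hzz, hA])
    (by rw [LinearMap.comp_apply, hAw, hrw])
    (Submodule.mem_span_singleton.2 ⟨r, by
      rw [LinearMap.comp_apply, hdec, map_add, map_smul, map_smul, hrw, MixTensor.refl_apply, div_mul_cancel₀ _ hzz]
      module⟩)
  refine O.not_reflU hzz (c := z) ?_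
  have hinv : InU K T (sv f w (-z₀)) := by
    by_cases hz₀ : f z₀ z₀ = 0
    · obtain ⟨k, rfl⟩ := Submodule.mem_span_singleton.1 (O.thinU w z₀ hw hw0 h0 hz₀)
      convert (InU.one : InU K T (LinearMap.id : U →ₗ[F] U)) using 1
      exact LinearMap.ext fun x => by rw [← neg_smul, sv_smul_self O.hf hw]; rfl
    · exact O.inU_siegel hw (by simp [h0]) (by simpa using hz₀)
  convert h.mul hinv using 1
  refine LinearMap.ext fun x => ?_
  have h4 := e (sv f w (-z₀) x)
  rw [sv_inv O.hf hw h0, LinearMap.comp_apply] at h4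
  conv_lhs => rw [← h4, O.hf.refl_refl hzz]
  rfl

/-- A map of the first factor in the group commuting with a Siegel map. -/
theorem inU_commute {A : U →ₗ[F] U} (h : InU K T A) {w z : U} (hw : f w w = 0) (hw0 : w ≠ 0) (hz : f w z = 0)
    (hzz : f z z ≠ 0) (hc : ∀ x, A (sv f w z x) = sv f w z (A x)) :
    ∃ z₀, f w z₀ = 0 ∧ ∀ x, A x = sv f w z₀ x := by
  obtain ⟨r, hr, hAw, hAz⟩ := commute_sv O.hf (O.inU_iso h) hw hw0 hz hzz hc
  rcases mul_self_eq_one_iff.1 hr with rfl | rfl
  · exact O.inU_fix h hw hw0 (by rw [hAw, one_smul])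
  exfalso
  rw [neg_one_smul] at hAw hAz
  rcases fix_two O.hf (by rw [O.dU]; omega) O.thinU (A := -A) (fun x y => by simp [O.inU_iso h]) hw hw0
    (by simp [hAw]) hz hzz (by
      rw [LinearMap.neg_apply, show -A z - z = -(A z - -z) by abel]
      exact neg_mem hAz) with ⟨z₀, h0, e⟩ | ⟨c, z₀, hcc, hwc, h0, e⟩
  · refine O.not_negU ?_
    have hinv : InU K T (sv f w (-z₀)) := by
      by_cases hz₀ : f z₀ z₀ = 0
      · obtain ⟨k, rfl⟩ := Submodule.mem_span_singleton.1 (O.thinU w z₀ hw hw0 h0 hz₀)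
        convert (InU.one : InU K T (LinearMap.id : U →ₗ[F] U)) using 1
        exact LinearMap.ext fun x => by rw [← neg_smul, sv_smul_self O.hf hw]; rfl
      · exact O.inU_siegel hw (by simp [h0]) (by simpa using hz₀)
    convert h.mul hinv using 1
    refine LinearMap.ext fun x => ?_
    have := e (sv f w (-z₀) x)
    rw [sv_inv O.hf hw h0, LinearMap.neg_apply] at this
    simp only [LinearMap.comp_apply, LinearMap.neg_apply, LinearMap.id_apply]
    exact (neg_eq_iff_eq_neg.1 this).symm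
  · obtain ⟨k, hk⟩ := Submodule.mem_span_singleton.1 hAz
    have hcw : c ∉ Submodule.span F {w} := fun hm => by
      obtain ⟨t, rfl⟩ := Submodule.mem_span_singleton.1 hm
      exact hcc (by simp [hw])
    -- in dimension three the reflected vector lies along `z`
    have e2 := e z
    rw [sv_apply, hz, LinearMap.neg_apply, show A z = -z + k • w by rw [hk]; abel] at e2
    simp only [zero_smul, mul_zero, add_zero, sub_zero, map_sub, map_smul,
      O.hf.refl_fix (show f c w = 0 by rw [O.hf.symm, hwc]), MixTensor.refl_apply f c z] at e2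
    have h3 := congrArg (f c) e2
    simp only [map_sub, map_add, map_neg, map_smul, smul_eq_mul, O.hf.symm w c, hwc, mul_zero, sub_zero,
      add_zero, neg_neg] at h3
    field_simp at h3
    have hcz : f c z = 0 := (mul_eq_zero.1 (show (2 : F) * f c z = 0 by linear_combination h3)).resolve_left O.two
    have hX := finrank_orth_two O.hf hw0 hw hz hzz
    rw [O.dU] at hX
    have hle : Submodule.span F {w} ≤ LinearMap.ker (f w) ⊓ LinearMap.ker (f z) :=
      (Submodule.span_singleton_le_iff_mem ..).2 ⟨hw, by simp [O.hf.symm w z, hz]⟩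
    have he := Submodule.eq_of_le_of_finrank_le hle (by rw [finrank_span_singleton hw0]; omega)
    exact hcw (he.ge ⟨hwc, by simpa [O.hf.symm c z] using hcz⟩)

end Four

end CfsgLib.Geo.OrthTensorFour
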