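/-
`O₃ ⊗ O₄⁻`: radical elements of a line; elements mapping a line of pure tensors to another are products.
-/
import Cfsg.Agent.Lib.Geo.OrthTensorFour.Setup
import Cfsg.Agent.Lib.Geo.OrthTensor.Key

set_option autoImplicit false
set_option linter.unusedSectionVars false

namespace CfsgLib.Geo.OrthTensorFour

open CfsgLib.Classical CfsgLib.Classical.Quad Module
open CfsgLib.Geo.MixTensor (SymForm)
open CfsgLib.Geo.OrthTensor (sv sv_apply sv_norm sv_eq_refl exists_iso_partner exists_aniso_perp Tensor Tens Elig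
  scalar_of_isotropic pair_nondeg isSquare_of_sim)
open CfsgLib.Known.OmegaCriterion
open QuadraticMap (polar polarBilin)
open LinearMap (BilinForm)

variable {F : Type*} [Field F] [Finite F] {U W V : Type*} [AddCommGroup U] [Module F U] [FiniteDimensional F U]
  [AddCommGroup W] [Module F W] [FiniteDimensional F W] [AddCommGroup V] [Module F V] [FiniteDimensional F V]
  {Q : QuadraticForm F V} {f : BilinForm F U} {g : BilinForm F W} {T : U →ₗ[F] W →ₗ[F] V}
  {K : Subgroup (OQ Q)}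

local notation "reflU" => MixTensor.refl f
local notation "reflW" => MixTensor.refl g

/-- A quartic vanishing on at least five points. -/
theorem quartic_zero {F : Type*} [Field F] [Finite F] (h5 : 5 ≤ Nat.card F) {a b c d e : F}
    (h : ∀ t : F, a + b * t + c * t ^ 2 + d * t ^ 3 + e * t ^ 4 = 0) :
    a = 0 ∧ b = 0 ∧ c = 0 ∧ d = 0 ∧ e = 0 := by
  classical
  have := Fintype.ofFinite F
  set p : Polynomial F := Polynomial.C a + Polynomial.C b * Polynomial.X + Polynomial.C c * Polynomial.X ^ 2 +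
    Polynomial.C d * Polynomial.X ^ 3 + Polynomial.C e * Polynomial.X ^ 4 with hp
  have hdeg : p.natDegree ≤ 4 := by rw [hp]; compute_degree
  have h0 : p = 0 := Polynomial.eq_zero_of_natDegree_lt_card_of_eval_eq_zero p
    (f := (id : F → F)) Function.injective_id (fun t => by simp [hp]; linear_combination h t)
    (by rw [← Nat.card_eq_fintype_card]; omega)
  have k : ∀ i, p.coeff i = 0 := fun i => by rw [h0, Polynomial.coeff_zero]
  exact ⟨by simpa [hp, Polynomial.coeff_X] using k 0, by simpa [hp, Polynomial.coeff_X] using k 1,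
    by simpa [hp, Polynomial.coeff_X] using k 2, by simpa [hp, Polynomial.coeff_X] using k 3,
    by simpa [hp, Polynomial.coeff_X] using k 4⟩

/-- The data used at one side: both factors are thin, only the pairs of reflections of square class matter. -/
structure Side (Q : QuadraticForm F V) (f : BilinForm F U) (g : BilinForm F W) (T : U →ₗ[F] W →ₗ[F] V)
    (K : Subgroup (OQ Q)) : Prop extends Tensor Q f g T where
  uThree : 3 ≤ finrank F U
  wThree : 3 ≤ finrank F W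
  thinF : Thin f
  thinG : Thin g
  five : 5 ≤ Nat.card F
  base : ∀ k ∈ commutator (OQ Q), Tens T k → k ∈ K
  nc : ∀ k ∈ K, ∀ (w : W) (φ : U →ₗ[F] U), w ≠ 0 → g w w = 0 →
    (∀ a y, (k : V ≃ₗ[F] V) (T a y) = T a y + g w y • T (φ a) w) → φ = 0

namespace Side

variable (O : Side Q f g T K)
include O

theorem five_V : 5 ≤ finrank F V := by
  rw [O.finrank_eq]
  have h1 := Nat.mul_le_mul O.uThree O.wThree
  omega

theorem ntU : Nontrivial U := Module.nontrivial_of_finrank_pos (R := F) (by have := O.uThree; omega)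

theorem ntW : Nontrivial W := Module.nontrivial_of_finrank_pos (R := F) (by have := O.wThree; omega)

theorem exists_scale : ∃ l : F, l ≠ 0 ∧ l * l ≠ 1 := by
  classical
  have := Fintype.ofFinite F
  by_contra! h
  have h5 := O.five
  rw [Nat.card_eq_fintype_card] at h5
  have : (Finset.univ : Finset F) ⊆ {0, 1, -1} := fun l _ => by
    by_cases hl : l = 0
    · simp [hl]
    · rcases mul_self_eq_one_iff.1 (h l hl) with rfl | rfl <;> simp
  have h3 := (Finset.card_le_card this).trans Finset.card_le_three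
  rw [Finset.card_univ] at h3
  omega

theorem inU_pair {d d' : U} (hd : f d d ≠ 0) (hd' : f d' d' ≠ 0) (h : IsSquare (f d d * f d' d')) :
    InU K T (reflU d ∘ₗ reflU d') := by
  obtain ⟨k, hk, e⟩ := O.toTensor.flip.pair_mem (c := d) (c' := d') O.five_V ⟨hd, hd', Or.inr h⟩
  exact ⟨k, O.base k hk ⟨reflU d ∘ₗ reflU d', LinearMap.id, fun a y => e y a⟩, fun a y => e y a⟩

theorem inW_pair {c c' : W} (hc : g c c ≠ 0) (hc' : g c' c' ≠ 0) (h : IsSquare (g c c * g c' c')) :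
    InW K T (reflW c ∘ₗ reflW c') := by
  obtain ⟨k, hk, e⟩ := O.pair_mem (c := c) (c' := c') O.five_V ⟨hc, hc', Or.inr h⟩
  exact ⟨k, O.base k hk ⟨LinearMap.id, reflW c ∘ₗ reflW c', fun a y => e a y⟩, fun a y => e a y⟩

theorem inW_siegel {w z : W} (hw : g w w = 0) (h : g w z = 0) (hz : g z z ≠ 0) : InW K T (sv g w z) := by
  have hn := sv_norm O.hg hw h
  rw [show sv g w z = reflW z ∘ₗ reflW (z + (g z z / 2) • w) from LinearMap.ext (sv_eq_refl O.hg hw h hz)]
  exact O.inW_pair hz (by rwa [hn]) ⟨g z z, by rw [hn]⟩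

theorem inU_siegel {w z : U} (hw : f w w = 0) (h : f w z = 0) (hz : f z z ≠ 0) : InU K T (sv f w z) := by
  have hn := sv_norm O.hf hw h
  rw [show sv f w z = reflU z ∘ₗ reflU (z + (f z z / 2) • w) from LinearMap.ext (sv_eq_refl O.hf hw h hz)]
  exact O.inU_pair hz (by rwa [hn]) ⟨f z z, by rw [hn]⟩

theorem exists_aniso_orth {w : W} (hw : g w w = 0) (hw0 : w ≠ 0) :
    ∃ u, g u u = 0 ∧ g w u = 1 ∧ ∃ h, g h h ≠ 0 ∧ g w h = 0 ∧ g u h = 0 := by
  obtain ⟨u, huu, hwu⟩ := exists_iso_partner O.hg hw hw0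
  obtain ⟨h, hh, hhP⟩ := exists_aniso_perp O.hg _ (pair_nondeg O.hg hw huu hwu)
    (by have := O.wThree; have := CfsgLib.Geo.OrthTensor.span_pair_le (F := F) w u; omega)
  exact ⟨u, huu, hwu, h, hh, hhP w (Submodule.subset_span (Set.mem_insert _ _)),
    hhP u (Submodule.subset_span (Set.mem_insert_of_mem _ rfl))⟩

theorem exists_aniso_orthU {w : U} (hw : f w w = 0) (hw0 : w ≠ 0) :
    ∃ u, f u u = 0 ∧ f w u = 1 ∧ ∃ h, f h h ≠ 0 ∧ f w h = 0 ∧ f u h = 0 := by
  obtain ⟨u, huu, hwu⟩ := exists_iso_partner O.hf hw hw0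
  obtain ⟨h, hh, hhP⟩ := exists_aniso_perp O.hf _ (pair_nondeg O.hf hw huu hwu)
    (by have := O.uThree; have := CfsgLib.Geo.OrthTensor.span_pair_le (F := F) w u; omega)
  exact ⟨u, huu, hwu, h, hh, hhP w (Submodule.subset_span (Set.mem_insert _ _)),
    hhP u (Submodule.subset_span (Set.mem_insert_of_mem _ rfl))⟩

/-- A vector orthogonal to `d` and to the anisotropic part of a hyperbolic pair lies on the line of `d`. -/
theorem mem_lineU {d e : U} (hd : f d d = 0) (hd0 : d ≠ 0) (hde : f d e = 1) {r : U} (h1 : f d r = 0)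
    (h2 : ∀ z, f d z = 0 → f e z = 0 → f z z ≠ 0 → f z r = 0) : r = f e r • d := by
  by_contra hne
  set r' := r - f e r • d
  have k1 : f d r' = 0 := by simp [r', h1, hd]
  have k2 : f e r' = 0 := by simp [r', O.hf.symm d e, hde]
  by_cases hq : f r' r' = 0
  · obtain ⟨c, hc⟩ := Submodule.mem_span_singleton.1 (O.thinF d r' hd hd0 k1 hq)
    rw [← hc, map_smul, O.hf.symm d e, hde, smul_eq_mul, mul_one] at k2
    rw [k2, zero_smul] at hc
    exact hne (sub_eq_zero.1 hc.symm)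
  · refine hq ?_
    have h3 := h2 r' k1 k2 hq
    have h4 : f r' d = 0 := by rw [O.hf.symm, k1]
    show f r' (r - f e r • d) = 0
    simp [h3, h4]

/-- The scalar of the kernel of the centre. -/
theorem C_conj {k : OQ Q} {A : U →ₗ[F] U} {B : W →ₗ[F] W} (hA : ∀ a b, f (A a) (A b) = f a b)
    (hk : ∀ a y, (k : V ≃ₗ[F] V) (T a y) = T (A a) (B y)) (z : W) (v : V) :
    O.C (B z) ((k : V ≃ₗ[F] V) v) = A (O.C z v) := O.fext fun a => by
  obtain ⟨b, rfl⟩ : ∃ b, A b = a := by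
    refine LinearMap.injective_iff_surjective.1 (fun p q e => sub_eq_zero.1 (O.hf.nd.1 _ fun y => ?_)) a
    rw [map_sub, LinearMap.sub_apply, ← hA p, ← hA q, e, sub_self]
  rw [O.f_C, ← hk, OQ.map_polar, hA, O.f_C]

/-- The adjoint of a map from the first factor. -/
noncomputable def adjV (X : U →ₗ[F] V) : V →ₗ[F] U :=
  (f.toDual O.hf.nd).symm.toLinearMap ∘ₗ X.dualMap ∘ₗ (polarBilin Q).flip

theorem f_adjV (X : U →ₗ[F] V) (a : U) (v : V) : f a (O.adjV X v) = polar Q (X a) v := by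
  rw [O.hf.symm]
  exact LinearMap.BilinForm.apply_toDual_symm_apply (B := f) (hB := O.hf.nd) (X.dualMap ((polarBilin Q).flip v)) a

theorem adjV_add (X Y : U →ₗ[F] V) (v : V) : O.adjV (X + Y) v = O.adjV X v + O.adjV Y v :=
  O.fext fun a => by rw [map_add, O.f_adjV, O.f_adjV, O.f_adjV, LinearMap.add_apply, polar_add_left']

theorem adjV_smul (c : F) (X : U →ₗ[F] V) (v : V) : O.adjV (c • X) v = c • O.adjV X v :=
  O.fext fun a => by rw [map_smul, O.f_adjV, O.f_adjV, LinearMap.smul_apply, polar_smul_left', smul_eq_mul]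

/-- A radical element of a line. -/
def Rad (w : W) (X : U →ₗ[F] V) : Prop :=
  (∀ a, O.C w (X a) = 0) ∧ ∃ k ∈ K, ∃ ψ : U →ₗ[F] U, ∀ v,
    (k : V ≃ₗ[F] V) v = v + X (O.C w v) - T (O.adjV X v) w + T (ψ (O.C w v)) w

theorem adjV_line {w : W} {X : U →ₗ[F] V} (hX : ∀ a, O.C w (X a) = 0) (b : U) : O.adjV X (T b w) = 0 :=
  O.fext fun a => by rw [O.f_adjV, QuadraticMap.polar_comm, ← O.f_C, hX, map_zero, map_zero]

theorem rad_mul_apply {w : W} (hw : g w w = 0) {X Y : U →ₗ[F] V} (hX : ∀ a, O.C w (X a) = 0)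
    (hY : ∀ a, O.C w (Y a) = 0) {k k' : OQ Q} {ψ χ : U →ₗ[F] U}
    (hk : ∀ v, (k : V ≃ₗ[F] V) v = v + X (O.C w v) - T (O.adjV X v) w + T (ψ (O.C w v)) w)
    (hk' : ∀ v, (k' : V ≃ₗ[F] V) v = v + Y (O.C w v) - T (O.adjV Y v) w + T (χ (O.C w v)) w) (v : V) :
    ((k * k' : OQ Q) : V ≃ₗ[F] V) v = v + (X + Y) (O.C w v) - T (O.adjV (X + Y) v) w +
      T ((ψ + χ - O.adjV X ∘ₗ Y) (O.C w v)) w := by
  show (k : V ≃ₗ[F] V) ((k' : V ≃ₗ[F] V) v) = _
  rw [hk, hk']
  simp only [map_add, map_sub, hY, O.C_T, hw, zero_smul, sub_zero, add_zero, O.adjV_line hX, O.adjV_add,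
    LinearMap.add_apply, LinearMap.sub_apply, LinearMap.comp_apply]
  abel

theorem rad_add {w : W} (hw : g w w = 0) {X Y : U →ₗ[F] V} (hX : O.Rad w X) (hY : O.Rad w Y) :
    O.Rad w (X + Y) := by
  obtain ⟨hX0, k, hk, ψ, e⟩ := hX
  obtain ⟨hY0, k', hk', χ, e'⟩ := hY
  exact ⟨fun a => by simp [hX0, hY0], k * k', K.mul_mem hk hk', _, O.rad_mul_apply hw hX0 hY0 e e'⟩

theorem rad_neg {w : W} (hw : g w w = 0) {X : U →ₗ[F] V} (hX : O.Rad w X) : O.Rad w (-X) := by
  obtain ⟨hX0, k, hk, ψ, e⟩ := hX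
  refine ⟨fun a => by simp [hX0], k⁻¹, K.inv_mem hk, -ψ - O.adjV X ∘ₗ X, fun v => ?_⟩
  show (k : V ≃ₗ[F] V).symm v = _
  rw [LinearEquiv.symm_apply_eq, e]
  have hn : ∀ v, O.adjV (-X) v = -O.adjV X v := fun v => by
    rw [← neg_one_smul F X, O.adjV_smul, neg_one_smul]
  simp only [map_add, map_sub, map_neg, hX0, O.C_T, hw, zero_smul, neg_zero, sub_zero, add_zero,
    O.adjV_line hX0, hn, LinearMap.neg_apply, LinearMap.sub_apply, LinearMap.comp_apply]
  simp only [LinearMap.add_apply, LinearMap.sub_apply, LinearMap.neg_apply, map_add, map_sub, map_neg]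
  abel

/-- Two radical elements commute. -/
theorem rad_comm {w : W} (hw0 : w ≠ 0) (hw : g w w = 0) {X Y : U →ₗ[F] V} (hX : O.Rad w X) (hY : O.Rad w Y)
    (a : U) : O.adjV X (Y a) = O.adjV Y (X a) := by
  obtain ⟨hX0, k, hk, ψ, e⟩ := hX
  obtain ⟨hY0, k', hk', χ, e'⟩ := hY
  set Φ : U →ₗ[F] U := O.adjV Y ∘ₗ X - O.adjV X ∘ₗ Y
  have h := O.nc (k * k' * (k' * k)⁻¹) (K.mul_mem (K.mul_mem hk hk') (K.inv_mem (K.mul_mem hk' hk))) w Φ hw0 hw
    (fun a y => by
      obtain ⟨v, hv⟩ := ((k' * k : OQ Q) : V ≃ₗ[F] V).surjective (T a y)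
      have h1 : O.C w v = g w y • a := by
        have h2 := congrArg (O.C w) hv
        rw [O.rad_mul_apply hw hY0 hX0 e' e, O.C_T] at h2
        simpa [O.C_T, hw, hX0, hY0] using h2
      show ((k * k' : OQ Q) : V ≃ₗ[F] V) (((k' * k : OQ Q) : V ≃ₗ[F] V).symm (T a y)) = _
      rw [← hv, LinearEquiv.symm_apply_apply, O.rad_mul_apply hw hX0 hY0 e e', O.rad_mul_apply hw hY0 hX0 e' e,
        add_comm Y X, h1]
      simp only [Φ, LinearMap.add_apply, LinearMap.sub_apply, LinearMap.comp_apply, map_add, map_sub, map_smul,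
        smul_sub, smul_add, LinearMap.smul_apply]
      abel)
  have h2 := LinearMap.congr_fun h a
  rw [LinearMap.sub_apply, LinearMap.zero_apply, sub_eq_zero] at h2
  exact h2.symm

/-- The Siegel maps give the unit radical elements. -/
theorem rad_unit {w z : W} (hw : g w w = 0) (h : g w z = 0) (hz : g z z ≠ 0) : O.Rad w (T.flip z) := by
  obtain ⟨k, hk, e⟩ := O.inW_siegel hw h hz
  refine ⟨fun a => by simp [O.C_T, h], k, hk, (-(g z z / 2)) • LinearMap.id, fun v => ?_⟩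
  refine LinearMap.congr_fun (O.hom_ext (L := ((k : V ≃ₗ[F] V) : V →ₗ[F] V))
    (L' := LinearMap.id + T.flip z ∘ₗ O.C w - T.flip w ∘ₗ O.adjV (T.flip z) +
      T.flip w ∘ₗ ((-(g z z / 2)) • LinearMap.id) ∘ₗ O.C w) fun a y => ?_) v
  have h1 : O.adjV (T.flip z) (T a y) = g z y • a := O.fext fun b => by
    rw [O.f_adjV, LinearMap.flip_apply, O.polarT, map_smul, smul_eq_mul, mul_comm]
  simp [e _ _, sv_apply, h1, O.C_T, smul_smul]
  module

/-- Conjugation by a product of isometries fixing the line. -/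
theorem rad_conj {w : W} {X : U →ₗ[F] V} (hX : O.Rad w X) {m : OQ Q} (hm : m ∈ K) {A A' : U →ₗ[F] U}
    {B : W →ₗ[F] W} (hA : ∀ a b, f (A a) (A b) = f a b) (h1 : ∀ a, A' (A a) = a) (hB : B w = w)
    (em : ∀ a y, (m : V ≃ₗ[F] V) (T a y) = T (A a) (B y)) :
    O.Rad w (((m : V ≃ₗ[F] V) : V →ₗ[F] V) ∘ₗ X ∘ₗ A') := by
  obtain ⟨hX0, k, hk, ψ, e⟩ := hX
  have h2 : ∀ a, A (A' a) = a := fun a => by
    obtain ⟨b, rfl⟩ := LinearMap.injective_iff_surjective.1 (fun p q e => by rw [← h1 p, ← h1 q, e]) a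
    rw [h1]
  have hC : ∀ v, O.C w ((m : V ≃ₗ[F] V) v) = A (O.C w v) := fun v => by
    conv_lhs => rw [← hB]
    exact O.C_conj hA em w v
  refine ⟨fun a => by simp [hC, hX0], m * k * m⁻¹, K.mul_mem (K.mul_mem hm hk) (K.inv_mem hm), A ∘ₗ ψ ∘ₗ A',
    fun v => ?_⟩
  obtain ⟨u, rfl⟩ := (m : V ≃ₗ[F] V).surjective v
  show (m : V ≃ₗ[F] V) ((k : V ≃ₗ[F] V) ((m : V ≃ₗ[F] V).symm ((m : V ≃ₗ[F] V) u))) = _
  rw [LinearEquiv.symm_apply_apply, e]
  have h3 : O.adjV (((m : V ≃ₗ[F] V) : V →ₗ[F] V) ∘ₗ X ∘ₗ A') ((m : V ≃ₗ[F] V) u) = A (O.adjV X u) :=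
    O.fext fun b => by
      rw [O.f_adjV, LinearMap.comp_apply, LinearMap.comp_apply, LinearEquiv.coe_coe, OQ.map_polar, ← O.f_adjV]
      conv_rhs => rw [← h2 b, hA]
  simp [h3, hC, h1, em, hB]


theorem sv_fixU {d z : U} (hd : f d d = 0) (h : f d z = 0) : sv f d z d = d := by
  simp [sv_apply, hd, O.hf.symm d z, h]

/-- A radical element pairs `d` to a multiple of the vector of the line. -/
theorem rad_sing {w : W} (hw0 : w ≠ 0) (hw : g w w = 0) {X : U →ₗ[F] V} (hX : O.Rad w X) {d : U}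
    (hd : f d d = 0) (hd0 : d ≠ 0) :
    g (O.toTensor.flip.C d (X d)) (O.toTensor.flip.C d (X d)) = 0 := by
  obtain ⟨e, hee, hde, z, hz, hdz, hez⟩ := O.exists_aniso_orthU hd hd0
  have hf := O.hf
  obtain ⟨L₁, hL₁⟩ := O.exists_tens ((f d).smulRight z - (f z).smulRight d) LinearMap.id
  obtain ⟨L₂, hL₂⟩ := O.exists_tens ((-(f z z / 2)) • (f d).smulRight d) LinearMap.id
  set c := f z z / 2 with hc
  have hkey : ∀ t : F, polar Q (X d + t • L₁ (X d) + t ^ 2 • L₂ (X d)) (X e) =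
      polar Q ((X e - t • X z - (t ^ 2 * c) • X d) + t • L₁ (X e - t • X z - (t ^ 2 * c) • X d) +
        t ^ 2 • L₂ (X e - t • X z - (t ^ 2 * c) • X d)) (X d) := by
    intro t
    by_cases ht : t = 0
    · subst ht
      simp [QuadraticMap.polar_comm]
    have htz : f (t • z) (t • z) ≠ 0 := by simp [ht, hz]
    have hdtz : f d (t • z) = 0 := by simp [hdz]
    obtain ⟨k, hk, ek⟩ := O.inU_siegel hd hdtz htz
    have hk' : ∀ v, (k : V ≃ₗ[F] V) v = v + t • L₁ v + t ^ 2 • L₂ v := by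
      intro v
      refine LinearMap.congr_fun (O.hom_ext (L := ((k : V ≃ₗ[F] V) : V →ₗ[F] V))
        (L' := LinearMap.id + t • L₁ + t ^ 2 • L₂) fun a y => ?_) v
      simp only [LinearEquiv.coe_coe, ek a y, LinearMap.add_apply, LinearMap.smul_apply, hL₁, hL₂,
        LinearMap.id_apply, LinearMap.sub_apply, LinearMap.smulRight_apply, sv_apply, map_add, map_sub, map_smul,
        smul_eq_mul, c]
      match_scalars <;> ring
    have hY := O.rad_conj hX hk (A := sv f d (t • z)) (A' := sv f d (-(t • z))) (B := LinearMap.id)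
      (fun a b => CfsgLib.Geo.OrthTensor.sv_isometry hf hd hdtz a b)
      (fun a => by rw [sv_comp hf hd (by simp [hdz]) hdtz, neg_add_cancel, sv_zero hf]) rfl ek
    have h1 := congrArg (f e) (O.rad_comm hw0 hw hX hY d)
    rw [O.f_adjV, O.f_adjV] at h1
    simp only [LinearMap.comp_apply, LinearEquiv.coe_coe] at h1
    have e1 : sv f d (-(t • z)) d = d := O.sv_fixU hd (by simp [hdz])
    have e2 : sv f d (-(t • z)) e = e - t • z - (t ^ 2 * c) • d := by
      simp [sv_apply, hde, hf.symm e z, hez, c]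
      match_scalars <;> ring
    rw [e1, e2, hk', hk', map_sub, map_sub, map_smul, map_smul, QuadraticMap.polar_comm] at h1
    exact h1
  have hpL2 : ∀ v v', polar Q (L₂ v) v' =
      -c * g (O.toTensor.flip.C d v) (O.toTensor.flip.C d v') := by
    intro v v'
    have e : L₂ v = (-c) • T d (O.toTensor.flip.C d v) := by
      refine LinearMap.congr_fun (O.hom_ext (L := L₂) (L' := (-c) • (T d ∘ₗ O.toTensor.flip.C d)) fun a y => ?_) v
      have := O.toTensor.flip.C_T d y a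
      rw [LinearMap.flip_apply] at this
      simp [hL₂, this, smul_smul, c]
    rw [e, polar_smul_left', O.toTensor.flip.f_C, LinearMap.flip_apply]
  have hsub : ∀ u v x : V, polar Q (u - v) x = polar Q u x - polar Q v x := fun u v x => by
    rw [sub_eq_add_neg, polar_add_left', QuadraticMap.polar_neg_left]; ring
  have hq := quartic_zero O.five (a := polar Q (X e) (X d) - polar Q (X d) (X e))
    (b := polar Q (L₁ (X e)) (X d) - polar Q (X z) (X d) - polar Q (L₁ (X d)) (X e))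
    (c := polar Q (L₂ (X e)) (X d) - polar Q (L₁ (X z)) (X d) - c * polar Q (X d) (X d) - polar Q (L₂ (X d)) (X e))
    (d := -polar Q (L₂ (X z)) (X d) - c * polar Q (L₁ (X d)) (X d)) (e := -(c * polar Q (L₂ (X d)) (X d)))
    (fun t => by
      have h1 := hkey t
      simp only [map_sub, map_smul, polar_add_left', polar_smul_left', hsub] at h1
      linear_combination -h1)
  have hcne : c ≠ 0 := div_ne_zero hz O.two
  have h4 := hq.2.2.2.2
  rw [hpL2, neg_eq_zero, mul_eq_zero, mul_eq_zero, neg_eq_zero] at h4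
  exact (h4.resolve_left hcne).resolve_left hcne

/-- **The components of a radical element are scalars.** -/
theorem comp_scalar {w : W} (hw0 : w ≠ 0) (hw : g w w = 0) {X : U →ₗ[F] V} (hX : O.Rad w X) {z : W}
    (hz : g w z = 0) : ∃ μ : F, ∀ a, O.C z (X a) = μ • a := by
  by_cases hzz : g z z = 0
  · obtain ⟨k, rfl⟩ := Submodule.mem_span_singleton.1 (O.thinG w z hw hw0 hz hzz)
    exact ⟨0, fun a => by rw [map_smul, LinearMap.smul_apply, hX.1, smul_zero, zero_smul]⟩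
  set θ : U →ₗ[F] U := O.C z ∘ₗ X with hθ
  have hsa : ∀ a b, f a (θ b) = f b (θ a) := by
    intro a b
    have h1 := congrArg (f b) (O.rad_comm hw0 hw hX (O.rad_unit hw hz hzz) a)
    rw [O.f_adjV, O.f_adjV, LinearMap.flip_apply, LinearMap.flip_apply] at h1
    rw [hθ, LinearMap.comp_apply, LinearMap.comp_apply, O.f_C, O.f_C, QuadraticMap.polar_comm, h1]
  -- singular vectors are singular for the component
  have hsing : ∀ d, f d d = 0 → f d (θ d) = 0 := by
    intro d hd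
    by_cases hd0 : d = 0
    · simp [hd0]
    have h1 : g w (O.toTensor.flip.C d (X d)) = 0 := by
      rw [O.toTensor.flip.f_C, LinearMap.flip_apply, ← O.f_C, hX.1, map_zero]
    obtain ⟨k, hk⟩ := Submodule.mem_span_singleton.1
      (O.thinG w _ hw hw0 h1 (O.rad_sing hw0 hw hX hd hd0))
    have h2 : g z (O.toTensor.flip.C d (X d)) = 0 := by rw [← hk, map_smul, O.hg.symm, hz, smul_zero]
    rw [O.toTensor.flip.f_C, LinearMap.flip_apply, ← O.f_C] at h2
    exact h2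
  obtain ⟨μ, hμ⟩ := scalar_of_isotropic O.hf O.uThree (κ := θ) fun d hd => by
    by_cases hd0 : d = 0
    · exact ⟨0, by simp [hd0]⟩
    obtain ⟨e, hee, hde, -⟩ := O.exists_aniso_orthU hd hd0
    refine ⟨f e (θ d), O.mem_lineU hd hd0 hde (hsing d hd) fun z₀ hdz hez hz₀ => ?_⟩
    set β := -(f z₀ z₀ / 2) with hβ
    have h2 := O.two
    have hq := quartic_zero O.five (a := f d (θ d)) (b := 2 * f z₀ (θ d))
      (c := f z₀ (θ z₀) + 2 * β * f e (θ d)) (d := 2 * β * f e (θ z₀)) (e := β * β * f e (θ e)) (fun t => by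
        have h1 := hsing (d + t • z₀ + (β * t ^ 2) • e) (by
          simp only [map_add, map_smul, LinearMap.add_apply, LinearMap.smul_apply, smul_eq_mul, hd, hee, hde, hdz,
            hez, O.hf.symm d e, O.hf.symm d z₀, O.hf.symm e z₀, β]
          field_simp
          ring)
        simp only [map_add, map_smul, LinearMap.add_apply, LinearMap.smul_apply, smul_eq_mul, hsa d z₀, hsa d e,
          hsa z₀ e] at h1
        linear_combination h1)
    exact (mul_eq_zero.1 hq.2.1).resolve_left h2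
  exact ⟨μ, fun a => LinearMap.congr_fun hμ a⟩

/-- **A map changed by scalars under conjugation is a scalar.** -/
theorem scalar_of_shift {κ : U →ₗ[F] U}
    (h : ∀ c c', f c c ≠ 0 → f c' c' ≠ 0 → IsSquare (f c c * f c' c') →
      ∃ ν : F, ∀ a, reflU c (reflU c' (κ (reflU c' (reflU c a)))) = κ a + ν • a) :
    ∃ μ : F, κ = μ • LinearMap.id := by
  have hf := O.hf
  have h2 := O.two
  refine scalar_of_isotropic hf O.uThree fun d hd => ?_
  by_cases hd0 : d = 0
  · exact ⟨0, by simp [hd0]⟩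
  obtain ⟨e, hee, hde, z₀, hz₀, hdz₀, hez₀⟩ := O.exists_aniso_orthU hd hd0
  have hed : f e d = 1 := by rw [hf.symm, hde]
  -- a Siegel map kills the pairing of `d` with its image
  have hd1 : f d (κ d) = 0 := by
    have hn := sv_norm hf hd hdz₀
    obtain ⟨ν, hν⟩ := h z₀ (z₀ + (f z₀ z₀ / 2) • d) hz₀ (by rwa [hn]) ⟨f z₀ z₀, by rw [hn]⟩
    have e1 : reflU (z₀ + (f z₀ z₀ / 2) • d) (reflU z₀ d) = d := by
      rw [hf.refl_fix (show f z₀ d = 0 by rw [hf.symm, hdz₀]),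
        hf.refl_fix (show f (z₀ + (f z₀ z₀ / 2) • d) d = 0 by simp [hf.symm d z₀, hdz₀, hd])]
    have h1 := hν d
    rw [e1, ← sv_eq_refl hf hd hdz₀ hz₀, sv_apply] at h1
    have k1 := congrArg (f z₀) h1
    simpa [hf.symm d z₀, hdz₀, hz₀] using k1
  obtain ⟨μ, hμ, hμ1⟩ := O.exists_scale
  set l := μ * μ with hldef
  have hl : l ≠ 0 := mul_ne_zero hμ hμ
  set p := d + e
  set q := d + l • e
  have hp : f p p = 2 := by simp [p, hd, hee, hde, hed]; norm_num
  have hq : f q q = 2 * l := by simp [q, hd, hee, hde, hed]; ring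
  have hp0 : f p p ≠ 0 := hp ▸ h2
  have hq0 : f q q ≠ 0 := hq ▸ mul_ne_zero h2 hl
  obtain ⟨ν, hν⟩ := h p q hp0 hq0 ⟨2 * μ, by rw [hp, hq, hldef]; ring⟩
  set A := reflU p ∘ₗ reflU q
  have hA : ∀ a b, f (A a) (A b) = f a b := fun a b => by simp [A, hf.refl_isometry hp0, hf.refl_isometry hq0]
  have e1 : reflU q d = (-l) • e := by
    rw [MixTensor.refl_apply, hq]
    simp [q, hd, hed]
    match_scalars <;> field_simp <;> ring
  have e2 : reflU p e = -d := by
    rw [MixTensor.refl_apply, hp]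
    simp [p, hee, hde]
    match_scalars <;> field_simp <;> ring
  have hAd : A d = l • d := by simp [A, e1, e2]
  have e4 : reflU q (reflU p d) = l⁻¹ • d := by
    conv_lhs => rw [show d = l⁻¹ • A d by rw [hAd, inv_smul_smul₀ hl], map_smul, map_smul]
    simp [A, hf.refl_refl hp0, hf.refl_refl hq0]
  have hk := hν d
  rw [e4, map_smul, map_smul, map_smul] at hk
  have hk' : A (κ d) = l • κ d + (l * ν) • d := by
    rw [← inv_smul_smul₀ (inv_ne_zero hl) (A (κ d)), inv_inv, show l⁻¹ • A (κ d) = κ d + ν • d from hk, smul_add,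
      smul_smul]
  refine ⟨f e (κ d), O.mem_lineU hd hd0 hde hd1 fun z hdz hez hz => ?_⟩
  have hAz : A z = z := by
    have e3 : reflU q z = z := hf.refl_fix (by simp [q, hdz, hez])
    have e5 : reflU p z = z := hf.refl_fix (by simp [p, hdz, hez])
    simp [A, e3, e5]
  have h1 := hA z (κ d)
  rw [hAz, hk'] at h1
  simp only [map_add, map_smul, smul_eq_mul, hf.symm d z, hdz, mul_zero, add_zero] at h1
  exact (mul_eq_zero.1 (show (l - 1) * f z (κ d) = 0 by linear_combination h1)).resolve_left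
    fun h0 => hμ1 (sub_eq_zero.1 h0)

/-- The anisotropic vectors span the orthogonal of an isotropic vector. -/
theorem perp_induction {w : W} (hw : g w w = 0) (hw0 : w ≠ 0) {P : W → Prop}
    (sub : ∀ x y, g w x = 0 → g w y = 0 → P x → P y → P (x - y))
    (aniso : ∀ z, g w z = 0 → g z z ≠ 0 → P z) {z : W} (hz : g w z = 0) : P z := by
  by_cases hzz : g z z = 0
  swap
  · exact aniso z hz hzz
  obtain ⟨u, -, -, h, hh, hwh, -⟩ := O.exists_aniso_orth hw hw0
  by_cases h1 : g (z + h) (z + h) = 0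
  · have h2 : g (z - h) (z - h) ≠ 0 := fun h0 => by
      simp only [map_add, map_sub, LinearMap.add_apply, LinearMap.sub_apply, hzz] at h1 h0
      exact mul_ne_zero O.two hh (by linear_combination h1 + h0)
    have h3 := sub (z - h) (-h) (by simp [hz, hwh]) (by simp [hwh]) (aniso _ (by simp [hz, hwh]) h2)
      (aniso _ (by simp [hwh]) (by simpa using hh))
    simpa using h3
  · have h3 := sub (z + h) h (by simp [hz, hwh]) hwh (aniso _ (by simp [hz, hwh]) h1) (aniso _ hwh hh)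
    simpa using h3

/-- An element with a fixed left factor is a product. -/
theorem tens_of_left {k : OQ Q} {A : U →ₗ[F] U} (hA : ∃ a, A a ≠ 0)
    (h : ∀ y, ∃ r, ∀ a, (k : V ≃ₗ[F] V) (T a y) = T (A a) r) : Tens T k := by
  obtain ⟨a₀, ha⟩ := hA
  choose R hR using h
  exact ⟨A,
    { toFun := R
      map_add' := fun p q => O.T_injective' ha (by rw [← hR, map_add, map_add, hR, hR, map_add])
      map_smul' := fun s p => O.T_injective' ha (by rw [← hR, map_smul, map_smul, hR, map_smul, RingHom.id_apply]) },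
    fun a y => hR y a⟩

/-- An element fixing a line pointwise and its orthogonal modulo the line is a radical element. -/
theorem rad_of_fix {s : OQ Q} (hs : s ∈ K) {w u : W} (hw : g w w = 0) (hwu : g w u = 1)
    (h1 : ∀ a, (s : V ≃ₗ[F] V) (T a w) = T a w) {θ : W → U →ₗ[F] U}
    (h2 : ∀ z, g w z = 0 → ∀ b, (s : V ≃ₗ[F] V) (T b z) = T b z + T (θ z b) w) :
    ∀ z, g w z = 0 → ∃ μ : F, ∀ b, θ z b = μ • b := by
  have hw0 : w ≠ 0 := fun e => by simp [e] at hwu
  set X : U →ₗ[F] V := ((s : V ≃ₗ[F] V) : V →ₗ[F] V) ∘ₗ T.flip u - T.flip u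
  have hXa : ∀ a, X a = (s : V ≃ₗ[F] V) (T a u) - T a u := fun a => rfl
  have hCs : ∀ a b, f b (O.C w ((s : V ≃ₗ[F] V) (T a u))) = f b a := fun a b => by
    rw [O.f_C, ← h1 b, OQ.map_polar, O.polarT, hwu, mul_one]
  have hX0 : ∀ a, O.C w (X a) = 0 := fun a => O.fext fun b => by
    rw [hXa, map_sub, map_sub, hCs, O.C_T, hwu, one_smul, sub_self, map_zero]
  have hadj : ∀ z, g w z = 0 → ∀ b, O.adjV X (T b z) = -θ z b := fun z hz b => O.fext fun a => by
    have h3 : polar Q ((s : V ≃ₗ[F] V) (T a u)) ((s : V ≃ₗ[F] V) (T b z)) = f a b * g u z := by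
      rw [OQ.map_polar, O.polarT]
    rw [h2 z hz, polar_add_right', QuadraticMap.polar_comm _ _ (T (θ z b) w), ← O.f_C, hCs, O.hf.symm a (θ z b)]
      at h3
    rw [O.f_adjV, hXa, sub_eq_add_neg, polar_add_left', QuadraticMap.polar_neg_left, O.polarT, map_neg]
    linear_combination h3
  have hR : O.Rad w X := by
    refine ⟨hX0, s, hs, O.adjV X ∘ₗ T.flip u, fun v => ?_⟩
    refine LinearMap.congr_fun (O.hom_ext (L := ((s : V ≃ₗ[F] V) : V →ₗ[F] V))
      (L' := LinearMap.id + X ∘ₗ O.C w - T.flip w ∘ₗ O.adjV X + T.flip w ∘ₗ (O.adjV X ∘ₗ T.flip u) ∘ₗ O.C w)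
      fun a y => ?_) v
    set z := y - g w y • u
    have hz : g w z = 0 := by simp [z, hwu]
    rw [show y = z + g w y • u by simp [z]]
    simp [h2 z hz, hadj z hz, O.C_T, hz, hwu, hXa, smul_sub]
    abel
  intro z hz
  obtain ⟨μ, hμ⟩ := O.comp_scalar (fun e => hw0 e) hw hR hz
  refine ⟨-μ, fun b => O.fext fun a => ?_⟩
  have h3 := congrArg (f a) (hadj z hz b)
  rw [O.f_adjV, QuadraticMap.polar_comm, ← O.f_C, hμ, map_smul, map_neg, smul_eq_mul, O.hf.symm a b] at h3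
  rw [map_smul, smul_eq_mul]
  linear_combination h3

/-- The shape of a radical element. -/
theorem rad_form {w : W} (hw0 : w ≠ 0) (hw : g w w = 0) {X : U →ₗ[F] V} (hX : O.Rad w X) :
    ∃ (ζ : W) (κ : U →ₗ[F] U), g w ζ = 0 ∧ ∀ b, X b = T b ζ + T (κ b) w := by
  have := O.ntU
  obtain ⟨u, huu, hwu, -⟩ := O.exists_aniso_orth hw hw0
  obtain ⟨b₀, hb₀⟩ := exists_ne (0 : U)
  obtain ⟨φ, hφ⟩ : ∃ φ : Module.Dual F U, φ b₀ = 1 := by
    obtain ⟨c, hc⟩ : ∃ c, f c b₀ ≠ 0 := by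
      by_contra! hc
      exact hb₀ (O.hf.nd.2 b₀ hc)
    exact ⟨(f c b₀)⁻¹ • f c, by simp [hc]⟩
  set pr : W →ₗ[F] W := LinearMap.id - (g w).smulRight u
  obtain ⟨ζ, hζ⟩ := O.exists_left_dual (φ ∘ₗ O.C.flip (X b₀) ∘ₗ pr)
  have hwζ : g w ζ = 0 := by
    rw [O.hg.symm, hζ]
    simp [pr, hw, hX.1]
  refine ⟨ζ, O.C u ∘ₗ X, hwζ, fun b => O.V_ext fun z' => ?_⟩
  obtain ⟨μ, hμ⟩ := O.comp_scalar hw0 hw hX (z := pr z') (by simp [pr, hwu])
  have h1 : g z' ζ = μ := by
    rw [O.hg.symm ζ z', hζ, LinearMap.comp_apply, LinearMap.comp_apply, LinearMap.flip_apply, hμ, map_smul, hφ,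
      smul_eq_mul, mul_one]
  rw [map_add, O.C_T, O.C_T, h1, O.hg.symm w z', ← hμ b]
  conv_lhs => rw [show z' = pr z' + g w z' • u by simp [pr]]
  simp

/-- Conjugating the unit radical element into another line. -/
theorem rad_of_map {x : OQ Q} (hx : x ∈ K) {w w' : W} (hw : g w w = 0) {A As : U →ₗ[F] U}
    (hAs : ∀ a b, f (A a) b = f a (As b)) (hAsurj : Function.Surjective A)
    (hxw : ∀ a, (x : V ≃ₗ[F] V) (T a w) = T (A a) w') {z : W} (hz : g w z = 0) (hzz : g z z ≠ 0) :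
    O.Rad w' (((x : V ≃ₗ[F] V) : V →ₗ[F] V) ∘ₗ T.flip z ∘ₗ As) := by
  obtain ⟨k, hk, e⟩ := O.inW_siegel hw hz hzz
  set X : U →ₗ[F] V := ((x : V ≃ₗ[F] V) : V →ₗ[F] V) ∘ₗ T.flip z ∘ₗ As
  have hCw : ∀ v, O.C w ((x : V ≃ₗ[F] V).symm v) = As (O.C w' v) := fun v => O.fext fun a => by
    rw [O.f_C, ← OQ.map_polar x, hxw, LinearEquiv.apply_symm_apply, ← O.f_C, hAs]
  have hX0 : ∀ a, O.C w' (X a) = 0 := fun a => O.fext fun b => by
    obtain ⟨b₀, rfl⟩ := hAsurj b
    rw [map_zero, O.f_C, show X a = (x : V ≃ₗ[F] V) (T (As a) z) from rfl, ← hxw, OQ.map_polar, O.polarT, hz,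
      mul_zero]
  have hXadj : ∀ v, O.adjV X v = A (O.C z ((x : V ≃ₗ[F] V).symm v)) := fun v => O.fext fun b => by
    rw [O.f_adjV, show X b = (x : V ≃ₗ[F] V) (T (As b) z) from rfl,
      ← LinearEquiv.apply_symm_apply (x : V ≃ₗ[F] V) v, OQ.map_polar, ← O.f_C, LinearEquiv.symm_apply_apply,
      O.hf.symm (O.C z _) (As b), ← hAs, O.hf.symm b]
  show O.Rad w' X
  refine ⟨hX0, x * k * x⁻¹, K.mul_mem (K.mul_mem hx hk) (K.inv_mem hx), (-(g z z / 2)) • (A ∘ₗ As), fun v => ?_⟩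
  show (x : V ≃ₗ[F] V) ((k : V ≃ₗ[F] V) ((x : V ≃ₗ[F] V).symm v)) = _
  have hk' : ∀ v, (k : V ≃ₗ[F] V) v = v + T (O.C w v) z - T (O.C z v) w - (g z z / 2) • T (O.C w v) w := by
    intro v
    refine LinearMap.congr_fun (O.hom_ext (L := ((k : V ≃ₗ[F] V) : V →ₗ[F] V))
      (L' := LinearMap.id + T.flip z ∘ₗ O.C w - T.flip w ∘ₗ O.C z - (g z z / 2) • (T.flip w ∘ₗ O.C w))
      fun a y => ?_) v
    simp [e _ _, sv_apply, O.C_T, smul_smul]
  rw [hk', map_sub, map_sub, map_add, map_smul, hxw, hxw, LinearEquiv.apply_symm_apply, hCw, hXadj]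
  simp [X]
  module

/-- An element mapping a singular line to another acts on the first factor by a similarity. -/
theorem sim_of_line {x : OQ Q} (hx : x ∈ K) {w w' : W} (hw0 : w ≠ 0) (hw : g w w = 0) (hw'0 : w' ≠ 0)
    (hw' : g w' w' = 0) {A : U →ₗ[F] U} (hxw : ∀ a, (x : V ≃ₗ[F] V) (T a w) = T (A a) w') :
    ∃ γ : F, γ ≠ 0 ∧ ∀ a b, f (A a) (A b) = γ * f a b := by
  have := O.ntU
  set As := f.leftAdjointOfNondegenerate O.hf.nd A
  have hAs : ∀ a b, f (A a) b = f a (As b) := fun a b => by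
    rw [O.hf.symm b (A a), O.hf.symm (As b) a]
    exact (LinearMap.BilinForm.isAdjointPairLeftAdjointOfNondegenerate f O.hf.nd A b a).symm
  have hAinj : Function.Injective A := fun p q e =>
    O.T_injective hw0 ((x : V ≃ₗ[F] V).injective (by rw [hxw, hxw, e]))
  have hAsurj : Function.Surjective A := LinearMap.injective_iff_surjective.1 hAinj
  have hAsinj : Function.Injective As := fun p q e => O.fext fun a => by
    obtain ⟨a, rfl⟩ := hAsurj a
    rw [hAs, hAs, e]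
  obtain ⟨u, -, -, z, hzz, hz, -⟩ := O.exists_aniso_orth hw hw0
  obtain ⟨ζ, κ, hζ, hX⟩ := O.rad_form hw'0 hw' (O.rad_of_map hx hw hAs hAsurj hxw hz hzz)
  have h1 : ∀ b c, f (As b) (As c) * g z z = f b c * g ζ ζ := fun b c => by
    rw [← O.polarT, ← OQ.map_polar x, show (x : V ≃ₗ[F] V) (T (As b) z) = T b ζ + T (κ b) w' from hX b,
      show (x : V ≃ₗ[F] V) (T (As c) z) = T c ζ + T (κ c) w' from hX c, polar_add_left', polar_add_right',
      polar_add_right', O.polarT, O.polarT, O.polarT, O.polarT, hζ, hw', O.hg.symm w' ζ, hζ]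
    ring
  set r := g ζ ζ / g z z
  have h2 : ∀ b c, f (As b) (As c) = r * f b c := fun b c => by
    have := h1 b c
    simp only [r]
    field_simp
    linear_combination this
  have hr : r ≠ 0 := fun h0 => by
    obtain ⟨a, ha⟩ := O.hf.exists_aniso
    obtain ⟨b, rfl⟩ := LinearMap.injective_iff_surjective.1 hAsinj a
    exact ha (by rw [h2, h0, zero_mul])
  have h3 : ∀ b, A (As b) = r • b := fun b => O.fext fun c => by
    rw [O.hf.symm (A (As b)) c, hAs, h2, map_smul, smul_eq_mul, O.hf.symm b c]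
  refine ⟨r, hr, fun a b => ?_⟩
  rw [hAs, show As (A b) = r • b from hAinj (by rw [h3, map_smul]), map_smul, smul_eq_mul]

/-- **A line fixed up to a similarity.** -/
theorem tens_fixed_line {x : OQ Q} (hx : x ∈ K) {w : W} (hw0 : w ≠ 0) (hw : g w w = 0) {γ : F} (hγ : γ ≠ 0)
    {A : U →ₗ[F] U} (hA : ∀ a b, f (A a) (A b) = γ * f a b)
    (hxw : ∀ a, (x : V ≃ₗ[F] V) (T a w) = T (A a) w) : Tens T x := by
  classical
  have := O.ntU
  obtain ⟨u, huu, hwu, -⟩ := O.exists_aniso_orth hw hw0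
  have hAinj : Function.Injective A := fun p q e =>
    O.T_injective hw0 ((x : V ≃ₗ[F] V).injective (by rw [hxw, hxw, e]))
  have hAsurj : Function.Surjective A := LinearMap.injective_iff_surjective.1 hAinj
  set A' : U →ₗ[F] U := ((LinearEquiv.ofBijective A ⟨hAinj, hAsurj⟩).symm : U →ₗ[F] U)
  have hA1 : ∀ a, A (A' a) = a := fun a => (LinearEquiv.ofBijective A ⟨hAinj, hAsurj⟩).apply_symm_apply a
  have hA2 : ∀ a, A' (A a) = a := fun a => (LinearEquiv.ofBijective A ⟨hAinj, hAsurj⟩).symm_apply_apply a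
  have hxsymm : ∀ a, (x : V ≃ₗ[F] V).symm (T (A a) w) = T a w := fun a => by
    rw [LinearEquiv.symm_apply_eq, hxw]
  have hAs : ∀ a b, f (A a) b = f a ((γ • A' : U →ₗ[F] U) b) := fun a b => by
    conv_lhs => rw [← hA1 b, hA]
    simp
  have href : ∀ c, f c c ≠ 0 → ∀ a, A (reflU c a) = reflU (A c) (A a) := fun c hc a => by
    rw [MixTensor.refl_apply, MixTensor.refl_apply, map_sub, map_smul, hA, hA]
    congr 2
    field_simp
  -- the action modulo the line
  have hmod : ∀ z, g w z = 0 → ∃ ζ : W, g w ζ = 0 ∧ ∃ κ : U →ₗ[F] U, ∀ b,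
      (x : V ≃ₗ[F] V) (T b z) = T (A b) ζ + T (A (κ b)) w := by
    intro z hz
    refine O.perp_induction hw hw0 (P := fun z => ∃ ζ : W, g w ζ = 0 ∧ ∃ κ : U →ₗ[F] U, ∀ b,
      (x : V ≃ₗ[F] V) (T b z) = T (A b) ζ + T (A (κ b)) w) ?_ ?_ hz
    · rintro p q - - ⟨ζ, h1, κ, h2⟩ ⟨ζ', h1', κ', h2'⟩
      exact ⟨ζ - ζ', by simp [h1, h1'], κ - κ', fun b => by simp [map_sub, h2, h2']; abel⟩
    intro z hz hzz
    obtain ⟨ζ, κ, hζ, hX⟩ := O.rad_form hw0 hw (O.rad_of_map hx hw hAs hAsurj hxw hz hzz)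
    refine ⟨γ⁻¹ • ζ, by simp [hζ], γ⁻¹ • (A' ∘ₗ κ ∘ₗ A), fun b => ?_⟩
    have h1 : (x : V ≃ₗ[F] V) (T ((γ • A' : U →ₗ[F] U) (A b)) z) = T (A b) ζ + T (κ (A b)) w := hX (A b)
    rw [LinearMap.smul_apply, hA2, map_smul, LinearMap.smul_apply, map_smul] at h1
    rw [← inv_smul_smul₀ hγ ((x : V ≃ₗ[F] V) (T b z)), h1]
    simp [hA1]
  choose! ζ hζw κ hκ using hmod
  have hsq : ∀ {c c' : U}, f c c ≠ 0 → f c' c' ≠ 0 → IsSquare (f c c * f c' c') → ∃ k₀ ∈ K, ∃ k ∈ K,
      (∀ a y, (k₀ : V ≃ₗ[F] V).symm (T a y) = T (reflU c' (reflU c a)) y) ∧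
      ∀ a y, (k : V ≃ₗ[F] V) (T (A a) y) = T (A (reflU c (reflU c' a))) y := by
    intro c c' hc hc' h
    obtain ⟨k₀, hk₀, e₀⟩ := O.inU_pair hc hc' h
    obtain ⟨k, hk, e⟩ := O.inU_pair (d := A c) (d' := A c') (by simp [hA, hγ, hc]) (by simp [hA, hγ, hc']) (by
      obtain ⟨s, hs⟩ := h
      exact ⟨γ * s, by rw [hA, hA]; linear_combination γ * γ * hs⟩)
    exact ⟨k₀, hk₀, k, hk, fun a y => by
      rw [LinearEquiv.symm_apply_eq, e₀]; simp [O.hf.refl_refl hc, O.hf.refl_refl hc'], fun a y => by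
      rw [e]; simp [href c hc, href c' hc']⟩
  -- the line coefficients are scalars
  have hκs : ∀ z, g w z = 0 → ∃ μ : F, κ z = μ • LinearMap.id := fun z hz => O.scalar_of_shift fun c c' hc hc' hcc => by
    obtain ⟨k₀, hk₀, k, hk, ek', ek⟩ := hsq hc hc' hcc
    set s : OQ Q := x⁻¹ * k * x * k₀⁻¹
    have hs : ∀ v, (s : V ≃ₗ[F] V) v =
        (x : V ≃ₗ[F] V).symm ((k : V ≃ₗ[F] V) ((x : V ≃ₗ[F] V) ((k₀ : V ≃ₗ[F] V).symm v))) := fun _ => rfl
    have hr : ∀ b, reflU c (reflU c' (reflU c' (reflU c b))) = b := fun b => by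
      rw [O.hf.refl_refl hc', O.hf.refl_refl hc]
    obtain ⟨μ, hμ⟩ := O.rad_of_fix (s := s)
      (θ := fun z => (reflU c ∘ₗ reflU c') ∘ₗ κ z ∘ₗ (reflU c' ∘ₗ reflU c) - κ z)
      (K.mul_mem (K.mul_mem (K.mul_mem (K.inv_mem hx) hk) hx) (K.inv_mem hk₀)) hw hwu
      (fun a => by rw [hs, ek', hxw, ek, hr, hxsymm])
      (fun z hz b => by
        rw [hs, ek', hκ z hz, map_add, ek, ek, hr,
          show T (A b) (ζ z) = (x : V ≃ₗ[F] V) (T b z) - T (A (κ z b)) w by rw [hκ z hz b, add_sub_cancel_right],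
          map_add, map_sub, LinearEquiv.symm_apply_apply, hxsymm, hxsymm]
        simp only [LinearMap.sub_apply, LinearMap.comp_apply, map_sub]
        abel) z hz
    exact ⟨μ, fun a => sub_eq_iff_eq_add'.1 (hμ a)⟩
  choose! μ hμ using hκs
  have hperp : ∀ z, g w z = 0 → ∀ b, (x : V ≃ₗ[F] V) (T b z) = T (A b) (ζ z + μ z • w) := fun z hz b => by
    rw [hκ z hz, hμ z hz]
    simp
  -- the map on the orthogonal
  set Wp := LinearMap.ker (g w)
  obtain ⟨a₀, ha₀⟩ := exists_ne (0 : U)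
  have hAa₀ : A a₀ ≠ 0 := fun h => ha₀ (hAinj (h.trans (map_zero A).symm))
  let B : Wp →ₗ[F] Wp :=
    { toFun := fun z => ⟨ζ (z : W) + μ (z : W) • w, LinearMap.mem_ker.2 (by simp [hζw _ z.2, hw])⟩
      map_add' := fun p q => Subtype.ext (O.T_injective' hAa₀ (by
        simp only [Submodule.coe_add, map_add (T (A a₀))]
        rw [← map_add (T (A a₀)) (ζ (p : W)), ← map_add (T (A a₀)) (ζ (q : W)),
          ← map_add (T (A a₀)) (ζ ((p : W) + q)), ← hperp _ (by simp [LinearMap.mem_ker.1 p.2, LinearMap.mem_ker.1 q.2]),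
          ← hperp _ p.2, ← hperp _ q.2, map_add, map_add]))
      map_smul' := fun c p => Subtype.ext (O.T_injective' hAa₀ (by
        simp only [Submodule.coe_smul, RingHom.id_apply]
        rw [map_smul (T (A a₀)) c, ← hperp _ (by simp [LinearMap.mem_ker.1 p.2]), ← hperp _ p.2, map_smul, map_smul])) }
  have hBsurj : Function.Surjective B := LinearMap.injective_iff_surjective.1
    ((injective_iff_map_eq_zero B).2 fun p hp => Subtype.ext (O.T_eq_zero' ha₀ ((x : V ≃ₗ[F] V).injective (by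
      rw [hperp _ p.2, show ζ (p : W) + μ (p : W) • w = 0 from congrArg Subtype.val hp, map_zero, map_zero]))))
  -- the partner line
  set L : U →ₗ[F] V := ((x : V ≃ₗ[F] V) : V →ₗ[F] V) ∘ₗ T.flip u ∘ₗ A'
  have hL : ∀ b, L b = (x : V ≃ₗ[F] V) (T (A' b) u) := fun _ => rfl
  have hfA : ∀ a b, f a (A' b) = γ⁻¹ * f (A a) b := fun a b => by
    conv_rhs => rw [← hA1 b, hA]
    rw [inv_mul_cancel_left₀ hγ]
  have hLw : ∀ b, O.C w (L b) = γ⁻¹ • b := fun b => O.fext fun a => by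
    obtain ⟨a, rfl⟩ := hAsurj a
    rw [O.f_C, ← hxw, hL, OQ.map_polar, O.polarT, hwu, mul_one, hfA, map_smul, smul_eq_mul]
  have hLp : ∀ z', g w z' = 0 → ∃ σ : F, ∀ b, O.C z' (L b) = σ • b := fun z' hz' => by
    obtain ⟨⟨z, hz⟩, hzB⟩ := hBsurj ⟨z', LinearMap.mem_ker.2 hz'⟩
    have e : ζ z + μ z • w = z' := congrArg Subtype.val hzB
    refine ⟨γ⁻¹ * g z u, fun b => O.fext fun a => ?_⟩
    obtain ⟨a, rfl⟩ := hAsurj a
    rw [O.f_C, ← e, ← hperp z hz, hL, OQ.map_polar, O.polarT, hfA, map_smul, smul_eq_mul]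
    ring
  set pr : W →ₗ[F] W := LinearMap.id - (g w).smulRight u
  obtain ⟨φ, hφ⟩ : ∃ φ : Module.Dual F U, φ a₀ = 1 := by
    obtain ⟨c, hc⟩ : ∃ c, f c a₀ ≠ 0 := by
      by_contra! hc
      exact ha₀ (O.hf.nd.2 a₀ hc)
    exact ⟨(f c a₀)⁻¹ • f c, by simp [hc]⟩
  obtain ⟨ζ₁, hζ₁⟩ := O.exists_left_dual (φ ∘ₗ O.C.flip (L a₀) ∘ₗ pr)
  set Φ : U →ₗ[F] U := A' ∘ₗ O.C u ∘ₗ L ∘ₗ A
  have hu' : ∀ a, (x : V ≃ₗ[F] V) (T a u) = T (A a) ζ₁ + T (A (Φ a)) w := fun a => O.V_ext fun z' => by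
    obtain ⟨σ, hσ⟩ := hLp (pr z') (by simp [pr, hwu])
    have h1 : g z' ζ₁ = σ := by
      rw [O.hg.symm ζ₁ z', hζ₁, LinearMap.comp_apply, LinearMap.comp_apply, LinearMap.flip_apply, hσ, map_smul, hφ,
        smul_eq_mul, mul_one]
    rw [map_add, O.C_T, O.C_T, h1, O.hg.symm w z', ← hσ, show (x : V ≃ₗ[F] V) (T a u) = L (A a) by rw [hL, hA2]]
    conv_lhs => rw [show z' = pr z' + g w z' • u by simp [pr]]
    simp [Φ, hA1]
  have hwζ₁ : g w ζ₁ = γ⁻¹ := by
    rw [O.hg.symm, hζ₁]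
    simp [pr, hw, hLw, hφ]
  -- the partner coefficient commutes with the isometries
  have hΦ : ∃ ν : F, Φ = ν • LinearMap.id := O.scalar_of_shift fun c c' hc hc' hcc => by
    obtain ⟨k₀, hk₀, k, hk, ek', ek⟩ := hsq hc hc' hcc
    have hr : ∀ b, reflU c (reflU c' (reflU c' (reflU c b))) = b := fun b => by
      rw [O.hf.refl_refl hc', O.hf.refl_refl hc]
    set s : OQ Q := x⁻¹ * k * x * k₀⁻¹
    have hs : ∀ v, (s : V ≃ₗ[F] V) v =
        (x : V ≃ₗ[F] V).symm ((k : V ≃ₗ[F] V) ((x : V ≃ₗ[F] V) ((k₀ : V ≃ₗ[F] V).symm v))) := fun _ => rfl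
    have hs2 : ∀ z, g w z = 0 → ∀ a, (s : V ≃ₗ[F] V) (T a z) = T a z := fun z hz a => by
      rw [hs, ek', hperp z hz, ek, hr, LinearEquiv.symm_apply_eq, hperp z hz]
    have hsu : ∀ a, (s : V ≃ₗ[F] V) (T a u) =
        T a u + T (reflU c (reflU c' (Φ (reflU c' (reflU c a)))) - Φ a) w := fun a => by
      rw [hs, ek', hu', map_add, ek, ek, hr, LinearEquiv.symm_apply_eq, map_add, hu', hxw]
      simp only [map_sub, LinearMap.sub_apply]
      abel
    have h3 := O.nc s (K.mul_mem (K.mul_mem (K.mul_mem (K.inv_mem hx) hk) hx) (K.inv_mem hk₀)) w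
      ((reflU c ∘ₗ reflU c') ∘ₗ Φ ∘ₗ (reflU c' ∘ₗ reflU c) - Φ) hw0 hw (fun a y => by
        set z := y - g w y • u
        have hz : g w z = 0 := by simp [z, hwu]
        conv_lhs => rw [show y = z + g w y • u by simp [z]]
        simp only [map_add, map_smul, hs2 z hz, hsu]
        simp [z]
        module)
    refine ⟨0, fun a => ?_⟩
    have h4 := LinearMap.congr_fun h3 a
    simp only [LinearMap.sub_apply, LinearMap.comp_apply, LinearMap.zero_apply, sub_eq_zero] at h4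
    rw [h4, zero_smul, add_zero]
  obtain ⟨ν, hν⟩ := hΦ
  refine O.tens_of_left (A := A) ⟨a₀, hAa₀⟩ fun y => ?_
  set z := y - g w y • u
  have hz : g w z = 0 := by simp [z, hwu]
  refine ⟨ζ z + μ z • w + g w y • (ζ₁ + ν • w), fun a => ?_⟩
  conv_lhs => rw [show y = z + g w y • u by simp [z]]
  simp only [map_add, map_smul, hperp z hz, hu', hν, LinearMap.smul_apply, LinearMap.id_apply]

/-- Moving a singular line to another one. -/
theorem inW_move {e e' : W} (he : g e e = 0) (he0 : e ≠ 0) (he' : g e' e' = 0) (he'0 : e' ≠ 0) :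
    ∃ (B : W →ₗ[F] W) (r : F), InW K T B ∧ r ≠ 0 ∧ B e = r • e' := by
  by_cases h : g e e' = 0
  · obtain ⟨s, rfl⟩ := Submodule.mem_span_singleton.1 (O.thinG e e' he he0 h he')
    have hs : s ≠ 0 := fun h0 => he'0 (by rw [h0, zero_smul])
    exact ⟨LinearMap.id, s⁻¹, InW.one, inv_ne_zero hs, by simp [hs]⟩
  have hg := O.hg
  set u := (g e e')⁻¹ • e'
  have hu : g u u = 0 := by simp [u, he']
  have heu : g e u = 1 := by simp [u, h]
  obtain ⟨z, hz0, hzP⟩ := exists_aniso_perp hg (Submodule.span F ({e, u} : Set W)) (pair_nondeg hg he hu heu)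
    (by have := O.wThree; have := CfsgLib.Geo.OrthTensor.span_pair_le (F := F) e u; omega)
  have hez : g e z = 0 := hzP e (Submodule.subset_span (Set.mem_insert _ _))
  have huz : g u z = 0 := hzP u (Submodule.subset_span (Set.mem_insert_of_mem _ rfl))
  refine ⟨_, -(2 / g z z) * (g e e')⁻¹, ((O.inW_siegel he hez hz0).mul (O.inW_siegel (z := (2 / g z z) • z) hu
    (by simp [huz]) (by simp [hz0, O.two]))).mul (O.inW_siegel he hez hz0),
    mul_ne_zero (neg_ne_zero.2 (div_ne_zero O.two hz0)) (inv_ne_zero h), ?_⟩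
  rw [show (-(2 / g z z) * (g e e')⁻¹) • e' = (-(2 / g z z)) • u by rw [mul_smul]]
  have h2 := O.two
  simp only [LinearMap.comp_apply, sv_apply, map_add, map_sub, map_smul, LinearMap.smul_apply, smul_eq_mul, he, hu,
    heu, hez, huz, hg.symm e u, hg.symm e z, hg.symm u z, mul_zero, zero_smul, add_zero, sub_zero, mul_one]
  match_scalars <;> field_simp <;> ring

/-- **An element mapping a singular line of pure tensors to another is a product.** -/
theorem tens_of_line {k : OQ Q} (hk : k ∈ K) {e₁ e₂ : W} (h1 : g e₁ e₁ = 0) (h10 : e₁ ≠ 0) (h2 : g e₂ e₂ = 0)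
    (h20 : e₂ ≠ 0) {A : U →ₗ[F] U} (e : ∀ a, (k : V ≃ₗ[F] V) (T a e₁) = T (A a) e₂) : Tens T k := by
  obtain ⟨B, r, ⟨kB, hkB, ekB⟩, hr, hB⟩ := O.inW_move h2 h20 h1 h10
  have e' : ∀ a, ((kB * k : OQ Q) : V ≃ₗ[F] V) (T a e₁) = T ((r • A) a) e₁ := fun a => by
    show (kB : V ≃ₗ[F] V) ((k : V ≃ₗ[F] V) (T a e₁)) = _
    rw [e, ekB, hB]
    simp
  obtain ⟨γ, hγ, hA⟩ := O.sim_of_line (K.mul_mem hkB hk) h10 h1 h10 h1 e'
  have hx := O.tens_fixed_line (K.mul_mem hkB hk) h10 h1 hγ hA e'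
  have := finite_OQ' Q
  have h3 := (show Tens T kB from ⟨LinearMap.id, B, ekB⟩).inv.mul hx
  rwa [inv_mul_cancel_left] at h3

end Side

end CfsgLib.Geo.OrthTensorFour
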