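/-
`O₃ ⊗ O₄⁻`: both sides of the decomposition, and elements fixing lines of pure tensors of either side.
-/
import Cfsg.Agent.Lib.Geo.OrthTensorFour.Line

set_option autoImplicit false
set_option linter.unusedSectionVars false

namespace CfsgLib.Geo.OrthTensorFour

open CfsgLib.Classical CfsgLib.Classical.Quad Module
open CfsgLib.Geo.MixTensor (SymForm)
open CfsgLib.Geo.OrthTensor (sv sv_apply sv_norm exists_iso_partner Tensor Tens scalar_of_isotropic)
open QuadraticMap (polar polarBilin)
open LinearMap (BilinForm)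

variable {F : Type*} [Field F] [Finite F] {U W V : Type*} [AddCommGroup U] [Module F U] [FiniteDimensional F U]
  [AddCommGroup W] [Module F W] [FiniteDimensional F W] [AddCommGroup V] [Module F V] [FiniteDimensional F V]
  {Q : QuadraticForm F V} {f : BilinForm F U} {g : BilinForm F W} {T : U →ₗ[F] W →ₗ[F] V}
  {K : Subgroup (OQ Q)}

theorem tens_flip {k : OQ Q} (h : Tens T.flip k) : Tens T k := by
  obtain ⟨B, A, e⟩ := h
  exact ⟨A, B, fun a y => e y a⟩

theorem tens_to_flip {k : OQ Q} (h : Tens T k) : Tens T.flip k := by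
  obtain ⟨A, B, e⟩ := h
  exact ⟨B, A, fun y a => e a y⟩

/-- A vector orthogonal to `d` and to the anisotropic part of a hyperbolic pair lies on the line of `d`. -/
theorem mem_line (hg : SymForm g) (hT : Thin g) {d e : W} (hd : g d d = 0) (hd0 : d ≠ 0) (hde : g d e = 1) {r : W}
    (h1 : g d r = 0) (h2 : ∀ z, g d z = 0 → g e z = 0 → g z z ≠ 0 → g z r = 0) : r = g e r • d := by
  by_contra hne
  set r' := r - g e r • d
  have k1 : g d r' = 0 := by simp [r', h1, hd]
  have k2 : g e r' = 0 := by simp [r', hg.symm d e, hde]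
  by_cases hq : g r' r' = 0
  · obtain ⟨c, hc⟩ := Submodule.mem_span_singleton.1 (hT d r' hd hd0 k1 hq)
    rw [← hc, map_smul, hg.symm d e, hde, smul_eq_mul, mul_one] at k2
    rw [k2, zero_smul] at hc
    exact hne (sub_eq_zero.1 hc.symm)
  · refine hq ?_
    have h3 := h2 r' k1 k2 hq
    have h4 : g r' d = 0 := by rw [hg.symm, k1]
    show g r' (r - g e r • d) = 0
    simp [h3, h4]

namespace Four

variable (O : Four Q f g T K)
include O

/-- The side of the second factor. -/
theorem side : Side Q f g T K where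
  toTensor := O.toTensor
  uThree := by rw [O.dU]
  wThree := by rw [O.dW]; omega
  thinF := O.thinU
  thinG := O.thin
  five := O.five
  base := O.base
  nc := O.nc

/-- No central elements at a singular line of the first factor. -/
theorem ncU : ∀ k ∈ K, ∀ (w : U) (φ : W →ₗ[F] W), w ≠ 0 → f w w = 0 →
    (∀ y a, (k : V ≃ₗ[F] V) (T.flip y a) = T.flip y a + f w a • T.flip (φ y) w) → φ = 0 := by
  intro k hk w φ hw0 hw e
  have e' : ∀ a y, (k : V ≃ₗ[F] V) (T a y) = T a y + f w a • T w (φ y) := fun a y => e y a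
  obtain ⟨u, huu, hwu⟩ := exists_iso_partner O.hf hw hw0
  have hskew : ∀ y y', g (φ y) y' + g y (φ y') = 0 := fun y y' => by
    have h1 := OQ.map_polar k (T u y) (T u y')
    rw [e', e', hwu, one_smul, one_smul, polar_add_left', polar_add_right', polar_add_right', O.polarT, O.polarT,
      O.polarT, O.polarT, hwu, hw, huu, O.hf.symm w u, hwu] at h1
    linear_combination h1
  obtain ⟨μ, hμ⟩ := scalar_of_isotropic O.hg (κ := φ) (by rw [O.dW]; omega) fun d hd => by
    by_cases hd0 : d = 0
    · exact ⟨0, by simp [hd0]⟩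
    obtain ⟨e₀, he₀, hde⟩ := exists_iso_partner O.hg hd hd0
    have hdφ : g d (φ d) = 0 := by
      have h := hskew d d
      rw [O.hg.symm d (φ d)] at h
      exact (mul_eq_zero.1 (show (2 : F) * g d (φ d) = 0 by linear_combination h)).resolve_left O.two
    refine ⟨g e₀ (φ d), mem_line O.hg O.thin hd hd0 hde hdφ fun z hdz hez hz => ?_⟩
    set α := g z (φ d)
    obtain ⟨m, hm, em⟩ := O.inW_siegel hd hdz hz
    set s : OQ Q := k⁻¹ * m * k * m⁻¹
    have hs : ∀ v, (s : V ≃ₗ[F] V) v =
        (k : V ≃ₗ[F] V).symm ((m : V ≃ₗ[F] V) ((k : V ≃ₗ[F] V) ((m : V ≃ₗ[F] V).symm v))) := fun _ => rfl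
    have hfixd : sv g d z d = d := by simp [sv_apply, hd, O.hg.symm d z, hdz]
    have hsd : ∀ a, (s : V ≃ₗ[F] V) (T a d) = T (a - (α * f w a) • w) d := fun a => by
      have hm' : (m : V ≃ₗ[F] V).symm (T a d) = T a d := by rw [LinearEquiv.symm_apply_eq, em, hfixd]
      rw [hs, hm', e', LinearEquiv.symm_apply_eq, map_add, map_smul, em, em, hfixd, e' (a - (α * f w a) • w) d,
        sv_apply, hdφ]
      simp [hw, α, smul_sub, smul_smul, mul_comm]
      module
    have hsw : ∀ y, (s : V ≃ₗ[F] V) (T w y) = T w y := fun y => by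
      obtain ⟨y, rfl⟩ := iso_surj O.hg (O.inW_iso ⟨m, hm, em⟩) y
      have hm' : (m : V ≃ₗ[F] V).symm (T w (sv g d z y)) = T w y := by rw [LinearEquiv.symm_apply_eq, em]
      rw [hs, hm', e', hw, zero_smul, add_zero, em, LinearEquiv.symm_apply_eq, e', hw, zero_smul, add_zero]
    obtain ⟨A, B, hAB⟩ := O.side.tens_of_line (k := s) (A := LinearMap.id - α • (f w).smulRight w)
      (K.mul_mem (K.mul_mem (K.mul_mem (K.inv_mem hk) hm) hk) (K.inv_mem hm)) hd hd0 hd hd0
      (fun a => by rw [hsd]; simp [smul_smul])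
    have hw1 : ∀ y, T (A w) (B y) = T w y := fun y => by rw [← hAB, hsw]
    have hAw : g e₀ (B d) • A w = w := by
      have h := congrArg (O.C e₀) (hw1 d)
      rwa [O.C_T, O.C_T, O.hg.symm d e₀, hde, one_smul] at h
    set κ := g e₀ (B d)
    have hκ : κ ≠ 0 := fun h0 => hw0 (by rw [← hAw, h0, zero_smul])
    have hB : ∀ y, B y = κ • y := fun y => by
      have h : T (A w) (B y - κ • y) = 0 := by
        rw [map_sub, map_smul, hw1]
        conv_lhs => arg 1; rw [← hAw, map_smul, LinearMap.smul_apply]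
        exact sub_self _
      exact sub_eq_zero.1 (O.T_eq_zero' (fun h0 => hw0 (by rw [← hAw, h0, smul_zero])) h)
    obtain ⟨y₀, hy₀⟩ := have := O.ntW; O.hg.exists_aniso
    have hu : (s : V ≃ₗ[F] V) (T u y₀) = T (u - α • w) y₀ := by
      have hA : κ • A u = u - α • w := O.T_injective (r := d) hd0 (by
        have h := hsd u
        rw [hAB, hB, hwu, mul_one, map_smul] at h
        rw [map_smul, LinearMap.smul_apply, h])
      rw [hAB, hB, map_smul, ← hA, map_smul (T) κ (A u), LinearMap.smul_apply]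
    have h5 := OQ.map_polar s (T u y₀) (T u y₀)
    rw [hu, O.polarT, O.polarT] at h5
    have h6 := mul_right_cancel₀ hy₀ h5
    simp only [map_sub, map_smul, LinearMap.sub_apply, LinearMap.smul_apply, smul_eq_mul, hw, huu, hwu,
      O.hf.symm w u] at h6
    exact (mul_eq_zero.1 (show (2 : F) * α = 0 by linear_combination -h6)).resolve_left O.two
  have := O.ntW
  obtain ⟨y₀, hy₀⟩ := O.hg.exists_aniso
  have h := hskew y₀ y₀
  rw [hμ] at h
  simp only [LinearMap.smul_apply, LinearMap.id_apply, map_smul, smul_eq_mul] at h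
  have hμ0 : μ = 0 := by simpa [O.two, hy₀] using (show (2 : F) * (μ * g y₀ y₀) = 0 by linear_combination h)
  rw [hμ, hμ0, zero_smul]

/-- The side of the first factor. -/
theorem sideU : Side Q g f T.flip K where
  toTensor := O.toTensor.flip
  uThree := by rw [O.dW]; omega
  wThree := by rw [O.dU]
  thinF := O.thin
  thinG := O.thinU
  five := O.five
  base := fun k hk h => O.base k hk (tens_flip h)
  nc := O.ncU

/-- **An element mapping a singular line of the second factor to another is a product.** -/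
theorem tens_of_line {k : OQ Q} (hk : k ∈ K) {e₁ e₂ : W} (h1 : g e₁ e₁ = 0) (h10 : e₁ ≠ 0) (h2 : g e₂ e₂ = 0)
    (h20 : e₂ ≠ 0) {A : U →ₗ[F] U} (e : ∀ a, (k : V ≃ₗ[F] V) (T a e₁) = T (A a) e₂) : Tens T k :=
  O.side.tens_of_line hk h1 h10 h2 h20 e

/-- **An element mapping a singular line of the first factor to another is a product.** -/
theorem tens_of_lineU {k : OQ Q} (hk : k ∈ K) {w₁ w₂ : U} (h1 : f w₁ w₁ = 0) (h10 : w₁ ≠ 0) (h2 : f w₂ w₂ = 0)
    (h20 : w₂ ≠ 0) {B : W →ₗ[F] W} (e : ∀ y, (k : V ≃ₗ[F] V) (T w₁ y) = T w₂ (B y)) : Tens T k :=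
  tens_flip (O.sideU.tens_of_line hk h1 h10 h2 h20 (A := B) e)

end Four

end CfsgLib.Geo.OrthTensorFour
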