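/-
`O₃ ⊗ O₄⁻`: elements of order `p` of the stabiliser are not fused to the outside.
-/
import Cfsg.Agent.Lib.Geo.OrthTensorFour.Flip
import Cfsg.Agent.Lib.LocalEven.Generation

set_option autoImplicit false
set_option linter.unusedSectionVars false

namespace CfsgLib.Geo.OrthTensorFour

open CfsgLib.Classical CfsgLib.Classical.Quad Module
open CfsgLib.Geo.MixTensor (SymForm)
open CfsgLib.Geo.OrthTensor (sv sv_apply sv_norm exists_iso_partner exists_aniso_perp pair_nondeg Tensor Tens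
  isSquare_of_sim sv_isometry)
open QuadraticMap (polar polarBilin)
open LinearMap (BilinForm)

variable {F : Type*} [Field F] [Finite F] {U W V : Type*} [AddCommGroup U] [Module F U] [FiniteDimensional F U]
  [AddCommGroup W] [Module F W] [FiniteDimensional F W] [AddCommGroup V] [Module F V] [FiniteDimensional F V]
  {Q : QuadraticForm F V} {f : BilinForm F U} {g : BilinForm F W} {T : U →ₗ[F] W →ₗ[F] V}
  {K : Subgroup (OQ Q)}

local notation "reflU" => MixTensor.refl f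
local notation "reflW" => MixTensor.refl g

/-- A pair of maps with the Siegel property. -/
def IsSV (h : BilinForm F U) (A : U →ₗ[F] U) : Prop :=
  ∃ w z, w ≠ 0 ∧ h w w = 0 ∧ h w z = 0 ∧ h z z ≠ 0 ∧ ∀ x, A x = sv h w z x

/-- A unipotent isometry is trivial or a Siegel map. -/
theorem one_or_sv {h : BilinForm F U} (hh : SymForm h) (hT : Thin h) {p : ℕ} [Fact p.Prime] [CharP F p]
    {A : U →ₗ[F] U} (hA : ∀ x y, h (A x) (A y) = h x y) (hp : (A : Module.End F U) ^ p = 1) :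
    A = LinearMap.id ∨ IsSV h A := by
  by_cases hne : A = LinearMap.id
  · exact Or.inl hne
  refine Or.inr ?_
  by_cases hU : Nontrivial U
  · have : CharP (Module.End F U) p := charP_of_injective_algebraMap (R := F) (algebraMap F _).injective p
    exact sv_of_nilpotent hh hT hA ⟨p, by
      show ((A : Module.End F U) - 1) ^ p = 0
      rw [sub_pow_char_of_commute p (Commute.one_right _), hp, one_pow, sub_self]⟩ hne
  · rw [not_nontrivial_iff_subsingleton] at hU
    exact absurd (LinearMap.ext fun x => Subsingleton.elim _ _) hne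

namespace Four

variable (O : Four Q f g T K)
include O

theorem exists_char : ∃ p : ℕ, p.Prime ∧ CharP F p := by
  obtain ⟨p, hp⟩ := CharP.exists F
  exact ⟨p, (CharP.char_is_prime_or_zero F p).resolve_right fun h => by
    subst h
    have := CharP.charP_to_charZero F
    exact not_finite F, hp⟩

/-- The products in the group. -/
def H (O : Four Q f g T K) : Subgroup (OQ Q) where
  carrier := {k | k ∈ K ∧ Tens T k}
  one_mem' := ⟨K.one_mem, LinearMap.id, LinearMap.id, fun _ _ => rfl⟩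
  mul_mem' h h' := ⟨K.mul_mem h.1 h'.1, h.2.mul h'.2⟩
  inv_mem' h := ⟨K.inv_mem h.1, have := finite_OQ' Q; h.2.inv⟩

theorem mem_H {k : OQ Q} : k ∈ O.H ↔ k ∈ K ∧ Tens T k := Iff.rfl

/-- The inverse of a map of the first factor in the group. -/
theorem inU_inv {A : U →ₗ[F] U} (h : InU K T A) :
    ∃ A' : U →ₗ[F] U, (∀ a, A' (A a) = a) ∧ (∀ a, A (A' a) = a) ∧ InU K T A' := by
  obtain ⟨k, hk, e⟩ := h
  have hA := O.inU_iso ⟨k, hk, e⟩
  set eA := LinearEquiv.ofBijective A ⟨iso_inj O.hf hA, iso_surj O.hf hA⟩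
  refine ⟨eA.symm, eA.symm_apply_apply, eA.apply_symm_apply, k⁻¹, K.inv_mem hk, fun a y => ?_⟩
  show (k : V ≃ₗ[F] V).symm (T a y) = _
  rw [LinearEquiv.symm_apply_eq, e]
  exact congrArg (fun b => T b y) (eA.apply_symm_apply a).symm

/-- The two factors are determined. -/
theorem prod_unique {A A' : U →ₗ[F] U} {B B' : W →ₗ[F] W} (hA : InU K T A) (hA' : InU K T A') (hB : InW K T B)
    (hB' : InW K T B') (h : ∀ a y, T (A a) (B y) = T (A' a) (B' y)) : A = A' ∧ B = B' := by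
  have := O.ntW
  have := O.ntU
  obtain ⟨y₀, hy₀⟩ := O.hg.exists_aniso
  have hBy : B y₀ ≠ 0 := fun e => hy₀ (by rw [← O.inW_iso hB, e, map_zero])
  obtain ⟨z, hz⟩ := O.exists_partner hBy
  have hc : ∀ a, A a = g z (B' y₀) • A' a := fun a => by
    have h1 := congrArg (O.C z) (h a y₀)
    rwa [O.C_T, O.C_T, hz, one_smul] at h1
  set c := g z (B' y₀)
  obtain ⟨a₀, ha₀⟩ := O.hf.exists_aniso
  have hc2 : c * c = 1 := by
    have h1 := O.inU_iso hA a₀ a₀
    simp only [hc, map_smul, LinearMap.smul_apply, smul_eq_mul, O.inU_iso hA', ← mul_assoc] at h1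
    exact mul_right_cancel₀ ha₀ (h1.trans (one_mul _).symm)
  have hc1 : c = 1 := (mul_self_eq_one_iff.1 hc2).resolve_right fun e => by
    obtain ⟨A₁, h1, h1', hA₁⟩ := O.inU_inv hA'
    refine O.not_negU ?_
    convert hA₁.mul hA using 1
    exact LinearMap.ext fun a => by simp [hc, e, h1]
  have hAA : A = A' := LinearMap.ext fun a => by rw [hc, hc1, one_smul]
  refine ⟨hAA, LinearMap.ext fun y => O.T_injective' (a := A' a₀) (fun e => ha₀ ?_) (by rw [← h, hAA])⟩
  rw [← O.inU_iso hA', e, map_zero]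

/-- An element of the stabiliser as a pair. -/
theorem exists_pair {k : OQ Q} (hk : k ∈ O.H) :
    ∃ A B, InU K T A ∧ InW K T B ∧ ∀ a y, (k : V ≃ₗ[F] V) (T a y) = T (A a) (B y) := by
  obtain ⟨hkK, A, B, e⟩ := hk
  have := O.ntW
  have := O.ntU
  obtain ⟨y₀, hy₀⟩ := O.hg.exists_aniso
  obtain ⟨a₀, ha₀⟩ := O.hf.exists_aniso
  have h1 : ∀ a b, f (A a) (A b) * g (B y₀) (B y₀) = f a b * g y₀ y₀ := fun a b => by
    rw [← O.polarT, ← e, ← e, OQ.map_polar, O.polarT]
  have hB0 : g (B y₀) (B y₀) ≠ 0 := fun e0 => mul_ne_zero ha₀ hy₀ (by rw [← h1, e0, mul_zero])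
  obtain ⟨γ, hγ, hA⟩ : ∃ γ, γ ≠ 0 ∧ ∀ a b, f (A a) (A b) = γ * f a b :=
    ⟨g y₀ y₀ / g (B y₀) (B y₀), div_ne_zero hy₀ hB0, fun a b => by
      field_simp
      linear_combination h1 a b⟩
  obtain ⟨r, hr⟩ := isSquare_of_sim O.hf.nd hγ hA (by rw [O.dU]; decide)
  have hr0 : r ≠ 0 := fun h => hγ (by rw [hr, h, mul_zero])
  obtain ⟨r', A₀, hA₀, hAe⟩ : ∃ (r' : F) (A₀ : U →ₗ[F] U), InU K T A₀ ∧ ∀ a, A a = r' • A₀ a := by
    rcases O.inU_or_neg (A := r⁻¹ • A) (fun a b => by simp [hA, hr]; field_simp) with h | h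
    · exact ⟨r, _, h, fun a => by rw [LinearMap.smul_apply, smul_inv_smul₀ hr0]⟩
    · exact ⟨-r, _, h, fun a => by
        rw [LinearMap.neg_apply, LinearMap.smul_apply, smul_neg, neg_smul, neg_neg, smul_inv_smul₀ hr0]⟩
  obtain ⟨kA, hkA, ekA⟩ := id hA₀
  refine ⟨A₀, r' • B, hA₀, ⟨kA⁻¹ * k, K.mul_mem (K.inv_mem hkA) hkK, fun a y => ?_⟩, fun a y => ?_⟩
  · show (kA : V ≃ₗ[F] V).symm ((k : V ≃ₗ[F] V) (T a y)) = _
    rw [LinearEquiv.symm_apply_eq, e, ekA, hAe]
    simp
  · rw [e, hAe]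
    simp

/-- The pairs in the stabiliser. -/
theorem exists_mem {A : U →ₗ[F] U} {B : W →ₗ[F] W} (hA : InU K T A) (hB : InW K T B) :
    ∃ k ∈ O.H, ∀ a y, (k : V ≃ₗ[F] V) (T a y) = T (A a) (B y) := by
  obtain ⟨k, hk, e⟩ := hA
  obtain ⟨k', hk', e'⟩ := hB
  exact ⟨k * k', ⟨K.mul_mem hk hk', (show Tens T k from ⟨A, LinearMap.id, e⟩).mul ⟨LinearMap.id, B, e'⟩⟩,
    fun a y => by
      show (k : V ≃ₗ[F] V) ((k' : V ≃ₗ[F] V) (T a y)) = _
      rw [e', e]⟩

theorem inU_pow {A : U →ₗ[F] U} (h : InU K T A) : ∀ n : ℕ, InU K T ((A : Module.End F U) ^ n)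
  | 0 => InU.one
  | n + 1 => by rw [pow_succ]; exact (inU_pow h n).mul h

theorem inW_pow {B : W →ₗ[F] W} (h : InW K T B) : ∀ n : ℕ, InW K T ((B : Module.End F W) ^ n)
  | 0 => InW.one
  | n + 1 => by rw [pow_succ]; exact (inW_pow h n).mul h

theorem pair_pow {k : OQ Q} {A : U →ₗ[F] U} {B : W →ₗ[F] W}
    (e : ∀ a y, (k : V ≃ₗ[F] V) (T a y) = T (A a) (B y)) (n : ℕ) :
    ∀ a y, ((k ^ n : OQ Q) : V ≃ₗ[F] V) (T a y) =
      T (((A : Module.End F U) ^ n) a) (((B : Module.End F W) ^ n) y) := by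
  induction n with
  | zero => exact fun _ _ => rfl
  | succ n ih =>
    intro a y
    rw [pow_succ, pow_succ (A : Module.End F U), pow_succ (B : Module.End F W)]
    show ((k ^ n : OQ Q) : V ≃ₗ[F] V) ((k : V ≃ₗ[F] V) (T a y)) = _
    rw [e, ih]
    rfl

variable {p : ℕ} [Fact p.Prime] [CharP F p]

omit [Fact p.Prime] in
theorem sv_p {h : BilinForm F W} (hh : SymForm h) {w z : W} (hw : h w w = 0) (hz : h w z = 0) :
    ((sv h w z : Module.End F W) ^ p) = 1 := by
  refine LinearMap.ext fun x => ?_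
  rw [sv_pow hh hw hz, CharP.cast_eq_zero F p, zero_smul, sv_zero hh]
  rfl

omit [Fact p.Prime] in
theorem svU_p {w z : U} (hw : f w w = 0) (hz : f w z = 0) : ((sv f w z : Module.End F U) ^ p) = 1 := by
  refine LinearMap.ext fun x => ?_
  rw [sv_pow O.hf hw hz, CharP.cast_eq_zero F p, zero_smul, sv_zero O.hf]
  rfl

/-- A Siegel element of the second factor has order dividing `p`. -/
theorem pure_pow {τ : OQ Q} {w z : W} (hw : g w w = 0) (hz : g w z = 0) (eτ : PW T τ (sv g w z)) : τ ^ p = 1 :=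
  O.el_ext fun a y => by
    rw [O.pair_pow (A := LinearMap.id) (B := sv g w z) eτ p, O.sv_p (p := p) O.hg hw hz]
    show T (((1 : Module.End F U) ^ p) a) y = T a y
    rw [one_pow]
    rfl

/-- The factors of an element of order `p`. -/
theorem pair_order_p {h : OQ Q} (hh : h ∈ O.H) (hp : h ^ p = 1) :
    ∃ A B, InU K T A ∧ InW K T B ∧ (A = LinearMap.id ∨ IsSV f A) ∧ (B = LinearMap.id ∨ IsSV g B) ∧
      ∀ a y, (h : V ≃ₗ[F] V) (T a y) = T (A a) (B y) := by
  obtain ⟨A, B, hA, hB, e⟩ := O.exists_pair hh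
  obtain ⟨h1, h2⟩ := O.prod_unique (O.inU_pow hA p) InU.one (O.inW_pow hB p) InW.one fun a y => by
    rw [← O.pair_pow e p a y, hp]
    rfl
  exact ⟨A, B, hA, hB, one_or_sv O.hf O.thinU (O.inU_iso hA) h1, one_or_sv O.hg O.thin (O.inW_iso hB) h2, e⟩

/-- The square of the nilpotent part of a Siegel element. -/
theorem pure_sq {τ : OQ Q} {w z : W} (hw : g w w = 0) (hz : g w z = 0) (eτ : PW T τ (sv g w z)) (v : V) :
    (τ : V ≃ₗ[F] V) ((τ : V ≃ₗ[F] V) v) - (τ : V ≃ₗ[F] V) v - ((τ : V ≃ₗ[F] V) v - v) =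
      -(g z z) • T (O.C w v) w := by
  refine LinearMap.congr_fun (O.hom_ext
    (L := ((τ : V ≃ₗ[F] V) : V →ₗ[F] V) ∘ₗ ((τ : V ≃ₗ[F] V) : V →ₗ[F] V) - ((τ : V ≃ₗ[F] V) : V →ₗ[F] V) -
      (((τ : V ≃ₗ[F] V) : V →ₗ[F] V) - LinearMap.id))
    (L' := -(g z z) • (T.flip w ∘ₗ O.C w)) fun a y => ?_) v
  simp only [LinearMap.sub_apply, LinearMap.comp_apply, LinearEquiv.coe_coe, LinearMap.id_apply, eτ a y, eτ a _,
    LinearMap.smul_apply, LinearMap.flip_apply, O.C_T, map_smul]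
  rw [← map_sub (T a), ← map_sub (T a), ← map_sub (T a), sv_sq O.hg hw hz, map_smul, neg_smul, neg_smul, smul_smul]

/-- **Conjugating a Siegel element of the second factor into the stabiliser.** -/
theorem tens_of_conj_pure {k τ : OQ Q} (hk : k ∈ K) {w z : W} (hw0 : w ≠ 0) (hw : g w w = 0) (hz : g w z = 0)
    (hzz : g z z ≠ 0) (eτ : PW T τ (sv g w z)) (hh : k⁻¹ * τ * k ∈ O.H) : Tens T k := by
  classical
  obtain ⟨p, hp, hc⟩ := O.exists_char
  have := Fact.mk hp
  have hfin := finite_OQ' Q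
  set h := k⁻¹ * τ * k with hdef
  obtain ⟨A, B, hA, -, hAc, hBc, e⟩ := O.pair_order_p (p := p) hh (by
    rw [hdef, show k⁻¹ * τ * k = k⁻¹ * τ * k⁻¹⁻¹ by rw [inv_inv], conj_pow, O.pure_pow hw hz eτ, mul_one,
      mul_inv_cancel])
  let D : V → V := fun v => (h : V ≃ₗ[F] V) ((h : V ≃ₗ[F] V) v) - (h : V ≃ₗ[F] V) v - ((h : V ≃ₗ[F] V) v - v)
  have hD : ∀ v, (k : V ≃ₗ[F] V) (D v) = -(g z z) • T (O.C w ((k : V ≃ₗ[F] V) v)) w := fun v => by
    have hkh : ∀ v, (k : V ≃ₗ[F] V) ((h : V ≃ₗ[F] V) v) = (τ : V ≃ₗ[F] V) ((k : V ≃ₗ[F] V) v) := fun v => by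
      show ((k * (k⁻¹ * τ * k) : OQ Q) : V ≃ₗ[F] V) v = ((τ * k : OQ Q) : V ≃ₗ[F] V) v
      rw [← mul_assoc, ← mul_assoc, mul_inv_cancel, one_mul]
    simp only [D, map_sub, hkh]
    exact O.pure_sq hw hz eτ _
  have hnum : ∀ (ι : Type) [Fintype ι] (v : ι → V), LinearIndependent F (fun i => D (v i)) → Fintype.card ι ≤ 3 := by
    intro ι _ v hli
    have h1 := hli.map' ((k : V ≃ₗ[F] V) : V →ₗ[F] V) (LinearEquiv.ker _)
    set R := LinearMap.range (T.flip w)
    let v' : ι → R := fun i => ⟨(k : V ≃ₗ[F] V) (D (v i)), by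
      rw [hD]
      exact R.smul_mem _ ⟨_, rfl⟩⟩
    have h2 : LinearIndependent F v' := LinearIndependent.of_comp R.subtype h1
    refine h2.fintype_card_le_finrank.trans ((LinearMap.finrank_range_le _).trans ?_)
    rw [O.dU]
  rcases hAc with hAid | ⟨d, z₀, hd0, hd, hdz, hzz₀, hA'⟩
  · rcases hBc with hBid | ⟨e', z', he0, he, hez, hzz', hB'⟩
    · exfalso
      have h1 : h = 1 := O.el_ext fun a y => by rw [e, hAid, hBid]; rfl
      have h2 : τ = 1 := by
        rw [hdef, mul_assoc, inv_mul_eq_one, eq_comm, mul_eq_right] at h1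
        exact h1
      have := O.ntU
      obtain ⟨a, ha⟩ := exists_ne (0 : U)
      obtain ⟨u, -, hwu⟩ := exists_iso_partner O.hg hw hw0
      have h3 := eτ a u
      rw [h2] at h3
      have h4 := ((sv_fix_iff O.hg hw hw0 hz hzz u).1 (O.T_injective' ha h3).symm).1
      rw [hwu] at h4
      exact one_ne_zero h4
    · obtain ⟨u', -, heu⟩ := exists_iso_partner O.hg he he0
      refine O.tens_of_line hk he he0 hw hw0
        (A := (g z z / g z' z') • (O.C w ∘ₗ ((k : V ≃ₗ[F] V) : V →ₗ[F] V) ∘ₗ T.flip u')) fun a => ?_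
      have h1 : D (T a u') = -(g z' z') • T a e' := by
        simp only [D, e, hAid, LinearMap.id_apply, hB']
        rw [← map_sub (T a), ← map_sub (T a), ← map_sub (T a), sv_sq O.hg he hez, heu, mul_one, map_smul]
      have h2 := hD (T a u')
      rw [h1, map_smul] at h2
      rw [← inv_smul_smul₀ (neg_ne_zero.2 hzz') ((k : V ≃ₗ[F] V) (T a e')), h2, smul_smul]
      simp only [LinearMap.smul_apply, LinearMap.comp_apply, LinearEquiv.coe_coe, LinearMap.flip_apply, map_smul]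
      congr 1
      field_simp
  exfalso
  obtain ⟨ed, hee, hde⟩ := exists_iso_partner O.hf hd hd0
  rcases hBc with hBid | ⟨e', z₁, he0, he, hez₁, hzz₁, hB₁⟩
  · have h1 : ∀ y, D (T ed y) = -(f z₀ z₀) • T d y := fun y => by
      simp only [D, e, hBid, LinearMap.id_apply, hA']
      rw [← LinearMap.sub_apply, ← map_sub T, ← LinearMap.sub_apply, ← map_sub T, ← LinearMap.sub_apply, ← map_sub T,
        sv_sq O.hf hd hdz, hde, mul_one, map_smul, LinearMap.smul_apply]
    have h2 := hnum (Fin (finrank F W)) (fun i => T ed (Module.finBasis F W i)) (by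
      have hli := ((Module.finBasis F W).linearIndependent.map' (T d)
        (LinearMap.ker_eq_bot.2 fun y y' => O.T_injective' hd0)).units_smul
          (fun _ => Units.mk0 _ (neg_ne_zero.2 hzz₀))
      simp only [h1]
      exact hli)
    rw [Fintype.card_fin, O.dW] at h2
    omega
  -- both factors non-trivial
  obtain ⟨u', hu', heu⟩ := exists_iso_partner O.hg he he0
  set z' := z₁ - g u' z₁ • e'
  have hez : g e' z' = 0 := by simp [z', hez₁, he]
  have huz : g u' z' = 0 := by simp [z', O.hg.symm e' u', heu]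
  have hzz' : g z' z' ≠ 0 := by simpa [z', he, O.hg.symm e' z₁, hez₁] using hzz₁
  have hB' : ∀ x, B x = sv g e' z' x := fun x => by
    rw [show z' = z₁ + (-g u' z₁) • e' by simp [z', sub_eq_add_neg], ← sv_comp O.hg he hez₁ (by simp [he]),
      sv_smul_self O.hg he, hB₁]
  obtain ⟨c, hc, hce, hcu, hcz⟩ : ∃ c, g c c ≠ 0 ∧ g e' c = 0 ∧ g u' c = 0 ∧ g z' c = 0 := by
    obtain ⟨c, hc, hP⟩ := exists_aniso_perp O.hg (Submodule.span F (({e', u', z'} : Finset W) : Set W)) (by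
        intro x hx hxP
        simp only [Finset.coe_insert, Finset.coe_singleton, Submodule.mem_span_insert,
          Submodule.mem_span_singleton] at hx
        obtain ⟨α, _, ⟨β, _, ⟨γ, rfl⟩, rfl⟩, rfl⟩ := hx
        have k1 := hxP e' (Submodule.subset_span (by simp))
        have k2 := hxP u' (Submodule.subset_span (by simp))
        have k3 := hxP z' (Submodule.subset_span (by simp))
        simp only [map_add, map_smul, smul_eq_mul, he, hu', heu, O.hg.symm e' u', hez, huz, O.hg.symm e' z',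
          O.hg.symm u' z', mul_zero, mul_one, add_zero, zero_add, mul_eq_zero, hzz', or_false] at k1 k2 k3
        simp [k1, k2, k3])
      (lt_of_le_of_lt ((finrank_span_finset_le_card _).trans Finset.card_le_three) (by rw [O.dW]; omega))
    exact ⟨c, hc, hP e' (Submodule.subset_span (by simp)), hP u' (Submodule.subset_span (by simp)),
      hP z' (Submodule.subset_span (by simp))⟩
  set x₀ := z₀ - f ed z₀ • d
  have hdx : f d x₀ = 0 := by simp [x₀, hdz, hd]
  have hex : f ed x₀ = 0 := by simp [x₀, O.hf.symm d ed, hde]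
  have hxx : f x₀ x₀ = f z₀ z₀ := by simp [x₀, hd, O.hf.symm d z₀, hdz]
  have hAx : ∀ x, A x = sv f d x₀ x := fun x => by
    rw [show x₀ = z₀ + (-f ed z₀) • d by simp [x₀, sub_eq_add_neg], ← sv_comp O.hf hd hdz (by simp [hd]),
      sv_smul_self O.hf hd, hA']
  have h2 := O.two
  have hli := hnum (Fin 4) ![T ed c, T d u', T x₀ u', T ed u'] (by
    rw [Fintype.linearIndependent_iff]
    intro co hco
    simp only [Fin.sum_univ_four, Matrix.cons_val_zero, Matrix.cons_val_one, Matrix.cons_val, D, e, hAx, hB',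
      sv_apply, hd, hdx, hde, hex, hxx, O.hf.symm d x₀, O.hf.symm d ed, O.hf.symm ed x₀, hce, hcz, he, hez, heu, huz,
      O.hg.symm e' u', O.hg.symm u' z', O.hg.symm e' z', map_add, map_sub, map_smul, LinearMap.add_apply,
      LinearMap.sub_apply, LinearMap.smul_apply, smul_eq_mul, one_smul, zero_smul, map_zero, LinearMap.zero_apply,
      mul_zero, zero_mul, mul_one, add_zero, sub_zero, smul_zero, zero_add, zero_sub] at hco
    have hC := congrArg (O.C c) hco
    have hU := congrArg (O.C u') hco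
    simp only [map_add, map_sub, map_neg, map_smul, map_zero, O.C_T, O.hg.symm e' c, O.hg.symm u' c, O.hg.symm z' c,
      hce, hcu, hcz, zero_smul, smul_zero, add_zero, sub_zero, zero_add, O.hg.symm e' u', heu, hu', huz, one_smul] at hC hU
    have k0 : co 0 = 0 := by
      have k := congrArg (f ed) hC
      simp only [map_add, map_sub, map_neg, map_smul, smul_eq_mul, map_zero, O.hf.symm d ed, hde, hee, hex,
        mul_zero, mul_one] at k
      have : co 0 * (g c c * f z₀ z₀) = 0 := by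
        field_simp at k
        first
        | linear_combination -k
        | linear_combination k
        | exact mul_left_cancel₀ h2 (by linear_combination -k)
        | exact mul_left_cancel₀ h2 (by linear_combination k)
        | exact mul_left_cancel₀ (mul_ne_zero h2 h2) (by linear_combination -k)
        | exact mul_left_cancel₀ (mul_ne_zero h2 h2) (by linear_combination k)
      exact (mul_eq_zero.1 this).resolve_right (mul_ne_zero hc hzz₀)
    have k3 : co 3 = 0 := by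
      have k := congrArg (f d) hU
      simp only [map_add, map_sub, map_neg, map_smul, smul_eq_mul, map_zero, hd, hde, hdx, mul_zero, mul_one,
        k0, zero_mul] at k
      have : co 3 * g z' z' = 0 := by
        field_simp at k
        first
        | linear_combination -k
        | linear_combination k
        | exact mul_left_cancel₀ h2 (by linear_combination -k)
        | exact mul_left_cancel₀ h2 (by linear_combination k)
        | exact mul_left_cancel₀ (mul_ne_zero h2 h2) (by linear_combination -k)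
        | exact mul_left_cancel₀ (mul_ne_zero h2 h2) (by linear_combination k)
      exact (mul_eq_zero.1 this).resolve_right hzz'
    have k2 : co 2 = 0 := by
      have k := congrArg (f x₀) hU
      simp only [map_add, map_sub, map_neg, map_smul, smul_eq_mul, map_zero, O.hf.symm d x₀, hdx, hxx,
        O.hf.symm ed x₀, hex, mul_zero, mul_one, k0, k3, zero_mul] at k
      have : co 2 * (g z' z' * f z₀ z₀) = 0 := by
        field_simp at k
        first
        | linear_combination -k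
        | linear_combination k
        | exact mul_left_cancel₀ h2 (by linear_combination -k)
        | exact mul_left_cancel₀ h2 (by linear_combination k)
        | exact mul_left_cancel₀ (mul_ne_zero h2 h2) (by linear_combination -k)
        | exact mul_left_cancel₀ (mul_ne_zero h2 h2) (by linear_combination k)
      exact (mul_eq_zero.1 this).resolve_right (mul_ne_zero hzz' hzz₀)
    have k1 : co 1 = 0 := by
      have k := congrArg (f ed) hU
      simp only [map_add, map_sub, map_neg, map_smul, smul_eq_mul, map_zero, O.hf.symm d ed, hde, hee, hex,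
        mul_zero, mul_one, k0, k2, k3, zero_mul] at k
      have : co 1 * g z' z' = 0 := by
        field_simp at k
        first
        | linear_combination -k
        | linear_combination k
        | exact mul_left_cancel₀ h2 (by linear_combination -k)
        | exact mul_left_cancel₀ h2 (by linear_combination k)
        | exact mul_left_cancel₀ (mul_ne_zero h2 h2) (by linear_combination -k)
        | exact mul_left_cancel₀ (mul_ne_zero h2 h2) (by linear_combination k)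
      exact (mul_eq_zero.1 this).resolve_right hzz'
    intro i
    fin_cases i <;> assumption)
  simp at hli

/-- A hyperbolic pair and an orthogonal pair of anisotropic vectors. -/
theorem exists_frameW {w : W} (hw : g w w = 0) (hw0 : w ≠ 0) :
    ∃ u c c', g u u = 0 ∧ g w u = 1 ∧ g c c ≠ 0 ∧ g c' c' ≠ 0 ∧ g w c = 0 ∧ g u c = 0 ∧ g w c' = 0 ∧ g u c' = 0 ∧
      g c c' = 0 := by
  classical
  obtain ⟨u, huu, hwu, c, hc, hwc, huc⟩ := O.exists_aniso_orth hw hw0
  obtain ⟨c', hc', hP⟩ := exists_aniso_perp O.hg (Submodule.span F (({w, u, c} : Finset W) : Set W)) (by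
      intro x hx hxP
      simp only [Finset.coe_insert, Finset.coe_singleton, Submodule.mem_span_insert,
        Submodule.mem_span_singleton] at hx
      obtain ⟨α, _, ⟨β, _, ⟨γ, rfl⟩, rfl⟩, rfl⟩ := hx
      have k1 := hxP w (Submodule.subset_span (by simp))
      have k2 := hxP u (Submodule.subset_span (by simp))
      have k3 := hxP c (Submodule.subset_span (by simp))
      simp only [map_add, map_smul, smul_eq_mul, hw, huu, hwu, O.hg.symm w u, hwc, huc, O.hg.symm w c,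
        O.hg.symm u c, mul_zero, mul_one, add_zero, zero_add, mul_eq_zero, hc, or_false] at k1 k2 k3
      simp [k1, k2, k3])
    (lt_of_le_of_lt ((finrank_span_finset_le_card _).trans Finset.card_le_three) (by rw [O.dW]; omega))
  exact ⟨u, c, c', huu, hwu, hc, hc', hwc, huc, hP w (Submodule.subset_span (by simp)),
    hP u (Submodule.subset_span (by simp)), hP c (Submodule.subset_span (by simp))⟩

/-- **The centraliser of a Siegel element of the first factor.** -/
theorem comm_pureU {y σ : OQ Q} (hy : y ∈ K) {w z : U} (hw0 : w ≠ 0) (hw : f w w = 0) (hz : f w z = 0)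
    (hzz : f z z ≠ 0) (eσ : PU T σ (sv f w z)) (hc : Commute y σ) : Tens T y := by
  obtain ⟨u, -, hwu⟩ := exists_iso_partner O.hf hw hw0
  let D : V → V := fun v => (σ : V ≃ₗ[F] V) ((σ : V ≃ₗ[F] V) v) - (σ : V ≃ₗ[F] V) v - ((σ : V ≃ₗ[F] V) v - v)
  have hD : ∀ v, D v = -(f z z) • T w (O.toTensor.flip.C w v) := fun v => by
    refine LinearMap.congr_fun (O.hom_ext
      (L := ((σ : V ≃ₗ[F] V) : V →ₗ[F] V) ∘ₗ ((σ : V ≃ₗ[F] V) : V →ₗ[F] V) - ((σ : V ≃ₗ[F] V) : V →ₗ[F] V) -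
        (((σ : V ≃ₗ[F] V) : V →ₗ[F] V) - LinearMap.id))
      (L' := -(f z z) • (T w ∘ₗ O.toTensor.flip.C w)) fun a r => ?_) v
    have h1 := O.toTensor.flip.C_T w r a
    rw [LinearMap.flip_apply] at h1
    simp only [LinearMap.sub_apply, LinearMap.comp_apply, LinearEquiv.coe_coe, LinearMap.id_apply, eσ a r, eσ _ r,
      LinearMap.smul_apply, h1, map_smul]
    rw [← LinearMap.sub_apply, ← map_sub T, ← LinearMap.sub_apply, ← map_sub T, ← LinearMap.sub_apply, ← map_sub T,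
      sv_sq O.hf hw hz, map_smul, LinearMap.smul_apply, neg_smul, neg_smul, smul_smul]
  have hcomm : ∀ v, (y : V ≃ₗ[F] V) ((σ : V ≃ₗ[F] V) v) = (σ : V ≃ₗ[F] V) ((y : V ≃ₗ[F] V) v) := fun v => by
    show ((y * σ : OQ Q) : V ≃ₗ[F] V) v = ((σ * y : OQ Q) : V ≃ₗ[F] V) v
    rw [hc.eq]
  refine O.tens_of_lineU hy hw hw0 hw hw0
    (B := O.toTensor.flip.C w ∘ₗ ((y : V ≃ₗ[F] V) : V →ₗ[F] V) ∘ₗ T u) fun r => ?_
  have h1 : (y : V ≃ₗ[F] V) (D (T u r)) = D ((y : V ≃ₗ[F] V) (T u r)) := by simp only [D, map_sub, hcomm]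
  have h2 := O.toTensor.flip.C_T w r u
  rw [LinearMap.flip_apply, hwu, one_smul] at h2
  rw [hD, hD, h2, map_smul] at h1
  exact smul_right_injective V (neg_ne_zero.2 hzz) h1

/-- The group of pure Siegel elements at a singular vector. -/
theorem exists_siegel_group {p : ℕ} [Fact p.Prime] [CharP F p] {e : W} (he : g e e = 0) (he0 : e ≠ 0) :
    ∃ A : Subgroup (OQ Q), IsMulCommutative A ∧ (∀ a ∈ A, a ^ p = 1) ∧ p ^ 2 ≤ Nat.card A ∧
      ∀ a ∈ A, a ∈ K ∧ ∃ x₀, g e x₀ = 0 ∧ PW T a (sv g e x₀) := by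
  have hfin := finite_OQ' Q
  let A : Subgroup (OQ Q) :=
    { carrier := {k | k ∈ K ∧ ∃ x₀, g e x₀ = 0 ∧ PW T k (sv g e x₀)}
      one_mem' := ⟨K.one_mem, 0, map_zero _, fun a r => by rw [sv_zero O.hg]; rfl⟩
      mul_mem' := by
        rintro k k' ⟨hk, x₀, h, ek⟩ ⟨hk', x₁, h', ek'⟩
        exact ⟨K.mul_mem hk hk', x₀ + x₁, by simp [h, h'], fun a r => by
          show (k : V ≃ₗ[F] V) ((k' : V ≃ₗ[F] V) (T a r)) = _
          rw [ek', ek, sv_comp O.hg he h h']⟩
      inv_mem' := by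
        rintro k ⟨hk, x₀, h, ek⟩
        refine ⟨K.inv_mem hk, -x₀, by simp [h], fun a r => ?_⟩
        show (k : V ≃ₗ[F] V).symm (T a r) = _
        rw [LinearEquiv.symm_apply_eq, ek, sv_inv O.hg he h] }
  have hAc : IsMulCommutative A := ⟨⟨fun ⟨a, _, x₀, h, ea⟩ ⟨b, _, x₁, h', eb⟩ => Subtype.ext (O.el_ext fun v r => by
    show (a : V ≃ₗ[F] V) ((b : V ≃ₗ[F] V) (T v r)) = (b : V ≃ₗ[F] V) ((a : V ≃ₗ[F] V) (T v r))
    rw [eb, ea, ea, eb, sv_comp O.hg he h h', sv_comp O.hg he h' h, add_comm x₀])⟩⟩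
  have hAexp : ∀ a ∈ A, a ^ p = 1 := fun a ⟨_, x₀, h, ea⟩ => O.pure_pow he h ea
  obtain ⟨u, c, c', huu, heu, hcc, hcc', hec, huc, hec', huc', hcc0⟩ := O.exists_frameW he he0
  have hsv : ∀ x₀ : W, g e x₀ = 0 → InW K T (sv g e x₀) := fun x₀ h => by
    by_cases hq : g x₀ x₀ = 0
    · obtain ⟨t, rfl⟩ := Submodule.mem_span_singleton.1 (O.thin e x₀ he he0 h hq)
      convert (InW.one : InW K T (LinearMap.id : W →ₗ[F] W)) using 1
      exact LinearMap.ext fun r => sv_smul_self O.hg he t r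
    · exact O.inW_siegel he h hq
  have hAcard : p ^ 2 ≤ Nat.card A := by
    choose el hel eel using fun t : F × F => hsv (t.1 • c + t.2 • c') (by simp [hec, hec'])
    have hinj : Function.Injective fun t : F × F =>
        (⟨el t, hel t, _, by simp [hec, hec'], eel t⟩ : A) := by
      intro t t' h
      have h1 : el t = el t' := congrArg Subtype.val h
      have := O.ntU
      obtain ⟨a, ha⟩ := exists_ne (0 : U)
      have h2 : sv g e (t.1 • c + t.2 • c') u = sv g e (t'.1 • c + t'.2 • c') u :=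
        O.T_injective' ha (by rw [← eel, ← eel, h1])
      have hpair : ∀ b : W, g e b = 0 → g u b = 0 → ∀ r, g e r = 0 → g b (sv g e r u) = g b r := fun b h3 h4 r hr => by
        simp [sv_apply, heu, O.hg.symm e b, h3, O.hg.symm u b, h4]
      have k1 := congrArg (g c) h2
      have k2 := congrArg (g c') h2
      rw [hpair c hec huc _ (by simp [hec, hec']), hpair c hec huc _ (by simp [hec, hec'])] at k1
      rw [hpair c' hec' huc' _ (by simp [hec, hec']), hpair c' hec' huc' _ (by simp [hec, hec'])] at k2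
      simp [hcc0, O.hg.symm c c', hcc, hcc'] at k1 k2
      exact Prod.ext k1 k2
    refine le_trans ?_ (Nat.card_le_card_of_injective _ hinj)
    rw [Nat.card_prod, pow_two]
    have hle : p ≤ Nat.card F := by
      have := Fintype.ofFinite F
      rw [Nat.card_eq_fintype_card]
      exact Nat.le_of_dvd Fintype.card_pos ((CharP.cast_eq_zero_iff F p _).1 (FiniteField.cast_card_eq_zero F))
    exact Nat.mul_le_mul hle hle
  exact ⟨A, hAc, hAexp, hAcard, fun a ha => ha⟩

/-- **The centraliser of a product of two Siegel elements.** -/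
theorem comm_mixed {y s : OQ Q} (hy : y ∈ K) {d z : U} (hd0 : d ≠ 0) (hd : f d d = 0) (hdz : f d z = 0)
    (hzz : f z z ≠ 0) {e x : W} (he0 : e ≠ 0) (he : g e e = 0) (hex : g e x = 0) (hxx : g x x ≠ 0)
    (es : ∀ a r, (s : V ≃ₗ[F] V) (T a r) = T (sv f d z a) (sv g e x r)) (hc : Commute y s) : Tens T y := by
  classical
  obtain ⟨p, hp, hchar⟩ := O.exists_char
  have := Fact.mk hp
  have hfin := finite_OQ' Q
  set G : Subgroup (OQ Q) := K ⊓ Subgroup.centralizer {s}
  have hmemG : ∀ k : OQ Q, k ∈ G ↔ k ∈ K ∧ Commute k s := fun k => by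
    simp only [G, Subgroup.mem_inf, Subgroup.mem_centralizer_iff, Set.mem_singleton_iff, forall_eq]
    exact and_congr_right fun _ => eq_comm
  -- the products in the centraliser
  have hP : ∀ k ∈ O.H, Commute k s → ∃ z₀ x₀, f d z₀ = 0 ∧ g e x₀ = 0 ∧
      ∀ a r, (k : V ≃ₗ[F] V) (T a r) = T (sv f d z₀ a) (sv g e x₀ r) := by
    intro k hk hks
    obtain ⟨A, B, hA, hB, ek⟩ := O.exists_pair hk
    have hσ := O.inU_siegel hd hdz hzz
    have hτ := O.inW_siegel he hex hxx
    obtain ⟨h1, h2⟩ := O.prod_unique (hA.mul hσ) (hσ.mul hA) (hB.mul hτ) (hτ.mul hB) fun a r => by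
      have h := LinearEquiv.congr_fun (congrArg Subtype.val hks.eq) (T a r)
      change (k : V ≃ₗ[F] V) ((s : V ≃ₗ[F] V) (T a r)) = (s : V ≃ₗ[F] V) ((k : V ≃ₗ[F] V) (T a r)) at h
      rw [es, ek, ek, es] at h
      exact h
    obtain ⟨z₀, hz₀, eA⟩ := O.inU_commute hA hd hd0 hdz hzz (fun a => LinearMap.congr_fun h1 a)
    obtain ⟨x₀, hx₀, eB⟩ := O.inW_commute hB he he0 hex hxx (fun a => LinearMap.congr_fun h2 a)
    exact ⟨z₀, x₀, hz₀, hx₀, fun a r => by rw [ek, eA, eB]⟩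
  set P : Subgroup G := O.H.subgroupOf G
  have hPmem : ∀ k : G, k ∈ P ↔ (k : OQ Q) ∈ O.H := fun k => Subgroup.mem_subgroupOf
  have hPcomm : ∀ a ∈ P, ∀ b ∈ P, Commute a b := by
    intro a ha b hb
    obtain ⟨z₀, x₀, h1, h2, ea⟩ := hP a ha ((hmemG _).1 a.2).2
    obtain ⟨z₁, x₁, h3, h4, eb⟩ := hP b hb ((hmemG _).1 b.2).2
    refine Subtype.ext (O.el_ext fun v r => ?_)
    show ((a : OQ Q) : V ≃ₗ[F] V) (((b : OQ Q) : V ≃ₗ[F] V) (T v r)) =
      ((b : OQ Q) : V ≃ₗ[F] V) (((a : OQ Q) : V ≃ₗ[F] V) (T v r))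
    rw [eb, ea, ea, eb, sv_comp O.hf hd h1 h3, sv_comp O.hg he h2 h4, sv_comp O.hf hd h3 h1, sv_comp O.hg he h4 h2,
      add_comm z₀, add_comm x₀]
  have hPp : IsPGroup p P := fun a => ⟨1, by
    obtain ⟨z₀, x₀, h1, h2, ea⟩ := hP (a : G) a.2 ((hmemG _).1 (a : G).2).2
    refine Subtype.ext (Subtype.ext (O.el_ext fun v r => ?_))
    rw [pow_one, SubmonoidClass.coe_pow, SubmonoidClass.coe_pow,
      O.pair_pow (A := sv f d z₀) (B := sv g e x₀) ea p v r, O.svU_p (p := p) hd h1, O.sv_p (p := p) O.hg he h2]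
    rfl⟩
  obtain ⟨τ, hτK, eτ⟩ := O.inW_siegel he hex hxx
  have hτH : τ ∈ O.H := ⟨hτK, LinearMap.id, sv g e x, eτ⟩
  have hτG : τ ∈ G := (hmemG _).2 ⟨hτK, O.el_ext fun a r => by
    show (τ : V ≃ₗ[F] V) ((s : V ≃ₗ[F] V) (T a r)) = (s : V ≃ₗ[F] V) ((τ : V ≃ₗ[F] V) (T a r))
    rw [es, eτ, eτ, es]⟩
  have hN : Subgroup.normalizer (P : Set G) ≤ P := by
    intro k hk
    have h1 := (Subgroup.mem_normalizer_iff.1 hk ⟨τ, hτG⟩).1 hτH
    have h2 := O.tens_of_conj_pure (k := (k : OQ Q)⁻¹) (K.inv_mem ((hmemG _).1 k.2).1) he0 he hex hxx eτ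
      (by rw [inv_inv]; exact h1)
    exact (hPmem k).2 ⟨((hmemG _).1 k.2).1, inv_inv (k : OQ Q) ▸ h2.inv⟩
  obtain ⟨S, hPS⟩ := hPp.exists_le_sylow
  have hSP : (S : Subgroup G) = P := by
    refine le_antisymm (fun k hk => ?_) hPS
    by_contra hkP
    have : Group.IsNilpotent S := S.2.isNilpotent
    have hlt : P.subgroupOf (S : Subgroup G) < ⊤ := lt_of_le_of_ne le_top fun h =>
      hkP (Subgroup.mem_subgroupOf.1 (h ▸ Subgroup.mem_top (⟨k, hk⟩ : (S : Subgroup G))))
    obtain ⟨n, hn, hn'⟩ := SetLike.exists_of_lt (normalizerCondition_of_isNilpotent (G := S) _ hlt)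
    refine hn' (Subgroup.mem_subgroupOf.2 (hN (Subgroup.mem_normalizer_iff.2 fun v => ?_)))
    constructor
    · intro hv
      have := (Subgroup.mem_normalizer_iff.1 hn ⟨v, hPS hv⟩).1 (Subgroup.mem_subgroupOf.2 hv)
      exact Subgroup.mem_subgroupOf.1 this
    · intro hv
      have hvS : v ∈ (S : Subgroup G) := by
        have h := mul_mem (mul_mem ((S : Subgroup G).inv_mem n.2) (hPS hv)) n.2
        simpa [mul_assoc] using h
      exact Subgroup.mem_subgroupOf.1 ((Subgroup.mem_normalizer_iff.1 hn ⟨v, hvS⟩).2 (Subgroup.mem_subgroupOf.2 hv))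
  have hNC : Subgroup.normalizer ((S : Subgroup G) : Set G) ≤ Subgroup.centralizer ((S : Subgroup G) : Set G) := by
    rw [hSP]
    exact fun k hk => Subgroup.mem_centralizer_iff.2 fun v hv => hPcomm v hv k (hN hk)
  obtain ⟨N₀, hnormal, hcompl, hker⟩ : ∃ N₀ : Subgroup G, N₀.Normal ∧
      Subgroup.IsComplement' N₀ (S : Subgroup G) ∧ ¬ p ∣ Nat.card N₀ :=
    ⟨_, MonoidHom.normal_ker (MonoidHom.transferSylow S hNC), MonoidHom.ker_transferSylow_isComplement' S hNC,
      MonoidHom.not_dvd_card_ker_transferSylow S hNC⟩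
  obtain ⟨A, hAc, hAexp, hAcard, hAmem⟩ := O.exists_siegel_group (p := p) he he0
  have hAG : A ≤ G := fun a ha => by
    obtain ⟨haK, x₀, h, ea⟩ := hAmem a ha
    exact (hmemG _).2 ⟨haK, O.el_ext fun v r => by
      show (a : V ≃ₗ[F] V) ((s : V ≃ₗ[F] V) (T v r)) = (s : V ≃ₗ[F] V) ((a : V ≃ₗ[F] V) (T v r))
      rw [es, ea, ea, es, sv_comp O.hg he h hex, sv_comp O.hg he hex h, add_comm x₀]⟩
  set N : Subgroup (OQ Q) := N₀.map G.subtype
  have hAN : A ≤ Subgroup.normalizer (N : Set (OQ Q)) := by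
    intro a ha
    refine Subgroup.mem_normalizer_iff.2 fun v => ⟨?_, ?_⟩
    · rintro ⟨v, hv, rfl⟩
      exact ⟨⟨a, hAG ha⟩ * v * ⟨a, hAG ha⟩⁻¹, hnormal.conj_mem v hv _, rfl⟩
    · rintro ⟨v', hv', e'⟩
      refine ⟨⟨a, hAG ha⟩⁻¹ * v' * ⟨a, hAG ha⟩, ?_, ?_⟩
      · simpa using hnormal.conj_mem v' hv' ⟨a, hAG ha⟩⁻¹
      · show a⁻¹ * (v' : OQ Q) * a = v
        rw [show ((v' : G) : OQ Q) = a * v * a⁻¹ from e']
        group
  have hNH : N ≤ O.H := by
    refine CfsgLib.LocalEven.le_of_centralizers_le (p := p) hAexp hAcard hAN ?_ fun a ha ha1 => ?_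
    · rwa [Nat.card_congr (Subgroup.equivMapOfInjective N₀ G.subtype G.subtype_injective).symm.toEquiv]
    · obtain ⟨haK, x₀, h, ea⟩ := hAmem a ha
      rintro k ⟨⟨v, -, rfl⟩, hkc⟩
      have hx₀ : g x₀ x₀ ≠ 0 := fun hq => ha1 (O.el_ext fun v r => by
        obtain ⟨t, rfl⟩ := Submodule.mem_span_singleton.1 (O.thin e x₀ he he0 h hq)
        rw [ea, sv_smul_self O.hg he]
        rfl)
      refine ⟨((hmemG _).1 v.2).1, O.tens_of_conj_pure ((hmemG _).1 v.2).1 he0 he h hx₀ ea ?_⟩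
      have hk := Subgroup.mem_centralizer_iff.1 hkc a (Set.mem_singleton a)
      rw [mul_assoc, hk, inv_mul_cancel_left]
      exact ⟨haK, LinearMap.id, _, ea⟩
  have hyG : y ∈ G := (hmemG _).2 ⟨hy, hc⟩
  obtain ⟨⟨n, v⟩, hnv⟩ := hcompl.2 ⟨y, hyG⟩
  have h1 : ((n : G) : OQ Q) ∈ O.H := hNH ⟨n, n.2, rfl⟩
  have h2 : ((v : G) : OQ Q) ∈ O.H := (hPmem _).1 (hSP ▸ v.2)
  have h3 : ((n : G) : OQ Q) * ((v : G) : OQ Q) = y := congrArg Subtype.val hnv
  rw [← h3]
  exact (O.H.mul_mem h1 h2).2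

/-- **Elements of order `p` are not fused to the outside.** -/
theorem tens_of_order_p {p : ℕ} [Fact p.Prime] [CharP F p] {k h : OQ Q} (hk : k ∈ K) (hh : h ∈ O.H)
    (hp : h ^ p = 1) (h1 : h ≠ 1) (hh' : k⁻¹ * h * k ∈ O.H) : Tens T k := by
  have hp' : (k⁻¹ * h * k) ^ p = 1 := by
    rw [show k⁻¹ * h * k = k⁻¹ * h * k⁻¹⁻¹ by rw [inv_inv], conj_pow, hp, mul_one, mul_inv_cancel]
  -- a Siegel element of the second factor commuting with `h`
  obtain ⟨τ, hτ, e, x, he0, he, hex, hxx, eτ, hcτ⟩ : ∃ τ ∈ O.H, ∃ e x, e ≠ 0 ∧ g e e = 0 ∧ g e x = 0 ∧ g x x ≠ 0 ∧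
      PW T τ (sv g e x) ∧ Commute τ h := by
    obtain ⟨A, B, -, -, -, hBc, eh⟩ := O.pair_order_p hh hp
    obtain ⟨e, x, he0, he, hex, hxx, hB⟩ : ∃ e x, e ≠ 0 ∧ g e e = 0 ∧ g e x = 0 ∧ g x x ≠ 0 ∧
        ∀ r, B (sv g e x r) = sv g e x (B r) := by
      rcases hBc with hB | ⟨e, x, he0, he, hex, hxx, hB⟩
      · obtain ⟨w, -, hw0, hw⟩ := O.hg.exists_isotropic (P := (⊤ : Submodule F W))
          (by rw [finrank_top, O.dW]; omega)
        obtain ⟨u, -, -, c, hc, hwc, -⟩ := O.exists_aniso_orth hw hw0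
        exact ⟨w, c, hw0, hw, hwc, hc, fun r => by rw [hB]; rfl⟩
      · exact ⟨e, x, he0, he, hex, hxx, fun r => by rw [hB, hB]⟩
    obtain ⟨τ, hτK, eτ⟩ := O.inW_siegel he hex hxx
    refine ⟨τ, ⟨hτK, LinearMap.id, _, eτ⟩, e, x, he0, he, hex, hxx, eτ, O.el_ext fun a r => ?_⟩
    show (τ : V ≃ₗ[F] V) ((h : V ≃ₗ[F] V) (T a r)) = (h : V ≃ₗ[F] V) ((τ : V ≃ₗ[F] V) (T a r))
    rw [eh, eτ, eτ, eh, hB]
  refine O.tens_of_conj_pure hk he0 he hex hxx eτ ⟨K.mul_mem (K.mul_mem (K.inv_mem hk) hτ.1) hk, ?_⟩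
  have hc : Commute (k⁻¹ * τ * k) (k⁻¹ * h * k) := by
    have := Commute.map hcτ (MulAut.conj k⁻¹).toMonoidHom
    simpa [mul_assoc] using this
  have hyK : k⁻¹ * τ * k ∈ K := K.mul_mem (K.mul_mem (K.inv_mem hk) hτ.1) hk
  obtain ⟨A, B, -, -, hAc, hBc, eh⟩ := O.pair_order_p hh' hp'
  rcases hAc with hA | ⟨d, z, hd0, hd, hdz, hzz, hA⟩ <;>
    rcases hBc with hB | ⟨e', x', he0', he', hex', hxx', hB⟩
  · refine absurd ?_ h1
    have h2 : k⁻¹ * h * k = 1 := O.el_ext fun a r => by rw [eh, hA, hB]; rfl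
    rwa [mul_assoc, inv_mul_eq_one, eq_comm, mul_eq_right] at h2
  · refine O.tens_of_conj_pure hyK he0' he' hex' hxx' (τ := k⁻¹ * h * k)
      (fun a r => by rw [eh, hA, hB]; rfl) ?_
    rw [mul_assoc (k⁻¹ * τ * k)⁻¹, ← hc.eq, inv_mul_cancel_left]
    exact hh'
  · exact O.comm_pureU hyK hd0 hd hdz hzz (σ := k⁻¹ * h * k) (fun a r => by rw [eh, hA, hB]; rfl) hc
  · exact O.comm_mixed hyK hd0 hd hdz hzz he0' he' hex' hxx' (fun a r => by rw [eh, hA, hB]) hc

end Four

end CfsgLib.Geo.OrthTensorFour
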