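/-
`O₃ ⊗ O₄⁻`: semisimple elements of the first factor and their centralisers.
-/
import Cfsg.Agent.Lib.Geo.OrthTensorFour.Group
import Cfsg.Agent.Lib.Geo.OrthTensor.Invol

set_option autoImplicit false
set_option linter.unusedSectionVars false

namespace CfsgLib.Geo.OrthTensorFour

open CfsgLib.Classical CfsgLib.Classical.Quad Module
open CfsgLib.Geo.MixTensor (SymForm)
open CfsgLib.Geo.OrthTensor (sv sv_apply exists_iso_partner exists_aniso_perp Tensor Tens eigW mem_eigW eigW_sum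
  sv_isometry)
open QuadraticMap (polar polarBilin)
open LinearMap (BilinForm)

variable {F : Type*} [Field F] [Finite F] {U W V : Type*} [AddCommGroup U] [Module F U] [FiniteDimensional F U]
  [AddCommGroup W] [Module F W] [FiniteDimensional F W] [AddCommGroup V] [Module F V] [FiniteDimensional F V]
  {Q : QuadraticForm F V} {f : BilinForm F U} {g : BilinForm F W} {T : U →ₗ[F] W →ₗ[F] V}
  {K : Subgroup (OQ Q)}

local notation "reflU" => MixTensor.refl f
local notation "reflW" => MixTensor.refl g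

/-- An element whose order is prime to the characteristic. -/
def PF (p : ℕ) (k : OQ Q) : Prop := ∃ n, ¬ p ∣ n ∧ k ^ n = 1

/-- A Siegel map of order prime to the characteristic is trivial. -/
theorem sv_torsion {h : BilinForm F U} (hh : SymForm h) {w z : U} (hw : h w w = 0) (hw0 : w ≠ 0) (hz : h w z = 0)
    {n : ℕ} (hn : (n : F) ≠ 0) (hpow : ((sv h w z : Module.End F U) ^ n) = 1) (x : U) : sv h w z x = x := by
  obtain ⟨u, -, hwu⟩ := exists_iso_partner hh hw hw0
  have h1 := LinearMap.congr_fun hpow u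
  rw [sv_pow hh hw hz, Module.End.one_apply, sv_apply, hwu, one_smul] at h1
  have h2 : (n : F) • z = (h ((n : F) • z) u + h ((n : F) • z) ((n : F) • z) / 2 * 1) • w := by
    rw [add_smul]
    linear_combination (norm := module) h1
  obtain ⟨c, hc⟩ : ∃ c : F, z = c • w :=
    ⟨(n : F)⁻¹ * (h ((n : F) • z) u + h ((n : F) • z) ((n : F) • z) / 2 * 1), by
      rw [mul_smul, ← h2, inv_smul_smul₀ hn]⟩
  rw [hc, sv_smul_self hh hw]

/-- A vector orthogonal to three orthogonal anisotropic vectors of a three-dimensional space. -/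
theorem three_zero {h : BilinForm F U} (hh : SymForm h) (h3 : finrank F U = 3) {a b c r : U} (ha : h a a ≠ 0)
    (hb : h b b ≠ 0) (hc : h c c ≠ 0) (hab : h a b = 0) (hac : h a c = 0) (hbc : h b c = 0) (k1 : h a r = 0)
    (k2 : h b r = 0) (k3 : h c r = 0) : r = 0 := by
  have hli : LinearIndependent F ![a, b, c] := by
    rw [Fintype.linearIndependent_iff]
    intro s hs
    simp only [Fin.sum_univ_three, Matrix.cons_val_zero, Matrix.cons_val_one, Matrix.cons_val] at hs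
    have l1 := congrArg (h a) hs
    have l2 := congrArg (h b) hs
    have l3 := congrArg (h c) hs
    simp only [map_add, map_smul, smul_eq_mul, map_zero, hab, hac, hbc, hh.symm a b, hh.symm a c, hh.symm b c,
      mul_zero, add_zero, zero_add, mul_eq_zero, ha, hb, hc, or_false] at l1 l2 l3
    intro i
    fin_cases i <;> assumption
  refine hh.nd.2 r fun v => ?_
  have hv : v ∈ Submodule.span F (Set.range ![a, b, c]) := by
    rw [hli.span_eq_top_of_card_eq_finrank (by rw [Fintype.card_fin, h3])]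
    trivial
  obtain ⟨s, rfl⟩ := (Submodule.mem_span_range_iff_exists_fun F).1 hv
  simp [Fin.sum_univ_three, k1, k2, k3]

/-- A fixed point of a `p`-group acting on a group of order divisible by `p`. -/
theorem exists_fixed_of_dvd {G : Type*} [Group G] [Finite G] {p : ℕ} [Fact p.Prime] {A N : Subgroup G}
    (hA : IsPGroup p A) (hAN : A ≤ Subgroup.normalizer (N : Set G)) (hd : p ∣ Nat.card N) :
    ∃ x ∈ N, orderOf x = p ∧ ∀ a ∈ A, Commute a x := by
  letI act : MulAction A N :=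
    { smul := fun a n => ⟨(a : G) * n * (a : G)⁻¹, (Subgroup.mem_normalizer_iff.1 (hAN a.2) n).1 n.2⟩
      one_smul := fun n => Subtype.ext (by show (1 : G) * n * (1 : G)⁻¹ = n; simp)
      mul_smul := fun a b n => Subtype.ext (by
        show ((a : G) * b) * n * ((a : G) * b)⁻¹ = a * (b * n * (b : G)⁻¹) * (a : G)⁻¹
        group) }
  let Z : Subgroup G := N ⊓ Subgroup.centralizer (A : Set G)
  have hZ : Nat.card (MulAction.fixedPoints A N) = Nat.card Z := by
    refine Nat.card_congr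
      { toFun := fun x => ⟨(x.1 : G), x.1.2, fun a ha => ?_⟩
        invFun := fun z => ⟨⟨(z : G), z.2.1⟩, fun a => Subtype.ext (show (a : G) * z * (a : G)⁻¹ = z from
          mul_inv_eq_of_eq_mul (z.2.2 a a.2))⟩
        left_inv := fun x => rfl
        right_inv := fun z => rfl }
    have h : a * (x.1 : G) * a⁻¹ = x.1 := congrArg Subtype.val (x.2 ⟨a, ha⟩)
    exact mul_inv_eq_iff_eq_mul.1 h
  have hdZ : p ∣ Nat.card Z := by
    rw [← hZ]
    exact Nat.modEq_zero_iff_dvd.1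
      ((hA.card_modEq_card_fixedPoints N).symm.trans (Nat.modEq_zero_iff_dvd.2 hd))
  obtain ⟨z, hz⟩ := exists_prime_orderOf_dvd_card' p hdZ
  exact ⟨z, z.2.1, by rw [Subgroup.orderOf_coe, hz], fun a ha => z.2.2 a ha⟩

namespace Four

variable (O : Four Q f g T K) {p : ℕ} [Fact p.Prime] [CharP F p]
include O

theorem cast_ne {n : ℕ} (hn : ¬ p ∣ n) : (n : F) ≠ 0 := fun h => hn ((CharP.cast_eq_zero_iff F p n).1 h)

theorem two_pfree : ¬ p ∣ 2 := fun h => O.two (by
  have := (CharP.cast_eq_zero_iff F p 2).2 h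
  exact_mod_cast this)

theorem PU_pow {k : OQ Q} {A : U →ₗ[F] U} (e : PU T k A) (n : ℕ) : PU T (k ^ n) ((A : Module.End F U) ^ n) :=
  fun a y => by rw [O.pair_pow (A := A) (B := LinearMap.id) e n]; simp [← Module.End.one_eq_id]

/-- A semisimple map of the first factor fixing a singular vector is trivial. -/
theorem pfree_fix {k : OQ Q} (hk : k ∈ K) {A : U →ₗ[F] U} (e : PU T k A) (hp : PF p k) {w : U} (hw : f w w = 0)
    (hw0 : w ≠ 0) (hAw : A w = w) : A = LinearMap.id := by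
  obtain ⟨z, hz, hA⟩ := O.inU_fix ⟨k, hk, e⟩ hw hw0 hAw
  obtain ⟨n, hn, hkn⟩ := hp
  have h1 : ((A : Module.End F U) ^ n) = 1 := O.PU_unique (O.PU_pow e n) (hkn ▸ fun _ _ => rfl)
  have hA' : A = sv f w z := LinearMap.ext hA
  rw [hA'] at h1 ⊢
  exact LinearMap.ext (sv_torsion O.hf hw hw0 hz (O.cast_ne hn) h1)

omit [Fact p.Prime] [CharP F p] in
/-- A map of the first factor in the group has a fixed vector. -/
theorem exists_fixed {A : U →ₗ[F] U} (h : InU K T A) : ∃ c : U, c ≠ 0 ∧ A c = c := by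
  classical
  let b := Module.finBasis F U
  set M := LinearMap.toMatrix b b A
  set G := LinearMap.BilinForm.toMatrix b f
  have h1 : M.transpose * G * M = G := by
    rw [← LinearMap.BilinForm.toMatrix_comp b b f A A]
    congr 1
    exact LinearMap.ext fun x => LinearMap.ext fun y => O.inU_iso h x y
  have hM : M.det = 1 := by rw [LinearMap.det_toMatrix, O.det_inU h]
  have h2 : (M - 1).transpose * G * M = -(G * (M - 1)) := by
    rw [Matrix.transpose_sub, Matrix.transpose_one, sub_mul, sub_mul, h1, one_mul, mul_sub, mul_one, neg_sub]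
  have h3 := congrArg Matrix.det h2
  rw [Matrix.det_mul, Matrix.det_mul, Matrix.det_transpose, hM, mul_one, Matrix.det_neg, Matrix.det_mul,
    Fintype.card_fin, (show (-1 : F) ^ finrank F U = -1 by rw [O.dU]; ring)] at h3
  have hG : G.det ≠ 0 := (LinearMap.BilinForm.nondegenerate_iff_det_ne_zero b).1 O.hf.nd
  have h4 : (M - 1).det = 0 := by
    have : ((2 : F) * G.det) * (M - 1).det = 0 := by linear_combination h3
    exact (mul_eq_zero.1 this).resolve_left (mul_ne_zero O.two hG)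
  have h5 : LinearMap.det (A - LinearMap.id) = 0 := by
    rw [← LinearMap.det_toMatrix b, map_sub, LinearMap.toMatrix_id]
    exact h4
  obtain ⟨c, hc, hc0⟩ := Submodule.exists_mem_ne_zero_of_ne_bot (LinearMap.bot_lt_ker_of_det_eq_zero h5).ne'
  exact ⟨c, hc0, sub_eq_zero.1 (LinearMap.mem_ker.1 hc)⟩

/-- The fixed line of a semisimple map of the first factor. -/
theorem fixed_line {k : OQ Q} (hk : k ∈ K) {A : U →ₗ[F] U} (e : PU T k A) (hp : PF p k) (h1 : A ≠ LinearMap.id) :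
    ∃ c n n', f c c ≠ 0 ∧ f n n ≠ 0 ∧ f n' n' ≠ 0 ∧ f c n = 0 ∧ f c n' = 0 ∧ f n n' = 0 ∧ A c = c ∧
      ∀ x, A x = x → ∃ t : F, x = t • c := by
  classical
  have hf := O.hf
  have hinU : InU K T A := ⟨k, hk, e⟩
  have hA := O.inU_iso hinU
  obtain ⟨c, hc0, hAc⟩ := O.exists_fixed hinU
  have hcc : f c c ≠ 0 := fun h => h1 (O.pfree_fix hk e hp h hc0 hAc)
  have mk : ∀ b : U, f b b ≠ 0 → f c b = 0 → ∃ b', f b' b' ≠ 0 ∧ f c b' = 0 ∧ f b b' = 0 := by
    intro b hb hcb
    obtain ⟨b', hb', hP⟩ := exists_aniso_perp hf (Submodule.span F (({c, b} : Finset U) : Set U)) (by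
        intro x hx hxP
        simp only [Finset.coe_insert, Finset.coe_singleton, Submodule.mem_span_insert,
          Submodule.mem_span_singleton] at hx
        obtain ⟨α, _, ⟨β, rfl⟩, rfl⟩ := hx
        have k1 := hxP c (Submodule.subset_span (by simp))
        have k2 := hxP b (Submodule.subset_span (by simp))
        simp only [map_add, map_smul, smul_eq_mul, hcb, hf.symm c b, mul_zero, add_zero, zero_add, mul_eq_zero,
          hcc, hb, or_false] at k1 k2
        simp [k1, k2])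
      (lt_of_le_of_lt ((finrank_span_finset_le_card _).trans Finset.card_le_two) (by rw [O.dU]; omega))
    exact ⟨b', hb', hP c (Submodule.subset_span (by simp)), hP b (Submodule.subset_span (by simp))⟩
  obtain ⟨n, hn, hnP⟩ := exists_aniso_perp hf (Submodule.span F {c}) (by
      intro x hx hxP
      obtain ⟨α, rfl⟩ := Submodule.mem_span_singleton.1 hx
      have k1 := hxP c (Submodule.mem_span_singleton_self c)
      simp only [map_smul, smul_eq_mul, mul_eq_zero, hcc, or_false] at k1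
      rw [k1, zero_smul])
    (by rw [finrank_span_singleton hc0, O.dU]; omega)
  have hcn : f c n = 0 := hnP c (Submodule.mem_span_singleton_self c)
  obtain ⟨n', hn', hcn', hnn'⟩ := mk n hn hcn
  refine ⟨c, n, n', hcc, hn, hn', hcn, hcn', hnn', hAc, fun x hx => ?_⟩
  by_contra! hne
  set v := x - (f c x / f c c) • c
  have hAv : A v = v := by simp [v, hx, hAc]
  have hv0 : v ≠ 0 := fun h => hne _ (sub_eq_zero.1 h)
  have hvv : f v v ≠ 0 := fun h => h1 (O.pfree_fix hk e hp h hv0 hAv)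
  have hcv : f c v = 0 := by simp [v, hcc]
  obtain ⟨b, hb, hcb, hvb⟩ := mk v hvv hcv
  set t := f b (A b) / f b b
  have hAb : A b = t • b := sub_eq_zero.1 (three_zero hf O.dU hcc hvv hb hcv hcb hvb
    (by rw [map_sub, map_smul, hcb, smul_zero, sub_zero, ← hcb]; conv_lhs => rw [← hAc, hA])
    (by rw [map_sub, map_smul, hvb, smul_zero, sub_zero, ← hvb]; conv_lhs => rw [← hAv, hA])
    (by simp [t, hb]))
  have ht : t * t = 1 := by
    have h2 := hA b b
    simp only [hAb, map_smul, LinearMap.smul_apply, smul_eq_mul, ← mul_assoc] at h2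
    exact mul_right_cancel₀ hb (h2.trans (one_mul _).symm)
  have hext : ∀ B : U →ₗ[F] U, B c = c → B v = v → B b = t • b → A = B := fun B h2 h3 h4 =>
    LinearMap.ext fun y => by
      have hy : y = (f c y / f c c) • c + (f v y / f v v) • v + (f b y / f b b) • b :=
        sub_eq_zero.1 (three_zero hf O.dU hcc hvv hb hcv hcb hvb
          (by simp [hcv, hcb, hcc]) (by simp [hf.symm c v, hcv, hvb, hvv])
          (by simp [hf.symm c b, hcb, hf.symm v b, hvb, hb]))
      rw [hy]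
      simp only [map_add, map_smul, h2, h3, h4, hAc, hAv, hAb]
  rcases mul_self_eq_one_iff.1 ht with ht1 | ht1
  · exact h1 (hext LinearMap.id rfl rfl (by simp [ht1]))
  · refine O.not_reflU hb (c := b) ?_
    rw [← hext (reflU b) (hf.refl_fix (by rw [hf.symm, hcb])) (hf.refl_fix (by rw [hf.symm, hvb])) (by
      rw [MixTensor.refl_apply, div_mul_cancel₀ _ hb, ht1]; module)]
    exact hinU

omit [Fact p.Prime] [CharP F p] in
/-- A vector whose contractions lie on a line is pure. -/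
theorem pure_of_comp {c : U} (hc : f c c ≠ 0) {v : V} (h : ∀ z, ∃ t : F, O.C z v = t • c) :
    v = T c ((f c c)⁻¹ • O.toTensor.flip.C c v) := by
  refine O.V_ext fun z => ?_
  obtain ⟨t, ht⟩ := h z
  have h1 : g z (O.toTensor.flip.C c v) = t * f c c := by
    rw [O.toTensor.flip.f_C, LinearMap.flip_apply, ← O.f_C, ht, map_smul, smul_eq_mul]
  rw [O.C_T, map_smul, smul_eq_mul, h1, ht]
  congr 1
  field_simp

/-- **The centraliser of a semisimple element of the first factor.** -/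
theorem comm_semiU {y ka : OQ Q} (hy : y ∈ K) (hka : ka ∈ K) {A : U →ₗ[F] U} (ea : PU T ka A) (hp : PF p ka)
    (h1 : A ≠ LinearMap.id) (hc : Commute y ka) : Tens T y := by
  classical
  have hfin := finite_OQ' Q
  have := O.ntW
  obtain ⟨c, _, _, hcc, -, -, -, -, -, hAc, hfix⟩ := O.fixed_line hka ea hp h1
  have hA := O.inU_iso ⟨ka, hka, ea⟩
  have hC : ∀ z v, O.C z ((ka : V ≃ₗ[F] V) v) = A (O.C z v) := fun z v => by
    refine LinearMap.congr_fun (O.hom_ext (L := O.C z ∘ₗ ((ka : V ≃ₗ[F] V) : V →ₗ[F] V))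
      (L' := A ∘ₗ O.C z) fun a r => ?_) v
    simp only [LinearMap.comp_apply, LinearEquiv.coe_coe, ea a r, O.C_T, map_smul]
  -- the action on the fixed space
  have hpres : ∀ k : OQ Q, Commute k ka → ∃ b : W →ₗ[F] W, (∀ r s, g (b r) (b s) = g r s) ∧
      ∀ r, (k : V ≃ₗ[F] V) (T c r) = T c (b r) := by
    intro k hk
    have hkv : ∀ r, (k : V ≃ₗ[F] V) (T c r) = T c ((f c c)⁻¹ • O.toTensor.flip.C c ((k : V ≃ₗ[F] V) (T c r))) := by
      intro r
      refine O.pure_of_comp hcc fun z => hfix _ ?_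
      rw [← hC]
      have h2 : (ka : V ≃ₗ[F] V) ((k : V ≃ₗ[F] V) (T c r)) = (k : V ≃ₗ[F] V) ((ka : V ≃ₗ[F] V) (T c r)) := by
        show ((ka * k : OQ Q) : V ≃ₗ[F] V) (T c r) = ((k * ka : OQ Q) : V ≃ₗ[F] V) (T c r)
        rw [hk.eq]
      rw [h2, ea, hAc]
    refine ⟨(f c c)⁻¹ • (O.toTensor.flip.C c ∘ₗ ((k : V ≃ₗ[F] V) : V →ₗ[F] V) ∘ₗ T c), fun r s => ?_, fun r => hkv r⟩
    have h3 := OQ.map_polar k (T c r) (T c s)
    rw [hkv r, hkv s, O.polarT, O.polarT] at h3
    exact mul_left_cancel₀ hcc h3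
  obtain ⟨b, hb, hyb⟩ := hpres y hc
  let R : Subgroup (OQ Q) :=
    { carrier := {k | k ∈ K ∧ Commute k ka ∧ ∀ r, (k : V ≃ₗ[F] V) (T c r) = T c r}
      one_mem' := ⟨K.one_mem, Commute.one_left _, fun _ => rfl⟩
      mul_mem' := fun {k k'} h h' => ⟨K.mul_mem h.1 h'.1, h.2.1.mul_left h'.2.1, fun r => by
        show (k : V ≃ₗ[F] V) ((k' : V ≃ₗ[F] V) (T c r)) = _
        rw [h'.2.2, h.2.2]⟩
      inv_mem' := fun {k} h => ⟨K.inv_mem h.1, h.2.1.inv_left, fun r => by
        show (k : V ≃ₗ[F] V).symm (T c r) = _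
        rw [LinearEquiv.symm_apply_eq, h.2.2]⟩ }
  obtain ⟨e, -, he0, he⟩ := O.hg.exists_isotropic (P := (⊤ : Submodule F W)) (by rw [finrank_top, O.dW]; omega)
  obtain ⟨S, hSc, hSexp, hScard, hSmem⟩ := O.exists_siegel_group (p := p) he he0
  have hpure : ∀ {k : OQ Q} {B : W →ₗ[F] W}, PW T k B → Commute k ka := fun {k B} ek => O.el_ext fun a r => by
    show (k : V ≃ₗ[F] V) ((ka : V ≃ₗ[F] V) (T a r)) = (ka : V ≃ₗ[F] V) ((k : V ≃ₗ[F] V) (T a r))
    rw [ea, ek, ek, ea]
  have hSR : S ≤ Subgroup.normalizer (R : Set (OQ Q)) := by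
    have key : ∀ k ∈ S, ∀ r ∈ R, k * r * k⁻¹ ∈ R := by
      intro k hk r hr
      obtain ⟨hkK, x₀, h, ek⟩ := hSmem k hk
      refine ⟨K.mul_mem (K.mul_mem hkK hr.1) (K.inv_mem hkK), ((hpure ek).mul_left hr.2.1).mul_left (hpure ek).inv_left,
        fun y' => ?_⟩
      show (k : V ≃ₗ[F] V) ((r : V ≃ₗ[F] V) ((k : V ≃ₗ[F] V).symm (T c y'))) = _
      rw [show (k : V ≃ₗ[F] V).symm (T c y') = T c (sv g e (-x₀) y') by
        rw [LinearEquiv.symm_apply_eq, ek, sv_inv O.hg he h], hr.2.2, ek, sv_inv O.hg he h]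
    intro k hk
    refine Subgroup.mem_normalizer_iff.2 fun r => ⟨key k hk r, fun h => ?_⟩
    have := key k⁻¹ (S.inv_mem hk) _ h
    rwa [show k⁻¹ * (k * r * k⁻¹) * k⁻¹⁻¹ = r by group] at this
  -- the fixer is semisimple
  have hRp : ¬ p ∣ Nat.card R := by
    intro hdvd
    obtain ⟨r, hrR, hro, hrc⟩ := exists_fixed_of_dvd (p := p) (A := S) (N := R)
      (fun a => ⟨1, Subtype.ext (by simpa using hSexp _ a.2)⟩) hSR hdvd
    -- a fixed element lies in the stabiliser
    obtain ⟨a, ha, ha1⟩ : ∃ a ∈ S, a ≠ 1 := by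
      by_contra! h
      have : Nat.card S ≤ 1 := by
        rw [(Subgroup.eq_bot_iff_forall S).2 h, Subgroup.card_bot]
      have := (Fact.out : p.Prime).two_le
      nlinarith
    obtain ⟨haK, x₀, h, eax⟩ := hSmem a ha
    have hxx : g x₀ x₀ ≠ 0 := fun hq => ha1 (O.el_ext fun v s => by
      obtain ⟨t, rfl⟩ := Submodule.mem_span_singleton.1 (O.thin e x₀ he he0 h hq)
      rw [eax, sv_smul_self O.hg he]
      rfl)
    have hrH : r ∈ O.H := ⟨hrR.1, O.tens_of_conj_pure hrR.1 he0 he h hxx eax (by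
      rw [mul_assoc, (hrc a ha).eq, inv_mul_cancel_left]
      exact ⟨haK, LinearMap.id, _, eax⟩)⟩
    obtain ⟨A', B', hA', hB', hA'c, hB'c, er⟩ := O.pair_order_p (p := p) hrH (by rw [← hro, pow_orderOf_eq_one])
    obtain ⟨y₀, hy₀⟩ := exists_ne (0 : W)
    obtain ⟨z, hz⟩ := O.exists_partner hy₀
    have hA'cε : g z (B' y₀) • A' c = c := by
      have h2 := congrArg (O.C z) (hrR.2.2 y₀)
      rw [er, O.C_T, O.C_T, hz, one_smul] at h2
      exact h2
    set t := g z (B' y₀)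
    have ht : t * t = 1 := by
      have h2 : t * t * f (A' c) (A' c) = f c c := by
        conv_rhs => rw [← hA'cε]
        simp [mul_assoc]
      rw [O.inU_iso hA'] at h2
      exact mul_right_cancel₀ hcc (h2.trans (one_mul _).symm)
    have hB'' : ∀ s, B' s = t • s := fun s => O.T_injective' (a := A' c)
      (fun h0 => hcc (by rw [← O.inU_iso hA', h0, map_zero])) (by
      rw [← er, hrR.2.2, map_smul]
      conv_lhs => rw [← hA'cε, map_smul, LinearMap.smul_apply])
    rcases mul_self_eq_one_iff.1 ht with ht1 | ht1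
    swap
    · exact O.not_negW (by convert hB' using 1; exact LinearMap.ext fun s => by simp [hB'', ht1])
    rw [ht1, one_smul] at hA'cε
    rcases hA'c with hA1 | ⟨d, z', hd0, hd, hdz, hzz, hA1⟩
    · have : r = 1 := O.el_ext fun v s => by rw [er, hA1, hB'', ht1, one_smul]; rfl
      rw [this, orderOf_one] at hro
      exact (Fact.out : p.Prime).one_lt.ne hro
    · have h3 := (sv_fix_iff O.hf hd hd0 hdz hzz c).1 (by rw [← hA1, hA'cε])
      have hX := finrank_orth_two O.hf hd0 hd hdz hzz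
      rw [O.dU] at hX
      have hle : Submodule.span F {d} ≤ LinearMap.ker (f d) ⊓ LinearMap.ker (f z') :=
        (Submodule.span_singleton_le_iff_mem ..).2 ⟨hd, by simp [O.hf.symm d z', hdz]⟩
      have he' := Submodule.eq_of_le_of_finrank_le hle (by rw [finrank_span_singleton hd0]; omega)
      obtain ⟨s, rfl⟩ := Submodule.mem_span_singleton.1 (he'.ge ⟨h3.1, h3.2⟩)
      exact hcc (by simp only [map_smul, LinearMap.smul_apply, hd, smul_zero])
  have hRH : R ≤ O.H := by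
    refine CfsgLib.LocalEven.le_of_centralizers_le (p := p) hSexp hScard hSR hRp fun a ha ha1 => ?_
    obtain ⟨haK, x₀, h, eax⟩ := hSmem a ha
    have hxx : g x₀ x₀ ≠ 0 := fun hq => ha1 (O.el_ext fun v s => by
      obtain ⟨t, rfl⟩ := Submodule.mem_span_singleton.1 (O.thin e x₀ he he0 h hq)
      rw [eax, sv_smul_self O.hg he]
      rfl)
    rintro k ⟨hkR, hkc⟩
    refine ⟨hkR.1, O.tens_of_conj_pure hkR.1 he0 he h hxx eax ?_⟩
    rw [mul_assoc, Subgroup.mem_centralizer_iff.1 hkc a (Set.mem_singleton a), inv_mul_cancel_left]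
    exact ⟨haK, LinearMap.id, _, eax⟩
  -- the element
  obtain ⟨u, -, heu, x, hxx, hex, -⟩ := O.exists_aniso_orth he he0
  obtain ⟨τ, hτK, eτ⟩ := O.inW_siegel he hex hxx
  obtain ⟨τ', hτ'K, eτ'⟩ := O.inW_siegel (w := b e) (z := b x) (by rw [hb, he]) (by rw [hb, hex]) (by rwa [hb])
  have hbsurj := iso_surj O.hg hb
  have hbτ : ∀ r, sv g (b e) (b x) (b r) = b (sv g e x r) := fun r => by
    simp only [sv_apply, hb, map_add, map_sub, map_smul]
  have hz : y * τ * y⁻¹ * τ'⁻¹ ∈ R := by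
    refine ⟨K.mul_mem (K.mul_mem (K.mul_mem hy hτK) (K.inv_mem hy)) (K.inv_mem hτ'K),
      ((hc.mul_left (hpure eτ)).mul_left hc.inv_left).mul_left (hpure eτ').inv_left, fun r => ?_⟩
    obtain ⟨r, rfl⟩ := hbsurj r
    obtain ⟨r, rfl⟩ := iso_surj O.hg (sv_isometry O.hg he hex) r
    show (y : V ≃ₗ[F] V) ((τ : V ≃ₗ[F] V) ((y : V ≃ₗ[F] V).symm ((τ' : V ≃ₗ[F] V).symm (T c (b (sv g e x r)))))) = _
    rw [show (τ' : V ≃ₗ[F] V).symm (T c (b (sv g e x r))) = T c (b r) by rw [LinearEquiv.symm_apply_eq, eτ', hbτ],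
      show (y : V ≃ₗ[F] V).symm (T c (b r)) = T c r by rw [LinearEquiv.symm_apply_eq, hyb], eτ, hyb]
  have hyτ : y * τ * y⁻¹ ∈ O.H := by
    have h2 := O.H.mul_mem (hRH hz) (show τ' ∈ O.H from ⟨hτ'K, LinearMap.id, _, eτ'⟩)
    rwa [inv_mul_cancel_right] at h2
  have h2 := O.tens_of_conj_pure (K.inv_mem hy) he0 he hex hxx eτ (by rwa [inv_inv])
  exact inv_inv y ▸ h2.inv

/-- A semisimple involution of the first factor. -/
theorem half_turn {c : U} (hc : f c c ≠ 0) :
    ∃ ρ ∈ O.H, PU T ρ (-reflU c) ∧ ρ ^ 2 = 1 ∧ PF p ρ ∧ (-reflU c : U →ₗ[F] U) ≠ LinearMap.id := by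
  obtain ⟨ρ, hρ, e⟩ := O.inU_neg_refl hc
  have h2 : ρ ^ 2 = 1 := O.el_ext fun a r => by
    rw [pow_two]
    show (ρ : V ≃ₗ[F] V) ((ρ : V ≃ₗ[F] V) (T a r)) = T a r
    rw [e, e]
    simp [O.hf.refl_refl hc]
  refine ⟨ρ, ⟨hρ, -reflU c, LinearMap.id, e⟩, e, h2, ⟨2, O.two_pfree, h2⟩, fun h => ?_⟩
  obtain ⟨d, hd, hP⟩ := exists_aniso_perp O.hf (Submodule.span F {c}) (by
      intro x hx hxP
      obtain ⟨α, rfl⟩ := Submodule.mem_span_singleton.1 hx
      have k1 := hxP c (Submodule.mem_span_singleton_self c)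
      simp only [map_smul, smul_eq_mul, mul_eq_zero, hc, or_false] at k1
      rw [k1, zero_smul])
    (by rw [finrank_span_singleton (fun h0 => hc (by simp [h0])), O.dU]; omega)
  have h3 := LinearMap.congr_fun h d
  rw [LinearMap.neg_apply, O.hf.refl_fix (hP c (Submodule.mem_span_singleton_self c)), LinearMap.id_apply] at h3
  have h4 : (2 : F) • d = 0 := by linear_combination (norm := module) -h3
  exact hd (by rw [(smul_eq_zero.1 h4).resolve_left O.two]; simp)

/-- **Half turns are not fused to the outside.** -/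
theorem tens_of_half_turn {k ρ : OQ Q} (hk : k ∈ K) {c : U} (hc : f c c ≠ 0) (hρ : ρ ∈ K) (eρ : PU T ρ (-reflU c))
    (h : k⁻¹ * ρ * k ∈ O.H) : Tens T k := by
  classical
  obtain ⟨p, hprime, hchar⟩ := O.exists_char
  have := Fact.mk hprime
  obtain ⟨ρ', -, eρ', hsq', hρp, hne⟩ := O.half_turn (p := p) hc
  obtain rfl : ρ = ρ' := O.el_ext fun a r => (eρ a r).trans (eρ' a r).symm
  set h' := k⁻¹ * ρ * k with hh'
  have hh2 : h' ^ 2 = 1 := by
    rw [hh', show k⁻¹ * ρ * k = k⁻¹ * ρ * k⁻¹⁻¹ by rw [inv_inv], conj_pow, hsq', mul_one, mul_inv_cancel]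
  obtain ⟨A, B, hA, hB, e⟩ := O.exists_pair h
  obtain ⟨hA2, hB2⟩ := O.prod_unique (O.inU_pow hA 2) InU.one (O.inW_pow hB 2) InW.one fun a r => by
    rw [← O.pair_pow e 2 a r, hh2]
    rfl
  have hBB : ∀ r, B (B r) = r := fun r => by
    have := LinearMap.congr_fun hB2 r
    rwa [pow_two, Module.End.mul_apply] at this
  have hback : ∀ q : OQ Q, Commute q h' → Commute (k * q * k⁻¹) ρ := fun q hq => by
    have h1 := Commute.map hq (MulAut.conj k).toMonoidHom
    rw [hh'] at h1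
    simpa [mul_assoc] using h1
  by_cases hA1 : A = LinearMap.id
  · -- a Siegel element of the first factor commutes with it
    obtain ⟨d, -, hd0, hd⟩ := O.hf.exists_isotropic (P := (⊤ : Submodule F U)) (by rw [finrank_top, O.dU])
    obtain ⟨_, -, -, z, hz, hdz, -⟩ := O.exists_aniso_orthU hd hd0
    obtain ⟨σ, hσK, eσ⟩ := O.inU_siegel hd hdz hz
    have hcσ : Commute σ h' := O.el_ext fun a r => by
      show (σ : V ≃ₗ[F] V) ((h' : V ≃ₗ[F] V) (T a r)) = (h' : V ≃ₗ[F] V) ((σ : V ≃ₗ[F] V) (T a r))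
      rw [e, eσ, eσ, e, hA1]
      rfl
    have hyK : k * σ * k⁻¹ ∈ K := K.mul_mem (K.mul_mem hk hσK) (K.inv_mem hk)
    have hy : Tens T (k * σ * k⁻¹) := O.comm_semiU hyK hρ eρ hρp hne (hback σ hcσ)
    have h2 := O.tens_of_order_p (p := p) (k := k⁻¹) (h := σ) (K.inv_mem hk) ⟨hσK, sv f d z, LinearMap.id, eσ⟩
      (O.el_ext fun a r => by rw [O.PU_pow eσ p a r, O.svU_p (p := p) hd hdz]; rfl)
      (fun h1 => by
        obtain ⟨u, -, hdu⟩ := exists_iso_partner O.hf hd hd0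
        have := O.ntW
        obtain ⟨r, hr⟩ := exists_ne (0 : W)
        have h3 := eσ u r
        rw [h1] at h3
        have h4 := ((sv_fix_iff O.hf hd hd0 hdz hz u).1 (O.T_injective hr h3).symm).1
        rw [hdu] at h4
        exact one_ne_zero h4)
      (by rw [inv_inv]; exact ⟨hyK, hy⟩)
    have := finite_OQ' Q
    exact inv_inv k ▸ h2.inv
  -- the first factor is a half turn
  obtain ⟨kA, hkA, ekA⟩ := id hA
  have hkA2 : kA ^ 2 = 1 := O.el_ext fun a r => by rw [O.PU_pow ekA 2 a r, hA2]; rfl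
  obtain ⟨c', n, n', hc', hn, hn', hcn, hcn', hnn', hAc', hfix'⟩ :=
    O.fixed_line hkA ekA ⟨2, O.two_pfree (p := p), hkA2⟩ hA1
  have hAA : ∀ a, A (A a) = a := fun a => by
    have := LinearMap.congr_fun hA2 a
    rwa [pow_two, Module.End.mul_apply] at this
  have hAn : ∀ x, f c' x = 0 → A x = -x := fun x hx => by
    obtain ⟨t, ht⟩ := hfix' (A x + x) (by rw [map_add, hAA, add_comm])
    have h1 : f c' (A x + x) = 0 := by
      rw [map_add, hx, add_zero]
      conv_lhs => rw [← hAc', O.inU_iso hA, hx]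
    rw [ht, map_smul, smul_eq_mul, mul_eq_zero, or_iff_left hc'] at h1
    rw [h1, zero_smul] at ht
    exact eq_neg_of_add_eq_zero_left ht
  by_cases hB1 : B = LinearMap.id
  · -- a Siegel element of the second factor commutes with it
    obtain ⟨d, -, hd0, hd⟩ := O.hg.exists_isotropic (P := (⊤ : Submodule F W)) (by rw [finrank_top, O.dW]; omega)
    obtain ⟨_, -, -, z, hz, hdz, -⟩ := O.exists_aniso_orth hd hd0
    obtain ⟨τ, hτK, eτ⟩ := O.inW_siegel hd hdz hz
    have hcτ : Commute τ h' := O.el_ext fun a r => by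
      show (τ : V ≃ₗ[F] V) ((h' : V ≃ₗ[F] V) (T a r)) = (h' : V ≃ₗ[F] V) ((τ : V ≃ₗ[F] V) (T a r))
      rw [e, eτ, eτ, e, hB1]
      rfl
    have hyK : k * τ * k⁻¹ ∈ K := K.mul_mem (K.mul_mem hk hτK) (K.inv_mem hk)
    have hy : Tens T (k * τ * k⁻¹) := O.comm_semiU hyK hρ eρ hρp hne (hback τ hcτ)
    have := finite_OQ' Q
    have h2 := O.tens_of_conj_pure (K.inv_mem hk) hd0 hd hdz hz eτ (by rw [inv_inv]; exact ⟨hyK, hy⟩)
    exact inv_inv k ▸ h2.inv
  -- the fixed spaces have different dimensions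
  exfalso
  set E := eigW B (1 : F)
  set E' := eigW B (-1 : F)
  have hsum : finrank F E + finrank F E' = finrank F W := eigW_sum O.two hBB
  have hE' : finrank F E' ≠ 0 := fun h0 => hB1 (LinearMap.ext fun r => by
    have hm : B r - r ∈ E' := mem_eigW.2 (by rw [map_sub, hBB, neg_one_smul, neg_sub])
    rw [Submodule.finrank_eq_zero.1 h0, Submodule.mem_bot, sub_eq_zero] at hm
    exact hm)
  have hfixh : ∀ v, (h' : V ≃ₗ[F] V) v = v → ∃ r, (k : V ≃ₗ[F] V) v = T c r := by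
    intro v hv
    have hρv : (ρ : V ≃ₗ[F] V) ((k : V ≃ₗ[F] V) v) = (k : V ≃ₗ[F] V) v := by
      conv_rhs => rw [← hv]
      show ((ρ * k : OQ Q) : V ≃ₗ[F] V) v = ((k * h' : OQ Q) : V ≃ₗ[F] V) v
      rw [hh', ← mul_assoc, ← mul_assoc, mul_inv_cancel, one_mul]
    refine ⟨_, O.pure_of_comp hc fun z => ?_⟩
    have h1 : O.C z ((ρ : V ≃ₗ[F] V) ((k : V ≃ₗ[F] V) v)) = -reflU c (O.C z ((k : V ≃ₗ[F] V) v)) := by
      refine LinearMap.congr_fun (O.hom_ext (L := O.C z ∘ₗ ((ρ : V ≃ₗ[F] V) : V →ₗ[F] V))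
        (L' := (-reflU c) ∘ₗ O.C z) fun a r => ?_) ((k : V ≃ₗ[F] V) v)
      simp only [LinearMap.comp_apply, LinearEquiv.coe_coe, eρ a r, O.C_T, map_smul]
    rw [hρv, MixTensor.refl_apply] at h1
    set X := O.C z ((k : V ≃ₗ[F] V) v)
    refine ⟨f c X / f c c, smul_right_injective U O.two ?_⟩
    show (2 : F) • X = (2 : F) • (f c X / f c c) • c
    rw [smul_smul, show (2 : F) * (f c X / f c c) = 2 / f c c * f c X by ring]
    linear_combination (norm := module) h1
  let Φ : E × E' × E' →ₗ[F] V :=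
    (T c' ∘ₗ E.subtype).coprod ((T n ∘ₗ E'.subtype).coprod (T n' ∘ₗ E'.subtype))
  have hΦ : ∀ a b d, Φ (a, b, d) = T c' a + (T n b + T n' d) := fun _ _ _ => rfl
  have hΦi : Function.Injective Φ := by
    refine (injective_iff_map_eq_zero Φ).2 fun ⟨a, b, d⟩ h0 => ?_
    rw [hΦ] at h0
    have hC : ∀ m x s, O.toTensor.flip.C m (T x s) = f m x • s := fun m x s => by
      have := O.toTensor.flip.C_T m s x
      rwa [LinearMap.flip_apply] at this
    have k1 := congrArg (O.toTensor.flip.C c') h0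
    have k2 := congrArg (O.toTensor.flip.C n) h0
    have k3 := congrArg (O.toTensor.flip.C n') h0
    simp only [map_add, map_zero, hC, hcn, hcn', hnn', O.hf.symm c' n, O.hf.symm c' n', O.hf.symm n n', zero_smul,
      add_zero, zero_add, smul_eq_zero, hc', hn, hn', false_or] at k1 k2 k3
    simp only [Submodule.coe_eq_zero] at k1 k2 k3
    simp [k1, k2, k3]
  have hΦr : LinearMap.range (((k : V ≃ₗ[F] V) : V →ₗ[F] V) ∘ₗ Φ) ≤ LinearMap.range (T c) := by
    rintro _ ⟨⟨a, b, d⟩, rfl⟩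
    obtain ⟨r, hr⟩ := hfixh (Φ (a, b, d)) (by
      rw [hΦ, map_add, map_add, e, e, e, hAc', mem_eigW.1 a.2, mem_eigW.1 b.2, mem_eigW.1 d.2,
        hAn n hcn, hAn n' hcn']
      simp)
    exact ⟨r, hr.symm⟩
  have h1 := (Submodule.finrank_mono hΦr).trans (LinearMap.finrank_range_le _)
  rw [LinearMap.finrank_range_of_inj (show Function.Injective (((k : V ≃ₗ[F] V) : V →ₗ[F] V) ∘ₗ Φ) from
    (k : V ≃ₗ[F] V).injective.comp hΦi), Module.finrank_prod, Module.finrank_prod] at h1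
  rw [O.dW] at h1 hsum
  omega

/-- **Semisimple elements of the first factor are not fused to the outside.** -/
theorem tens_of_semiU {k ka : OQ Q} (hk : k ∈ K) (hka : ka ∈ K) {A : U →ₗ[F] U} (ea : PU T ka A) (hp : PF p ka)
    (h1 : A ≠ LinearMap.id) (h : k⁻¹ * ka * k ∈ O.H) : Tens T k := by
  classical
  have := finite_OQ' Q
  set h' := k⁻¹ * ka * k with hh'
  obtain ⟨A', B', hA', hB', e⟩ := O.exists_pair h
  obtain ⟨c₀, hc₀⟩ := have := O.ntU; O.hf.exists_aniso
  obtain ⟨X, A'', hXK, eX, hXp, hA''1, hXh⟩ : ∃ (X : OQ Q) (A'' : U →ₗ[F] U), X ∈ K ∧ PU T X A'' ∧ PF p X ∧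
      A'' ≠ LinearMap.id ∧ Commute X h' := by
    by_cases hA'1 : A' = LinearMap.id
    · obtain ⟨ρ, hρH, eρ, -, hρp, hne⟩ := O.half_turn (p := p) hc₀
      refine ⟨ρ, _, hρH.1, eρ, hρp, hne, O.el_ext fun a r => ?_⟩
      show (ρ : V ≃ₗ[F] V) ((h' : V ≃ₗ[F] V) (T a r)) = (h' : V ≃ₗ[F] V) ((ρ : V ≃ₗ[F] V) (T a r))
      rw [e, eρ, eρ, e, hA'1]
      rfl
    · obtain ⟨X, hXK, eX⟩ := id hA'
      obtain ⟨n, hn, hkn⟩ := hp
      have hh'n : h' ^ n = 1 := by
        rw [hh', show k⁻¹ * ka * k = k⁻¹ * ka * k⁻¹⁻¹ by rw [inv_inv], conj_pow, hkn, mul_one, mul_inv_cancel]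
      have hAn := (O.prod_unique (O.inU_pow hA' n) InU.one (O.inW_pow hB' n) InW.one fun a r => by
        rw [← O.pair_pow e n a r, hh'n]
        rfl).1
      refine ⟨X, A', hXK, eX, ⟨n, hn, O.el_ext fun a r => by rw [O.PU_pow eX n a r, hAn]; rfl⟩, hA'1,
        O.el_ext fun a r => ?_⟩
      show (X : V ≃ₗ[F] V) ((h' : V ≃ₗ[F] V) (T a r)) = (h' : V ≃ₗ[F] V) ((X : V ≃ₗ[F] V) (T a r))
      rw [e, eX, eX, e]
  -- the conjugate centralises the semisimple element
  set y := k * X * k⁻¹ with hy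
  have hyK : y ∈ K := K.mul_mem (K.mul_mem hk hXK) (K.inv_mem hk)
  have hyc : Commute y ka := by
    have h2 := Commute.map hXh (MulAut.conj k).toMonoidHom
    simpa [hy, hh', mul_assoc] using h2
  have hyH : y ∈ O.H := ⟨hyK, O.comm_semiU hyK hka ea hp h1 hyc⟩
  obtain ⟨c, _, _, hc, -, -, -, -, -, hAc, hfix⟩ := O.fixed_line hka ea hp h1
  obtain ⟨Ay, By, hAy, hBy, ey⟩ := O.exists_pair hyH
  obtain ⟨hAA, -⟩ := O.prod_unique (hAy.mul ⟨ka, hka, ea⟩) ((show InU K T A from ⟨ka, hka, ea⟩).mul hAy) hBy hBy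
    fun a r => by
      have h2 : (y : V ≃ₗ[F] V) ((ka : V ≃ₗ[F] V) (T a r)) = (ka : V ≃ₗ[F] V) ((y : V ≃ₗ[F] V) (T a r)) := by
        show ((y * ka : OQ Q) : V ≃ₗ[F] V) (T a r) = ((ka * y : OQ Q) : V ≃ₗ[F] V) (T a r)
        rw [hyc.eq]
      rw [ea, ey, ey, ea] at h2
      exact h2
  obtain ⟨t, ht⟩ := hfix (Ay c) (by
    have := LinearMap.congr_fun hAA c
    rw [LinearMap.comp_apply, LinearMap.comp_apply, hAc] at this
    exact this.symm)
  have hcomm : ∀ a, Ay (reflU c a) = reflU c (Ay a) := fun a => by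
    have h2 : f c (Ay a) * t = f c a := by
      rw [← O.inU_iso hAy c a, ht, map_smul, LinearMap.smul_apply, smul_eq_mul, mul_comm]
    rw [MixTensor.refl_apply, MixTensor.refl_apply, map_sub, map_smul, ht, smul_smul]
    congr 2
    have h3 : t * t = 1 := by
      have h4 := O.inU_iso hAy c c
      simp only [ht, map_smul, LinearMap.smul_apply, smul_eq_mul, ← mul_assoc] at h4
      exact mul_right_cancel₀ hc (h4.trans (one_mul _).symm)
    rw [← h2]
    linear_combination (2 / f c c * f c (Ay a)) * h3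
  obtain ⟨ρ₀, hρ₀H, eρ₀, -, -, -⟩ := O.half_turn (p := p) hc
  have hyρ : Commute y ρ₀ := O.el_ext fun a r => by
    show (y : V ≃ₗ[F] V) ((ρ₀ : V ≃ₗ[F] V) (T a r)) = (ρ₀ : V ≃ₗ[F] V) ((y : V ≃ₗ[F] V) (T a r))
    rw [eρ₀, ey, ey, eρ₀, LinearMap.neg_apply, LinearMap.neg_apply, map_neg, hcomm]
  have hqK : k⁻¹ * ρ₀ * k ∈ K := K.mul_mem (K.mul_mem (K.inv_mem hk) hρ₀H.1) hk
  have hqc : Commute (k⁻¹ * ρ₀ * k) X := by
    have h2 := (Commute.map hyρ (MulAut.conj k⁻¹).toMonoidHom).symm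
    simpa [hy, mul_assoc] using h2
  exact O.tens_of_half_turn hk hc hρ₀H.1 eρ₀ ⟨hqK, O.comm_semiU hqK hXK eX hXp hA''1 hqc⟩

end Four

end CfsgLib.Geo.OrthTensorFour
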