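/-
`O₃ ⊗ O₄⁻`: semisimple maps of the second factor and their singular lines.
-/
import Cfsg.Agent.Lib.Geo.OrthTensorFour.Fixed

set_option autoImplicit false
set_option linter.unusedSectionVars false

namespace CfsgLib.Geo.OrthTensorFour

open CfsgLib.Classical CfsgLib.Classical.Quad Module
open CfsgLib.Geo.MixTensor (SymForm)
open CfsgLib.Geo.OrthTensor (sv sv_apply exists_iso_partner exists_aniso_perp pair_nondeg Tensor Tens)
open QuadraticMap (polar polarBilin)
open LinearMap (BilinForm)

variable {F : Type*} [Field F] [Finite F] {U W V : Type*} [AddCommGroup U] [Module F U] [FiniteDimensional F U]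
  [AddCommGroup W] [Module F W] [FiniteDimensional F W] [AddCommGroup V] [Module F V] [FiniteDimensional F V]
  {Q : QuadraticForm F V} {f : BilinForm F U} {g : BilinForm F W} {T : U →ₗ[F] W →ₗ[F] V}
  {K : Subgroup (OQ Q)}

local notation "reflU" => MixTensor.refl f
local notation "reflW" => MixTensor.refl g

/-- In a finite field one of `a`, `b`, `a * b` is a square. -/
theorem square_cases {F : Type*} [Field F] [Finite F] {a b : F} (ha : a ≠ 0) (hb : b ≠ 0) (h : ¬ IsSquare (a * b)) :
    IsSquare a ∨ IsSquare b := by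
  classical
  have := Fintype.ofFinite F
  by_contra! hn
  have h1 : quadraticChar F a = -1 := quadraticChar_neg_one_iff_not_isSquare.2 hn.1
  have h2 : quadraticChar F b = -1 := quadraticChar_neg_one_iff_not_isSquare.2 hn.2
  refine h ((quadraticChar_one_iff_isSquare (mul_ne_zero ha hb)).1 ?_)
  rw [map_mul, h1, h2]
  norm_num

namespace Four

variable (O : Four Q f g T K)
include O

/-- Parameters of the singular lines of the first factor. -/
theorem param_U : ∃ φ : U → Option F,
    ∀ w w', f w w = 0 → w ≠ 0 → f w' w' = 0 → w' ≠ 0 → φ w = φ w' → ∃ t : F, w' = t • w := by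
  classical
  have hf := O.hf
  obtain ⟨d, -, hd0, hd⟩ := hf.exists_isotropic (P := (⊤ : Submodule F U)) (by rw [finrank_top, O.dU])
  obtain ⟨e, hee, hde, z, hz, hdz, hez⟩ := O.exists_aniso_orthU hd hd0
  refine ⟨fun w => if f d w = 0 then none else some (f z w / f d w), fun w w' hw hw0 hw' hw'0 h => ?_⟩
  by_cases h1 : f d w = 0 <;> by_cases h2 : f d w' = 0 <;> simp [h1, h2] at h
  · obtain ⟨s, rfl⟩ := Submodule.mem_span_singleton.1 (O.thinU d w hd hd0 h1 hw)
    obtain ⟨s', rfl⟩ := Submodule.mem_span_singleton.1 (O.thinU d w' hd hd0 h2 hw')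
    have hs : s ≠ 0 := fun h0 => hw0 (by rw [h0, zero_smul])
    exact ⟨s' / s, by rw [smul_smul, div_mul_cancel₀ _ hs]⟩
  · set t := f d w' / f d w
    have ht : t * f d w = f d w' := div_mul_cancel₀ _ h1
    have key : f z w' - t * f z w = 0 := by
      simp only [t]
      field_simp at h ⊢
      linear_combination -h
    have hr : w' - t • w = f e (w' - t • w) • d := sub_eq_zero.1 (O.zero_of_frameU hd hd0 hde hdz hz
      (by simp [ht, hd]) (by simp [hf.symm d e, hde]) (by simp [hf.symm d z, hdz, key]))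
    set c := f e (w' - t • w)
    have hw'' : w' = t • w + c • d := by rw [← hr]; abel
    refine ⟨t, ?_⟩
    have h3 : c = 0 := by
      have h4 := hw'
      rw [hw''] at h4
      simp only [map_add, map_smul, LinearMap.add_apply, LinearMap.smul_apply, smul_eq_mul, hw, hd, hf.symm d w,
        mul_zero, add_zero, zero_add] at h4
      have h5 : (2 : F) * (t * f d w) * c = 0 := by linear_combination h4
      rw [ht] at h5
      exact (mul_eq_zero.1 h5).resolve_left (mul_ne_zero O.two h2)
    rw [hw'', h3, zero_smul, add_zero]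

/-- Parameters of the singular lines of the second factor. -/
theorem param_W : ∃ φ : W → Option (F × F),
    ∀ w w', g w w = 0 → w ≠ 0 → g w' w' = 0 → w' ≠ 0 → φ w = φ w' → ∃ t : F, w' = t • w := by
  classical
  have hg := O.hg
  obtain ⟨d, -, hd0, hd⟩ := hg.exists_isotropic (P := (⊤ : Submodule F W)) (by rw [finrank_top, O.dW]; omega)
  obtain ⟨e, c, c', hee, hde, hc, hc', hdc, hec, hdc', hec', hcc⟩ := O.exists_frameW hd hd0
  refine ⟨fun w => if g d w = 0 then none else some (g c w / g d w, g c' w / g d w),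
    fun w w' hw hw0 hw' hw'0 h => ?_⟩
  by_cases h1 : g d w = 0 <;> by_cases h2 : g d w' = 0 <;> simp [h1, h2] at h
  · obtain ⟨s, rfl⟩ := Submodule.mem_span_singleton.1 (O.thin d w hd hd0 h1 hw)
    obtain ⟨s', rfl⟩ := Submodule.mem_span_singleton.1 (O.thin d w' hd hd0 h2 hw')
    have hs : s ≠ 0 := fun h0 => hw0 (by rw [h0, zero_smul])
    exact ⟨s' / s, by rw [smul_smul, div_mul_cancel₀ _ hs]⟩
  · set t := g d w' / g d w
    have ht : t * g d w = g d w' := div_mul_cancel₀ _ h1
    have key : ∀ x, g x w / g d w = g x w' / g d w' → g x w' - t * g x w = 0 := fun x hx => by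
      simp only [t]
      field_simp at hx ⊢
      linear_combination -hx
    have hr : w' - t • w = g e (w' - t • w) • d := sub_eq_zero.1 (O.zero_of_frameW hd hd0 hde hdc hdc' hec' hcc hc hc'
      (by simp [ht, hd]) (by simp [hg.symm d e, hde])
      (by simp [hg.symm d c, hdc, key c h.1]) (by simp [hg.symm d c', hdc', key c' h.2]))
    set s := g e (w' - t • w)
    have hw'' : w' = t • w + s • d := by rw [← hr]; abel
    refine ⟨t, ?_⟩
    have h3 : s = 0 := by
      have h4 := hw'
      rw [hw''] at h4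
      simp only [map_add, map_smul, LinearMap.add_apply, LinearMap.smul_apply, smul_eq_mul, hw, hd, hg.symm d w,
        mul_zero, add_zero, zero_add] at h4
      have h5 : (2 : F) * (t * g d w) * s = 0 := by linear_combination h4
      rw [ht] at h5
      exact (mul_eq_zero.1 h5).resolve_left (mul_ne_zero O.two h2)
    rw [hw'', h3, zero_smul, add_zero]

theorem PW_pow {k : OQ Q} {B : W →ₗ[F] W} (e : PW T k B) (n : ℕ) : PW T (k ^ n) ((B : Module.End F W) ^ n) :=
  fun a y => by rw [O.pair_pow (A := LinearMap.id) (B := B) e n]; simp [← Module.End.one_eq_id]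

/-- Negating a singular line and an orthogonal vector modulo it is impossible. -/
theorem no_neg {B : W →ₗ[F] W} (hB : InW K T B) {e c : W} (he : g e e = 0) (he0 : e ≠ 0) (hec : g e c = 0)
    (hc : g c c ≠ 0) (hBe : B e = -e) (hBc : B c + c ∈ Submodule.span F {e}) : False := by
  obtain ⟨k, hk⟩ := Submodule.mem_span_singleton.1 hBc
  have hBc' : B c = -c + k • e := by rw [hk]; abel
  obtain ⟨z, hz, h⟩ := O.inW_commute hB he he0 hec hc fun x => by
    have h1 : g e (B x) = -g e x := by
      have := O.inW_iso hB e x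
      rw [hBe, map_neg, LinearMap.neg_apply] at this
      linear_combination -this
    have h2 : g c (B x) = -g c x - k * g e x := by
      have := O.inW_iso hB c x
      rw [hBc', map_add, map_neg, map_smul, LinearMap.add_apply, LinearMap.neg_apply, LinearMap.smul_apply,
        smul_eq_mul, h1] at this
      linear_combination -this
    simp only [sv_apply, map_add, map_sub, map_smul, hBe, hBc', h1, h2]
    module
  have h3 := h e
  rw [hBe] at h3
  have h4 : sv g e z e = e := by simp [sv_apply, he, O.hg.symm e z, hz]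
  rw [h4] at h3
  have h5 : (2 : F) • e = 0 := by linear_combination (norm := module) -h3
  exact he0 ((smul_eq_zero.1 h5).resolve_left O.two)

/-- A map fixing a singular line and an orthogonal vector modulo it is trivial when semisimple. -/
theorem pfree_fixW {p : ℕ} [Fact p.Prime] [CharP F p] {B : W →ₗ[F] W} (hB : InW K T B) {n : ℕ} (hn : ¬ p ∣ n)
    (hpow : (B : Module.End F W) ^ n = 1) {e c : W} (he : g e e = 0) (he0 : e ≠ 0) (hec : g e c = 0) (hc : g c c ≠ 0)
    (hBe : B e = e) (hBc : B c - c ∈ Submodule.span F {e}) : B = LinearMap.id := by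
  obtain ⟨z, hz, h⟩ := O.inW_fix_two hB he he0 hBe hec hc hBc
  rw [show B = sv g e z from LinearMap.ext h] at hpow ⊢
  exact LinearMap.ext (sv_torsion O.hg he he0 hz (O.cast_ne hn) hpow)

/-- Three fixed singular lines. -/
theorem lines_le_two {B : W →ₗ[F] W} (hB : InW K T B) (h1 : B ≠ LinearMap.id) {e u v : W} {μ ν ρ : F}
    (he : g e e = 0) (he0 : e ≠ 0) (hu : g u u = 0) (hu0 : u ≠ 0) (hv : g v v = 0) (hv0 : v ≠ 0)
    (hBe : B e = μ • e) (hBu : B u = ν • u) (hBv : B v = ρ • v)
    (heu : ∀ t : F, u ≠ t • e) : (∃ t : F, v = t • e) ∨ ∃ t : F, v = t • u := by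
  by_contra! hne
  obtain ⟨hve, hvu⟩ := hne
  have ne : ∀ a b : W, g a a = 0 → a ≠ 0 → g b b = 0 → (∀ t : F, b ≠ t • a) → g a b ≠ 0 := fun a b ha ha0 hb h h0 => by
    obtain ⟨t, ht⟩ := Submodule.mem_span_singleton.1 (O.thin a b ha ha0 h0 hb)
    exact h t ht.symm
  have geu := ne e u he he0 hu heu
  have gev := ne e v he he0 hv hve
  have guv := ne u v hu hu0 hv hvu
  have prod : ∀ a b : W, ∀ r s : F, B a = r • a → B b = s • b → g a b ≠ 0 → r * s = 1 := fun a b r s ha hb h => by
    have h2 := O.inW_iso hB a b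
    rw [ha, hb] at h2
    simp only [map_smul, LinearMap.smul_apply, smul_eq_mul] at h2
    exact mul_right_cancel₀ h (by linear_combination h2)
  have p1 := prod e u μ ν hBe hBu geu
  have p2 := prod e v μ ρ hBe hBv gev
  have p3 := prod u v ν ρ hBu hBv guv
  have hμ0 : μ ≠ 0 := left_ne_zero_of_mul_eq_one p1
  have hνρ : ν = ρ := mul_left_cancel₀ hμ0 (p1.trans p2.symm)
  have hμν : μ = ν := mul_right_cancel₀ (right_ne_zero_of_mul_eq_one p3) (p2.trans p3.symm)
  have hμ : μ * μ = 1 := by conv_lhs => arg 2; rw [hμν]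
                            exact p1
  set α := g u v / g e u
  set β := g e v / g e u
  set w := v - α • e - β • u
  have hwe : g e w = 0 := by simp [w, he, β, geu]
  have hwu : g u w = 0 := by simp [w, hu, α, O.hg.symm e u, geu]
  have hww : g w w ≠ 0 := fun h0 => by
    obtain ⟨t, ht⟩ := Submodule.mem_span_singleton.1 (O.thin e w he he0 hwe h0)
    rw [← ht, map_smul, O.hg.symm e u, smul_eq_mul, mul_eq_zero, or_iff_left geu] at hwu
    rw [hwu, zero_smul] at ht
    have hveq : v = α • e + β • u := by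
      have : v - α • e - β • u = 0 := ht.symm
      linear_combination (norm := module) this
    rw [hveq] at hv
    simp only [map_add, map_smul, LinearMap.add_apply, LinearMap.smul_apply, smul_eq_mul, he, hu, O.hg.symm e u,
      mul_zero, add_zero, zero_add] at hv
    have hβ : β ≠ 0 := div_ne_zero gev geu
    have hα : α ≠ 0 := div_ne_zero guv geu
    exact mul_ne_zero O.two (mul_ne_zero (mul_ne_zero hα hβ) geu) (by linear_combination hv)
  have hBw : B w = μ • w := by
    simp only [w, map_sub, map_smul, hBe, hBu, hBv, ← hνρ, ← hμν]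
    module
  rcases mul_self_eq_one_iff.1 hμ with hμ1 | hμ1 <;> rw [hμ1] at hBe hBw hμν
  · rw [one_smul] at hBe hBw
    rw [← hμν, one_smul] at hBu
    obtain ⟨z, hz, hsv⟩ := O.inW_fix_two hB he he0 hBe hwe hww (by rw [hBw, sub_self]; exact zero_mem _)
    by_cases hzz : g z z = 0
    · obtain ⟨t, rfl⟩ := Submodule.mem_span_singleton.1 (O.thin e z he he0 hz hzz)
      exact h1 (LinearMap.ext fun x => by rw [hsv, sv_smul_self O.hg he]; rfl)
    · exact geu ((sv_fix_iff O.hg he he0 hz hzz u).1 (by rw [← hsv, hBu])).1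
  · rw [neg_one_smul] at hBe hBw
    exact O.no_neg hB he he0 hwe hww hBe (by rw [hBw, neg_add_cancel]; exact zero_mem _)

/-- An involution of the second factor fixes a singular line. -/
theorem involution_line {B : W →ₗ[F] W} (hB : InW K T B) (hBB : ∀ x, B (B x) = x) :
    ∃ e, g e e = 0 ∧ e ≠ 0 ∧ ∃ μ : F, B e = μ • e := by
  classical
  by_contra! hno
  have hg := O.hg
  have h2 := O.two
  have hB' := O.inW_iso hB
  obtain ⟨e, -, he0, he⟩ := hg.exists_isotropic (P := (⊤ : Submodule F W)) (by rw [finrank_top, O.dW]; omega)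
  have hBe : g (B e) (B e) = 0 := by rw [hB', he]
  set t := g e (B e)
  have ht : t ≠ 0 := fun h0 => by
    obtain ⟨s, hs⟩ := Submodule.mem_span_singleton.1 (O.thin e (B e) he he0 h0 hBe)
    exact hno e he he0 s hs.symm
  set u := t⁻¹ • B e
  have hu : g u u = 0 := by simp [u, hBe]
  have heu : g e u = 1 := by simp [u, t, ht]
  set v := e + B e
  set w := e - B e
  have hBv : B v = v := by simp [v, hBB]; abel
  have hBw : B w = -w := by simp [w, hBB]
  have hvv : g v v = 2 * t := by simp [v, he, hBe, t, hg.symm e (B e)]; ring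
  have hww : g w w = -(2 * t) := by simp [w, he, hBe, t, hg.symm e (B e)]; ring
  -- an eigenvector orthogonal to the pair
  obtain ⟨m, hm, hP⟩ := exists_aniso_perp hg (Submodule.span F ({e, u} : Set W)) (pair_nondeg hg he hu heu)
    (by have := CfsgLib.Geo.OrthTensor.span_pair_le (F := F) e u; rw [O.dW]; omega)
  have hme : g e m = 0 := hP e (Submodule.subset_span (Set.mem_insert _ _))
  have hmu : g u m = 0 := hP u (Submodule.subset_span (Set.mem_insert_of_mem _ rfl))
  have hBperp : ∀ x, g e x = 0 → g u x = 0 → g e (B x) = 0 ∧ g u (B x) = 0 := fun x h1 h3 => by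
    have h4 : g (B e) x = 0 := by
      have : t * g u x = 0 := by rw [h3, mul_zero]
      simpa [u, ht] using this
    have h5 : g e (B x) = 0 := by rw [← hB', hBB, h4]
    exact ⟨h5, by simp [u, hB', h1]⟩
  obtain ⟨m₀, ε, hε, hm₀, he₀, hu₀, hBm₀⟩ : ∃ (m₀ : W) (ε : F), (ε = 1 ∨ ε = -1) ∧ g m₀ m₀ ≠ 0 ∧ g e m₀ = 0 ∧
      g u m₀ = 0 ∧ B m₀ = ε • m₀ := by
    obtain ⟨k1, k2⟩ := hBperp m hme hmu
    by_cases h : g (m + B m) (m + B m) = 0
    · refine ⟨m - B m, -1, Or.inr rfl, fun h0 => hm ?_, by simp [hme, k1], by simp [hmu, k2], by simp [hBB]⟩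
      simp only [map_add, map_sub, LinearMap.add_apply, LinearMap.sub_apply, hB'] at h h0
      have h4 : (2 : F) * (2 * g m m) = 0 := by linear_combination h + h0
      simpa [h2] using h4
    · exact ⟨m + B m, 1, Or.inl rfl, h, by simp [hme, k1], by simp [hmu, k2], by simp [hBB, add_comm]⟩
  have hm₀0 : m₀ ≠ 0 := fun h => hm₀ (by simp [h])
  obtain ⟨n, hn, hnP⟩ := exists_aniso_perp hg (Submodule.span F (({e, u, m₀} : Finset W) : Set W)) (by
      intro x hx hxP
      simp only [Finset.coe_insert, Finset.coe_singleton, Submodule.mem_span_insert,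
        Submodule.mem_span_singleton] at hx
      obtain ⟨α, _, ⟨β, _, ⟨γ, rfl⟩, rfl⟩, rfl⟩ := hx
      have k1 := hxP e (Submodule.subset_span (by simp))
      have k2 := hxP u (Submodule.subset_span (by simp))
      have k3 := hxP m₀ (Submodule.subset_span (by simp))
      simp only [map_add, map_smul, smul_eq_mul, he, hu, heu, hg.symm e u, he₀, hu₀, hg.symm e m₀, hg.symm u m₀,
        mul_zero, mul_one, add_zero, zero_add, mul_eq_zero, hm₀, or_false] at k1 k2 k3
      simp [k1, k2, k3])
    (lt_of_le_of_lt ((finrank_span_finset_le_card _).trans Finset.card_le_three) (by rw [O.dW]; omega))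
  have hne : g e n = 0 := hnP e (Submodule.subset_span (by simp))
  have hnu : g u n = 0 := hnP u (Submodule.subset_span (by simp))
  have hnm : g m₀ n = 0 := hnP m₀ (Submodule.subset_span (by simp))
  have hexp : ∀ x, g e x = 0 → g u x = 0 → x = (g m₀ x / g m₀ m₀) • m₀ + (g n x / g n n) • n := fun x k1 k2 =>
    sub_eq_zero.1 (O.zero_of_frameW he he0 heu he₀ hne hnu hnm hm₀ hn (by simp [k1, he₀, hne])
      (by simp [k2, hu₀, hnu]) (by simp [hnm, hm₀]) (by simp [hg.symm m₀ n, hnm, hn]))
  have hεε : ε * ε = 1 := by rcases hε with rfl | rfl <;> ring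
  set δ := g n (B n) / g n n
  have hBn : B n = δ • n := by
    obtain ⟨k1, k2⟩ := hBperp n hne hnu
    have k3 : g m₀ (B n) = 0 := by
      rw [← hB', hBB, hBm₀, map_smul, LinearMap.smul_apply, hnm, smul_zero]
    have := hexp (B n) k1 k2
    rwa [k3, zero_div, zero_smul, zero_add] at this
  have hn0 : n ≠ 0 := fun h => hn (by simp [h])
  have hδ : δ * δ = 1 := by
    have h := congrArg B hBn
    rw [hBB, map_smul, hBn, smul_smul] at h
    exact smul_left_injective F hn0 (h.symm.trans (one_smul F n).symm)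
  obtain ⟨x, hxx, hBx, hxe, hxd⟩ : ∃ x, g x x ≠ 0 ∧ B x = ε • x ∧ g e x ≠ 0 ∧
      (∀ y, g e y = 0 → g u y = 0 → g x y = 0) := by
    have hBey : ∀ y, g u y = 0 → g (B e) y = 0 := fun y hy => by simpa [u, ht] using hy
    rcases hε with rfl | rfl
    · exact ⟨v, by rw [hvv]; exact mul_ne_zero h2 ht, by rw [one_smul, hBv], by simp [v, he, t] at ht ⊢; exact ht,
        fun y k1 k2 => by simp [v, k1, hBey y k2]⟩
    · exact ⟨w, by rw [hww]; exact neg_ne_zero.2 (mul_ne_zero h2 ht), by rw [neg_one_smul, hBw],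
        by simp [w, he, t] at ht ⊢; exact ht, fun y k1 k2 => by simp [w, k1, hBey y k2]⟩
  -- a singular vector in one eigenspace
  have mkiso : ∀ (x y : W) (η : F), g e x ≠ 0 → g e y = 0 → g x y = 0 → g x x + g y y = 0 → B x = η • x →
      B y = η • y → False := fun x y η k1 k2 k3 k4 k5 k6 => by
    refine hno (x + y) ?_ (fun h0 => k1 ?_) η (by rw [map_add, k5, k6, smul_add])
    · simp only [map_add, LinearMap.add_apply, k3, hg.symm x y]
      linear_combination k4
    · have := congrArg (g e) h0
      simpa [k2] using this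
  by_cases hδε : δ = ε
  · rw [hδε] at hBn
    obtain ⟨y, hy, hyP⟩ := hg.exists_norm_perp (Submodule.span F ({e, u} : Set W)) (pair_nondeg hg he hu heu)
      (by have := CfsgLib.Geo.OrthTensor.span_pair_le (F := F) e u; rw [O.dW]; omega) (c := -g x x)
      (neg_ne_zero.2 hxx)
    have k1 : g e y = 0 := hyP e (Submodule.subset_span (Set.mem_insert _ _))
    have k2 : g u y = 0 := hyP u (Submodule.subset_span (Set.mem_insert_of_mem _ rfl))
    refine mkiso x y ε hxe k1 (hxd y k1 k2) (by rw [hy, add_neg_cancel]) hBx ?_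
    rw [hexp y k1 k2, map_add, map_smul, map_smul, hBm₀, hBn]
    module
  -- the eigenvalues differ
  have hplane := O.plane_class he he0 he₀ hne hnm hm₀ hn
  have hδε' : δ = -ε := by
    rcases mul_self_eq_one_iff.1 hδ with h | h <;> rcases hε with h' | h' <;> rw [h, h'] at hδε ⊢ <;>
      first | exact absurd rfl hδε | ring
  obtain ⟨p, q, hBp, hBq, hp, hq, hep, heq, hup, huq, hpq⟩ : ∃ p q, B p = p ∧ B q = -q ∧ g p p ≠ 0 ∧ g q q ≠ 0 ∧
      g e p = 0 ∧ g e q = 0 ∧ g u p = 0 ∧ g u q = 0 ∧ ¬ IsSquare (-(g p p * g q q)) := by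
    rcases hε with rfl | rfl
    · exact ⟨m₀, n, by rw [hBm₀, one_smul], by rw [hBn, hδε', neg_one_smul], hm₀, hn, he₀, hne, hu₀, hnu, hplane⟩
    · exact ⟨n, m₀, by rw [hBn, hδε', neg_neg, one_smul], by rw [hBm₀, neg_one_smul], hn, hm₀, hne, he₀, hnu, hu₀,
        by rwa [mul_comm]⟩
  have hBey : ∀ y, g u y = 0 → g (B e) y = 0 := fun y hy => by simpa [u, ht] using hy
  rcases square_cases (a := -(2 * t) * g p p) (b := 2 * t * g q q)
      (mul_ne_zero (neg_ne_zero.2 (mul_ne_zero h2 ht)) hp) (mul_ne_zero (mul_ne_zero h2 ht) hq) (by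
        rintro ⟨s, hs⟩
        exact hpq ⟨s / (2 * t), by field_simp; linear_combination hs⟩) with ⟨s, hs⟩ | ⟨s, hs⟩
  · refine mkiso v ((s / g p p) • p) 1 ?_ (by simp [hep]) (by simp [v, hep, hBey p hup]) ?_ (by rw [one_smul, hBv])
      (by rw [map_smul, hBp, one_smul])
    · simp [v, he, t] at ht ⊢; exact ht
    · rw [hvv]
      simp only [map_smul, LinearMap.smul_apply, smul_eq_mul]
      field_simp
      linear_combination -hs
  · refine mkiso w ((s / g q q) • q) (-1) ?_ (by simp [heq]) (by simp [w, heq, hBey q huq]) ?_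
      (by rw [neg_one_smul, hBw]) (by rw [map_smul, hBq, neg_one_smul, smul_neg])
    · simp [w, he, t] at ht ⊢; exact ht
    · rw [hww]
      simp only [map_smul, LinearMap.smul_apply, smul_eq_mul]
      field_simp
      linear_combination -hs

end Four

end CfsgLib.Geo.OrthTensorFour
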