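/-
`O₃ ⊗ O₄⁻`: semisimple subgroups of the stabiliser have fewer than `q²` elements.
-/
import Cfsg.Agent.Lib.Geo.OrthTensorFour.Lines

set_option autoImplicit false
set_option linter.unusedSectionVars false

namespace CfsgLib.Geo.OrthTensorFour

open CfsgLib.Classical CfsgLib.Classical.Quad Module
open CfsgLib.Geo.MixTensor (SymForm)
open CfsgLib.Geo.OrthTensor (sv sv_apply exists_iso_partner exists_aniso_perp Tensor Tens)
open QuadraticMap (polar polarBilin)
open LinearMap (BilinForm)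

variable {F : Type*} [Field F] [Finite F] {U W V : Type*} [AddCommGroup U] [Module F U] [FiniteDimensional F U]
  [AddCommGroup W] [Module F W] [FiniteDimensional F W] [AddCommGroup V] [Module F V] [FiniteDimensional F V]
  {Q : QuadraticForm F V} {f : BilinForm F U} {g : BilinForm F W} {T : U →ₗ[F] W →ₗ[F] V}
  {K : Subgroup (OQ Q)}

/-- A subgroup is bounded by the orbit of a point and an injection of its stabiliser. -/
theorem card_le_fibre {G α β : Type*} [Group G] {S : Subgroup G} [Finite S] [Finite α] [Finite β] (φ : S → α)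
    (P : S → Prop) (h : ∀ s s', φ s = φ s' → P (s⁻¹ * s')) (ψ : {s : S // P s} → β) (hψ : Function.Injective ψ) :
    Nat.card S ≤ Nat.card α * Nat.card β := by
  classical
  let rep : S → S := fun s => Function.invFun φ (φ s)
  have hrep : ∀ s, φ (rep s) = φ s := fun s => Function.invFun_eq ⟨s, rfl⟩
  rw [← Nat.card_prod]
  refine Nat.card_le_card_of_injective (fun s => (φ s, ψ ⟨(rep s)⁻¹ * s, h _ _ (hrep s)⟩)) fun s s' hs => ?_
  obtain ⟨h1, h2⟩ := Prod.ext_iff.1 hs
  have h3 : (rep s)⁻¹ * s = (rep s')⁻¹ * s' := congrArg Subtype.val (hψ h2)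
  rw [show rep s = rep s' from congrArg (Function.invFun φ) h1] at h3
  exact mul_left_cancel h3

theorem card_option' {α : Type*} [Finite α] : Nat.card (Option α) = Nat.card α + 1 := by
  classical
  have := Fintype.ofFinite α
  simp [Nat.card_eq_fintype_card]

namespace Four

variable (O : Four Q f g T K) {p : ℕ} [Fact p.Prime] [CharP F p]
include O

/-- The factors of the elements of a subgroup of the stabiliser. -/
theorem exists_factors {S : Subgroup (OQ Q)} (hS : S ≤ O.H) :
    ∃ (A : S → U →ₗ[F] U) (B : S → W →ₗ[F] W),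
      (∀ s, InU K T (A s) ∧ InW K T (B s)) ∧
      (∀ (s : S) a y, ((s : OQ Q) : V ≃ₗ[F] V) (T a y) = T (A s a) (B s y)) ∧
      (∀ s s', A (s * s') = A s ∘ₗ A s' ∧ B (s * s') = B s ∘ₗ B s') ∧
      ∀ (s : S) (a : U) (y : W), A s⁻¹ (A s a) = a ∧ B s⁻¹ (B s y) = y := by
  choose A B hA hB e using fun s : S => O.exists_pair (hS s.2)
  have hmul : ∀ s s', A (s * s') = A s ∘ₗ A s' ∧ B (s * s') = B s ∘ₗ B s' := fun s s' =>
    O.prod_unique (hA _) ((hA s).mul (hA s')) (hB _) ((hB s).mul (hB s')) fun a y => by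
      rw [← e (s * s') a y]
      show ((s : OQ Q) : V ≃ₗ[F] V) (((s' : OQ Q) : V ≃ₗ[F] V) (T a y)) = _
      rw [e s', e s]
      rfl
  have hone : A 1 = LinearMap.id ∧ B 1 = LinearMap.id :=
    O.prod_unique (hA _) InU.one (hB _) InW.one fun a y => by
      rw [← e 1 a y]
      rfl
  refine ⟨A, B, fun s => ⟨hA s, hB s⟩, e, hmul, fun s a y => ?_⟩
  have h := hmul s⁻¹ s
  rw [inv_mul_cancel, hone.1, hone.2] at h
  exact ⟨(LinearMap.congr_fun h.1 a).symm, (LinearMap.congr_fun h.2 y).symm⟩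

theorem q_facts : Nat.card Fˣ = Nat.card F - 1 ∧ Odd (Nat.card F) ∧ p ∣ Nat.card F := by
  classical
  have := Fintype.ofFinite F
  refine ⟨Nat.card_units F, ?_, ?_⟩
  · rw [Nat.card_eq_fintype_card, Nat.odd_iff]
    refine FiniteField.odd_card_of_char_ne_two fun h => O.two ?_
    have := ringChar.eq_iff.1 h
    exact CharTwo.two_eq_zero
  · rw [Nat.card_eq_fintype_card]
    exact (CharP.cast_eq_zero_iff F p _).1 (FiniteField.cast_card_eq_zero F)

/-- The powers of an element of a semisimple subgroup. -/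
theorem subgroup_pow {S : Subgroup (OQ Q)} (s : S) : ((s : OQ Q)) ^ Nat.card S = 1 := by
  have := finite_OQ' Q
  have h : s ^ Nat.card S = 1 := pow_card_eq_one'
  exact_mod_cast congrArg Subtype.val h

theorem factor_pow {S : Subgroup (OQ Q)} {A : S → U →ₗ[F] U} {B : S → W →ₗ[F] W}
    (hin : ∀ s, InU K T (A s) ∧ InW K T (B s))
    (e : ∀ (s : S) a y, ((s : OQ Q) : V ≃ₗ[F] V) (T a y) = T (A s a) (B s y)) (s : S) :
    (A s : Module.End F U) ^ Nat.card S = 1 ∧ (B s : Module.End F W) ^ Nat.card S = 1 :=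
  O.prod_unique (O.inU_pow (hin s).1 _) InU.one (O.inW_pow (hin s).2 _) InW.one fun a y => by
    rw [← O.pair_pow (e s) (Nat.card S) a y, O.subgroup_pow s]
    rfl

theorem sq_bound {n : ℕ} (h : n ≤ (Nat.card F + 1) * (Nat.card F - 1)) : n < Nat.card F ^ 2 := by
  have h5 := O.five
  obtain ⟨q, hq⟩ : ∃ q, Nat.card F = q + 1 := ⟨Nat.card F - 1, by omega⟩
  rw [hq] at h ⊢
  simp only [Nat.add_sub_cancel] at h
  nlinarith

/-- **Semisimple subgroups without pure elements of the second factor.** -/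
theorem card_lt_no_pureW {S : Subgroup (OQ Q)} (hS : S ≤ O.H) (hp : ¬ p ∣ Nat.card S)
    (hpure : ∀ s ∈ S, ∀ B, PW T s B → s = 1) : Nat.card S < Nat.card F ^ 2 := by
  classical
  have hfin := finite_OQ' Q
  have := Fintype.ofFinite F
  obtain ⟨A, B, hin, e, hmul, hinv⟩ := O.exists_factors hS
  obtain ⟨d, -, hd0, hd⟩ := O.hf.exists_isotropic (P := (⊤ : Submodule F U)) (by rw [finrank_top, O.dU])
  obtain ⟨φ₀, hφ₀⟩ := O.param_U
  have hAd : ∀ s, f (A s d) (A s d) = 0 ∧ A s d ≠ 0 := fun s =>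
    ⟨by rw [O.inU_iso (hin s).1, hd], fun h => hd0 ((hinv s d 0).1.symm.trans (by rw [h, map_zero]))⟩
  let P : S → Prop := fun s => ∃ μ : Fˣ, A s d = (μ : F) • d
  have hfib : ∀ s s', φ₀ (A s d) = φ₀ (A s' d) → P (s⁻¹ * s') := fun s s' h => by
    obtain ⟨t, ht⟩ := hφ₀ _ _ (hAd s).1 (hAd s).2 (hAd s').1 (hAd s').2 h
    have ht0 : t ≠ 0 := fun h0 => (hAd s').2 (by rw [ht, h0, zero_smul])
    exact ⟨Units.mk0 t ht0, by rw [(hmul _ _).1, LinearMap.comp_apply, ht, map_smul, (hinv s d 0).1]; rfl⟩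
  have hinj : Function.Injective fun s : {s : S // P s} => s.2.choose := fun s s' h => by
    have h1 : A ((s : S)⁻¹ * (s' : S)) d = d := by
      have hs := s.2.choose_spec
      have hs' := s'.2.choose_spec
      have h2 : A s' d = A s d := by
        rw [hs, hs']
        exact congrArg (fun μ : Fˣ => (μ : F) • d) h.symm
      rw [(hmul _ _).1, LinearMap.comp_apply, h2, (hinv _ d 0).1]
    set t := (s : S)⁻¹ * (s' : S)
    obtain ⟨k, hk, ek⟩ := (hin t).1
    have hkn : k ^ Nat.card S = 1 := O.el_ext fun a y => by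
      rw [O.PU_pow ek _ a y, (O.factor_pow hin e t).1]
      rfl
    have hA1 := O.pfree_fix hk ek ⟨_, hp, hkn⟩ hd hd0 h1
    have ht1 : t = 1 := Subtype.ext (hpure _ t.2 (B t) fun a y => by rw [e, hA1]; rfl)
    exact Subtype.ext (inv_mul_eq_one.1 ht1)
  have h1 := card_le_fibre (fun s => φ₀ (A s d)) P hfib _ hinj
  rw [card_option', (O.q_facts (p := p)).1] at h1
  exact O.sq_bound h1

/-- **Semisimple subgroups centralising a semisimple element, without pure elements of the first factor.** -/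
theorem card_lt_no_pureU {S : Subgroup (OQ Q)} (hS : S ≤ O.H) (hp : ¬ p ∣ Nat.card S) {b : OQ Q} (hb : b ∈ K)
    {B₀ : W →ₗ[F] W} (eb : PW T b B₀) (hb1 : B₀ ≠ LinearMap.id) {r : ℕ} (hr : r.Prime) (hbr : b ^ r = 1)
    (hcomm : ∀ s ∈ S, Commute s b) (hpure : ∀ s ∈ S, ∀ A, PU T s A → s = 1) :
    Nat.card S < Nat.card F ^ 2 := by
  classical
  have hfin := finite_OQ' Q
  have := Fintype.ofFinite F
  have hg := O.hg
  obtain ⟨A, B, hin, e, hmul, hinv⟩ := O.exists_factors hS
  have hB₀ : InW K T B₀ := ⟨b, hb, eb⟩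
  have hBc : ∀ (s : S) y, B s (B₀ y) = B₀ (B s y) := fun s => by
    have h := O.prod_unique (hin s).1 (hin s).1 ((hin s).2.mul hB₀) (hB₀.mul (hin s).2) fun a y => by
      have h1 : ((s : OQ Q) : V ≃ₗ[F] V) ((b : V ≃ₗ[F] V) (T a y)) =
          (b : V ≃ₗ[F] V) (((s : OQ Q) : V ≃ₗ[F] V) (T a y)) := by
        show (((s : OQ Q) * b : OQ Q) : V ≃ₗ[F] V) (T a y) = ((b * (s : OQ Q) : OQ Q) : V ≃ₗ[F] V) (T a y)
        rw [(hcomm _ s.2).eq]
      rw [eb, e, e, eb] at h1
      exact h1
    exact fun y => LinearMap.congr_fun h.2 y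
  have hBn0 : ∀ (s : S) y, y ≠ 0 → B s y ≠ 0 := fun s y hy h => hy ((hinv s 0 y).2.symm.trans (by rw [h, map_zero]))
  have hpureB : ∀ t : S, B t = LinearMap.id → t = 1 := fun t ht =>
    Subtype.ext (hpure _ t.2 (A t) fun a y => by rw [e, ht]; rfl)
  have hqq := O.q_facts (p := p)
  by_cases hline : ∃ e₀, g e₀ e₀ = 0 ∧ e₀ ≠ 0 ∧ ∃ μ : F, B₀ e₀ = μ • e₀
  · -- a fixed line
    obtain ⟨e₀, he, he0, μ₀, hμ₀⟩ := hline
    obtain ⟨u, c, c', hu, heu, hc, hc', hec, huc, hec', huc', hcc⟩ := O.exists_frameW he he0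
    let P : S → Prop := fun s => ∃ t : F, B s e₀ = t • e₀
    have hPcard : Nat.card S ≤ Nat.card Bool * Nat.card {s : S // P s} := by
      refine card_le_fibre (fun s => decide (P s)) P (fun s s' h => ?_) id Function.injective_id
      simp only [decide_eq_decide] at h
      by_cases hs : P s
      · obtain ⟨t, ht⟩ := hs
        obtain ⟨t', ht'⟩ := h.1 ⟨t, ht⟩
        have ht0 : t ≠ 0 := fun h0 => hBn0 s e₀ he0 (by rw [ht, h0, zero_smul])
        refine ⟨t' / t, ?_⟩
        have h1 := (hinv s 0 e₀).2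
        rw [ht, map_smul] at h1
        rw [(hmul _ _).2, LinearMap.comp_apply, ht', map_smul, div_eq_mul_inv, mul_smul]
        congr 1
        rw [eq_inv_smul_iff₀ ht0]
        exact h1
      · have heig : ∀ s : S, B₀ (B s e₀) = μ₀ • B s e₀ := fun s => by rw [← hBc, hμ₀, map_smul]
        have hiso : ∀ s : S, g (B s e₀) (B s e₀) = 0 := fun s => by rw [O.inW_iso (hin s).2, he]
        rcases O.lines_le_two hB₀ hb1 he he0 (hiso s) (hBn0 s _ he0) (hiso s') (hBn0 s' _ he0) hμ₀ (heig s) (heig s')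
          (fun t ht => hs ⟨t, ht⟩) with ⟨t, ht⟩ | ⟨t, ht⟩
        · exact absurd (h.2 ⟨t, ht⟩) hs
        · exact ⟨t, by rw [(hmul _ _).2, LinearMap.comp_apply, ht, map_smul, (hinv s 0 e₀).2]⟩
    -- coordinates
    choose μ hμ using fun s : {s : S // P s} => s.2
    have hμ0 : ∀ s, μ s ≠ 0 := fun s h0 => hBn0 s.1 e₀ he0 (by rw [hμ, h0, zero_smul])
    have heB : ∀ s : {s : S // P s}, g e₀ (B s.1 c) = 0 := fun s => by
      have h1 := O.inW_iso (hin s.1).2 e₀ c
      rw [hμ, hec, map_smul, LinearMap.smul_apply, smul_eq_mul, mul_eq_zero] at h1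
      exact h1.resolve_left (hμ0 s)
    let α : {s : S // P s} → F := fun s => g c (B s.1 c) / g c c
    let β : {s : S // P s} → F := fun s => g c' (B s.1 c) / g c' c'
    have hcoord : ∀ s, B s.1 c - α s • c - β s • c' = g u (B s.1 c - α s • c - β s • c') • e₀ := fun s =>
      sub_eq_zero.1 (O.zero_of_frameW he he0 heu hec hec' huc' hcc hc hc'
        (by simp [heB s, hec, hec', he]) (by simp [hg.symm e₀ u, heu])
        (by simp [α, hcc, hc, hg.symm e₀ c, hec]) (by simp [β, hg.symm c c', hcc, hc', hg.symm e₀ c', hec']))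
    have hcirc : ∀ s, α s * α s * g c c + β s * β s * g c' c' = g c c := fun s => by
      have h1 := O.inW_iso (hin s.1).2 c c
      have h2 : B s.1 c = α s • c + β s • c' + g u (B s.1 c - α s • c - β s • c') • e₀ := by rw [← hcoord]; abel
      rw [h2] at h1
      simp only [map_add, map_smul, LinearMap.add_apply, LinearMap.smul_apply, smul_eq_mul, he, hcc, hg.symm c c',
        hg.symm e₀ c, hg.symm e₀ c', hec, hec', mul_zero, add_zero, zero_add] at h1
      linear_combination h1
    let circ : F × F → Option F := fun t => if t.1 = -1 then none else some (t.2 / (t.1 + 1))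
    have hcinj : ∀ x y x' y' : F, x * x * g c c + y * y * g c' c' = g c c →
        x' * x' * g c c + y' * y' * g c' c' = g c c → circ (x, y) = circ (x', y') → x = x' ∧ y = y' := by
      intro x y x' y' k k' h
      have zero : ∀ y : F, (-1 : F) * -1 * g c c + y * y * g c' c' = g c c → y = 0 := fun y h => by
        have : y * y * g c' c' = 0 := by linear_combination h
        simpa [hc'] using this
      by_cases h1 : x = -1 <;> by_cases h2 : x' = -1 <;> simp [circ, h1, h2] at h
      · subst h1; subst h2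
        exact ⟨rfl, (zero y k).trans (zero y' k').symm⟩
      · have hx : x + 1 ≠ 0 := fun h0 => h1 (eq_neg_of_add_eq_zero_left h0)
        have hx' : x' + 1 ≠ 0 := fun h0 => h2 (eq_neg_of_add_eq_zero_left h0)
        set τ := y / (x + 1)
        have hy : y = τ * (x + 1) := (div_mul_cancel₀ _ hx).symm
        have hy' : y' = τ * (x' + 1) := by rw [h]; exact (div_mul_cancel₀ _ hx').symm
        have hden : g c c + τ * τ * g c' c' ≠ 0 := fun h0 =>
          O.plane_class he he0 hec hec' hcc hc hc' ⟨τ * g c' c', by linear_combination -(g c' c') * h0⟩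
        have e1 : ∀ x y : F, x * x * g c c + y * y * g c' c' = g c c → x + 1 ≠ 0 → y = τ * (x + 1) →
            x * (g c c + τ * τ * g c' c') = g c c - τ * τ * g c' c' := fun x y k hx hy => by
          rw [hy] at k
          refine mul_left_cancel₀ hx ?_
          linear_combination k
        have hxx : x = x' := mul_right_cancel₀ hden ((e1 x y k hx hy).trans (e1 x' y' k' hx' hy').symm)
        exact ⟨hxx, by rw [hy, hy', hxx]⟩
    let σ : Bool → F := fun b => if b then 1 else -1
    have hσ : ∀ b, σ b * σ b = 1 := fun b => by cases b <;> simp [σ]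
    let ψ : {s : S // P s} × Bool → Fˣ × Option F := fun t =>
      (Units.mk0 (σ t.2 * μ t.1) (mul_ne_zero (fun h => by simpa [h] using hσ t.2) (hμ0 t.1)),
        circ (σ t.2 * α t.1, σ t.2 * β t.1))
    have hψ : Function.Injective ψ := by
      rintro ⟨s, b₁⟩ ⟨s', b₂⟩ h
      obtain ⟨h1, h2⟩ := Prod.ext_iff.1 h
      have h1' : σ b₁ * μ s = σ b₂ * μ s' := congrArg Units.val h1
      obtain ⟨hα, hβ⟩ := hcinj (σ b₁ * α s) (σ b₁ * β s) (σ b₂ * α s') (σ b₂ * β s')
        (by linear_combination hcirc s + (α s * α s * g c c + β s * β s * g c' c') * hσ b₁)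
        (by linear_combination hcirc s' + (α s' * α s' * g c c + β s' * β s' * g c' c') * hσ b₂) h2
      set t := (s.1)⁻¹ * s'.1
      set τ := σ b₁ * σ b₂
      have hμ' : μ s' = τ * μ s := by linear_combination -σ b₂ * h1' - μ s' * hσ b₂
      have hα' : α s' = τ * α s := by linear_combination -σ b₂ * hα - α s' * hσ b₂
      have hβ' : β s' = τ * β s := by linear_combination -σ b₂ * hβ - β s' * hσ b₂
      have hte : B t e₀ = τ • e₀ := by
        rw [(hmul _ _).2, LinearMap.comp_apply, hμ s', hμ', mul_smul, ← hμ s, map_smul, (hinv s.1 0 e₀).2]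
      have hinvE : B (s.1)⁻¹ e₀ = (μ s)⁻¹ • e₀ := by
        have h3 := (hinv s.1 0 e₀).2
        rw [hμ s, map_smul] at h3
        rw [eq_inv_smul_iff₀ (hμ0 s)]
        exact h3
      have htc : B t c - τ • c ∈ Submodule.span F {e₀} := by
        have h4 : B s'.1 c - τ • B s.1 c ∈ Submodule.span F {e₀} := by
          have h5 : B s'.1 c - τ • B s.1 c = (B s'.1 c - α s' • c - β s' • c') - τ • (B s.1 c - α s • c - β s • c') := by
            rw [hα', hβ']; module
          rw [h5, hcoord s', hcoord s]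
          exact Submodule.sub_mem _ (Submodule.smul_mem _ _ (Submodule.mem_span_singleton_self _))
            (Submodule.smul_mem _ _ (Submodule.smul_mem _ _ (Submodule.mem_span_singleton_self _)))
        obtain ⟨k, hk⟩ := Submodule.mem_span_singleton.1 h4
        refine Submodule.mem_span_singleton.2 ⟨k * (μ s)⁻¹, ?_⟩
        have h6 : B (s.1)⁻¹ (B s'.1 c - τ • B s.1 c) = B t c - τ • c := by
          rw [map_sub, map_smul, (hinv s.1 0 c).2, ← LinearMap.comp_apply, ← (hmul _ _).2]
        rw [← h6, ← hk, map_smul, hinvE, smul_smul]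
      have hb12 : b₁ = b₂ := by
        by_contra hne
        have hτ : τ = -1 := by cases b₁ <;> cases b₂ <;> simp [τ, σ] at hne ⊢
        rw [hτ, neg_one_smul] at hte
        rw [hτ, neg_one_smul, sub_neg_eq_add] at htc
        exact O.no_neg (hin t).2 he he0 hec hc hte htc
      have hτ : τ = 1 := by rw [show τ = σ b₁ * σ b₁ by simp [τ, hb12], hσ]
      rw [hτ, one_smul] at hte htc
      have ht1 := hpureB t (O.pfree_fixW (p := p) (hin t).2 hp (O.factor_pow hin e t).2 he he0 hec hc hte htc)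
      exact Prod.ext (Subtype.ext (inv_mul_eq_one.1 ht1)) hb12
    have h1 := Nat.card_le_card_of_injective ψ hψ
    have hbool : Nat.card Bool = 2 := by rw [Nat.card_eq_fintype_card, Fintype.card_bool]
    rw [Nat.card_prod, Nat.card_prod, card_option', hqq.1, hbool] at h1
    rw [hbool] at hPcard
    refine O.sq_bound ?_
    nlinarith
  -- no fixed line
  push Not at hline
  obtain ⟨φ₀, hφ₀⟩ := O.param_W
  obtain ⟨e₁, -, he10, he1⟩ := hg.exists_isotropic (P := (⊤ : Submodule F W)) (by rw [finrank_top, O.dW]; omega)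
  have hBr : (B₀ : Module.End F W) ^ r = 1 := O.PW_unique (O.PW_pow eb r) (hbr.symm ▸ fun _ _ => rfl)
  have hr2 : r ≠ 2 := fun h => by
    rw [h, pow_two] at hBr
    obtain ⟨e₀, he, he0, μ, hμ⟩ := O.involution_line hB₀ fun x => LinearMap.congr_fun hBr x
    exact hline e₀ he he0 μ hμ
  have hfree : ∀ t : S, ∀ x, g x x = 0 → x ≠ 0 → (∃ μ : F, B t x = μ • x) → t = 1 := by
    rintro t x hx hx0 ⟨μ, hμ⟩
    by_contra ht
    have hBt : B t ≠ LinearMap.id := fun h => ht (hpureB t h)
    set x' := B₀ x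
    have hx' : g x' x' = 0 := by rw [O.inW_iso hB₀, hx]
    have hx'0 : x' ≠ 0 := fun h => hline x hx hx0 0 (by rw [zero_smul]; exact h)
    have hx'' : g (B₀ x') (B₀ x') = 0 := by rw [O.inW_iso hB₀, hx']
    have hx''0 : B₀ x' ≠ 0 := fun h => hline x' hx' hx'0 0 (by rw [zero_smul]; exact h)
    have e1 : B t x' = μ • x' := by rw [hBc, hμ, map_smul]
    have e2 : B t (B₀ x') = μ • B₀ x' := by rw [hBc, e1, map_smul]
    rcases O.lines_le_two (hin t).2 hBt hx hx0 hx' hx'0 hx'' hx''0 hμ e1 e2 (fun s hs => hline x hx hx0 s hs) with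
      ⟨ν, hν⟩ | ⟨ν, hν⟩
    swap
    · exact hline x' hx' hx'0 ν hν
    have heven : ∀ m : ℕ, ((B₀ : Module.End F W) ^ (2 * m)) x = ν ^ m • x := by
      intro m
      induction m with
      | zero => simp
      | succ m ih =>
        rw [show 2 * (m + 1) = 2 * m + 2 by ring, pow_add, Module.End.mul_apply, pow_two, Module.End.mul_apply,
          hν, map_smul, ih, smul_smul, pow_succ']
    obtain ⟨m, hm⟩ := hr.odd_of_ne_two hr2
    have h := LinearMap.congr_fun hBr x
    rw [hm, pow_succ', Module.End.mul_apply, heven, map_smul, Module.End.one_apply] at h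
    have hνm : ν ^ m ≠ 0 := fun h0 => hx0 (by rw [← h, h0, zero_smul])
    exact hline x hx hx0 (ν ^ m)⁻¹ (by rw [eq_inv_smul_iff₀ hνm]; exact h)
  have hinj : Function.Injective fun s : S => φ₀ (B s e₁) := fun s s' h => by
    obtain ⟨t, ht⟩ := hφ₀ _ _ (by rw [O.inW_iso (hin s).2, he1]) (hBn0 s _ he10)
      (by rw [O.inW_iso (hin s').2, he1]) (hBn0 s' _ he10) h
    exact inv_mul_eq_one.1 (hfree (s⁻¹ * s') e₁ he1 he10
      ⟨t, by rw [(hmul _ _).2, LinearMap.comp_apply, ht, map_smul, (hinv s 0 e₁).2]⟩)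
  have h1 := Nat.card_le_card_of_injective _ hinj
  rw [card_option', Nat.card_prod] at h1
  have hodd : ¬ 2 ∣ Nat.card S := fun h2 => by
    have : Fact (Nat.Prime 2) := ⟨Nat.prime_two⟩
    obtain ⟨s, hs⟩ := exists_prime_orderOf_dvd_card' 2 h2
    have hs2 : s * s = 1 := by rw [← pow_two, ← hs, pow_orderOf_eq_one]
    have hss : B s ∘ₗ B s = LinearMap.id := by
      rw [← (hmul s s).2, hs2]
      exact (O.prod_unique (hin 1).1 InU.one (hin 1).2 InW.one fun a y => by rw [← e 1 a y]; rfl).2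
    obtain ⟨x, hx, hx0, μ, hμ⟩ := O.involution_line (hin s).2 fun y => LinearMap.congr_fun hss y
    rw [hfree s x hx hx0 ⟨μ, hμ⟩, orderOf_one] at hs
    omega
  obtain ⟨k, hk⟩ := hqq.2.1
  rw [pow_two]
  rcases lt_trichotomy (Nat.card S) (Nat.card F * Nat.card F) with h | h | h
  · exact h
  · exact absurd (h ▸ (hqq.2.2.mul_right _)) hp
  · exfalso
    refine hodd ⟨2 * k * k + 2 * k + 1, ?_⟩
    have : Nat.card S = Nat.card F * Nat.card F + 1 := by omega
    rw [this, hk]
    ring

end Four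

end CfsgLib.Geo.OrthTensorFour
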