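/-
`O₃ ⊗ O₄⁻`: every element of an overgroup without central elements is a product.
-/
import Cfsg.Agent.Lib.Geo.OrthTensorFour.Bound

set_option autoImplicit false
set_option linter.unusedSectionVars false

namespace CfsgLib.Geo.OrthTensorFour

open CfsgLib.Classical CfsgLib.Classical.Quad Module
open CfsgLib.Geo.MixTensor (SymForm)
open CfsgLib.Geo.OrthTensor (Tensor Tens exists_iso_partner exists_aniso_perp)
open QuadraticMap (polar polarBilin)
open LinearMap (BilinForm)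

variable {F : Type*} [Field F] [Finite F] {U W V : Type*} [AddCommGroup U] [Module F U] [FiniteDimensional F U]
  [AddCommGroup W] [Module F W] [FiniteDimensional F W] [AddCommGroup V] [Module F V] [FiniteDimensional F V]
  {Q : QuadraticForm F V} {f : BilinForm F U} {g : BilinForm F W} {T : U →ₗ[F] W →ₗ[F] V}
  {K : Subgroup (OQ Q)}

local notation "reflU" => MixTensor.refl f

/-- **Counting involutions that fix a single coset.** -/
theorem top_of_count {G : Type*} [Group G] [Finite G] (L : Subgroup G) (I : Finset G)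
    (hI : ∀ ρ ∈ I, ρ ∈ L ∧ ρ * ρ = 1) (hfix : ∀ k : G, ∀ ρ ∈ I, k⁻¹ * ρ * k ∈ L → k ∈ L)
    (hbound : ∀ k : G, k ∉ L → ∀ S : Subgroup G, (∀ s ∈ S, s ∈ L ∧ k⁻¹ * s * k ∈ L) → Nat.card S < I.card) :
    L = ⊤ := by
  classical
  have := Fintype.ofFinite (G ⧸ L)
  let α : G ⧸ L := QuotientGroup.mk 1
  have hstab : ∀ (x : G) (β : G ⧸ L), x • β = β ↔ β.out⁻¹ * x * β.out ∈ L := fun x β => by
    conv_lhs => rw [← QuotientGroup.out_eq' β, MulAction.Quotient.smul_mk, QuotientGroup.eq, smul_eq_mul]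
    rw [← inv_mem_iff]
    simp [mul_assoc]
  have hα : ∀ x : G, x • α = α ↔ x ∈ L := fun x => by
    rw [MulAction.Quotient.smul_mk, QuotientGroup.eq, smul_eq_mul, mul_one, mul_one, inv_mem_iff]
  let J : (G ⧸ L) × G → G := fun t => t.1.out * t.2 * t.1.out⁻¹
  have huniq : ∀ (β γ : G ⧸ L) (ρ : G), ρ ∈ I → J (β, ρ) • γ = γ → γ = β := fun β γ ρ hρ h => by
    have h1 := (hstab _ γ).1 h
    have h2 := hfix (β.out⁻¹ * γ.out) ρ hρ (by simpa [J, mul_assoc] using h1)
    rw [← QuotientGroup.out_eq' γ, ← QuotientGroup.out_eq' β, eq_comm, QuotientGroup.eq]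
    exact h2
  have hfixβ : ∀ (β : G ⧸ L) (ρ : G), ρ ∈ I → J (β, ρ) • β = β := fun β ρ hρ =>
    (hstab _ β).2 (by simpa [J, mul_assoc] using (hI ρ hρ).1)
  set D : Finset (G ⧸ L) := Finset.univ.erase α
  have hJinj : Set.InjOn J ((D ×ˢ I : Finset ((G ⧸ L) × G)) : Set ((G ⧸ L) × G)) := by
    rintro ⟨β, ρ⟩ ht ⟨β', ρ'⟩ ht' h
    rw [Finset.mem_coe, Finset.mem_product] at ht ht'
    have hβ : β' = β := huniq β β' ρ ht.2 (by rw [h]; exact hfixβ β' ρ' ht'.2)
    subst hβ
    simp only [J, mul_left_inj, mul_right_inj] at h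
    rw [h]
  set X := (D ×ˢ I).image J
  have hXcard : X.card = D.card * I.card := by rw [Finset.card_image_of_injOn hJinj, Finset.card_product]
  have hmap : ∀ x ∈ X, x • α ∈ D ∧ x * x = 1 := fun x hx => by
    obtain ⟨⟨β, ρ⟩, ht, rfl⟩ := Finset.mem_image.1 hx
    rw [Finset.mem_product] at ht
    refine ⟨Finset.mem_erase.2 ⟨fun h => (Finset.mem_erase.1 ht.1).1 (huniq β α ρ ht.2 h).symm, Finset.mem_univ _⟩, ?_⟩
    show β.out * ρ * β.out⁻¹ * (β.out * ρ * β.out⁻¹) = 1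
    have h2 := (hI ρ ht.2).2
    rw [show β.out * ρ * β.out⁻¹ * (β.out * ρ * β.out⁻¹) = β.out * (ρ * ρ) * β.out⁻¹ by group, h2, mul_one,
      mul_inv_cancel]
  have hfibre : ∀ δ ∈ D, {x ∈ X | x • α = δ}.card + 1 ≤ I.card := by
    intro δ hδ
    set k := δ.out
    have hk : k ∉ L := fun hkL => (Finset.mem_erase.1 hδ).1 (by
      rw [← QuotientGroup.out_eq' δ, eq_comm, QuotientGroup.eq]
      simpa using hkL)
    let S : Subgroup G := L ⊓ MulAction.stabilizer G δ
    have hS : ∀ s : G, s ∈ S → s ∈ L ∧ k⁻¹ * s * k ∈ L := fun s hs => ⟨hs.1, (hstab s δ).1 hs.2⟩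
    have h1 := hbound k hk S hS
    rcases ({x ∈ X | x • α = δ} : Finset G).eq_empty_or_nonempty with he | ⟨x₀, hx₀⟩
    · rw [he, Finset.card_empty]
      omega
    obtain ⟨hx₀X, hx₀α⟩ := Finset.mem_filter.1 hx₀
    have hle : {x ∈ X | x • α = δ}.card ≤ Nat.card S := by
      have := Fintype.ofFinite S
      rw [Nat.card_eq_fintype_card, ← Finset.card_univ]
      have hswap : ∀ x ∈ X, x • α = δ → x • δ = α := fun x hx h => by
        rw [← h, smul_smul, (hmap x hx).2, one_smul]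
      refine Finset.card_le_card_of_injOn
        (fun x => if h : x₀ * x ∈ S then (⟨x₀ * x, h⟩ : S) else 1) (fun _ _ => Finset.mem_univ _) ?_
      have hmem : ∀ x ∈ ({x ∈ X | x • α = δ} : Finset G), x₀ * x ∈ S := fun x hx => by
        obtain ⟨hxX, hxα⟩ := Finset.mem_filter.1 hx
        exact ⟨(hα _).1 (by rw [mul_smul, hxα, hswap x₀ hx₀X hx₀α]),
          show (x₀ * x) • δ = δ by rw [mul_smul, hswap x hxX hxα, hx₀α]⟩
      intro x hx y hy h
      have hx' := hmem x (Finset.mem_coe.1 hx)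
      have hy' := hmem y (Finset.mem_coe.1 hy)
      simp only [dif_pos hx', dif_pos hy', Subtype.mk.injEq, mul_right_inj] at h
      exact h
    omega
  have hD : D.card = 0 := by
    by_contra hD
    have h1 : X.card ≤ D.card * (I.card - 1) := by
      rw [mul_comm]
      refine Finset.card_le_mul_card_image_of_maps_to (fun x hx => (hmap x hx).1) (I.card - 1) fun δ hδ => ?_
      have := hfibre δ hδ
      omega
    obtain ⟨δ, hδ⟩ := Finset.card_pos.1 (Nat.pos_of_ne_zero hD)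
    have h2 := hfibre δ hδ
    rw [hXcard] at h1
    have := Nat.le_of_mul_le_mul_left h1 (Nat.pos_of_ne_zero hD)
    omega
  refine eq_top_iff.2 fun x _ => (hα x).1 ?_
  by_contra hne
  exact Finset.card_ne_zero.2 ⟨x • α, Finset.mem_erase.2 ⟨hne, Finset.mem_univ _⟩⟩ hD

namespace Four

variable (O : Four Q f g T K)
include O

/-- The half turns. -/
theorem exists_half_turns : ∃ I : Finset (OQ Q), Nat.card F ^ 2 ≤ I.card ∧
    ∀ ρ ∈ I, ρ ∈ O.H ∧ ρ ^ 2 = 1 ∧ ∃ c, f c c ≠ 0 ∧ PU T ρ (-reflU c) := by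
  classical
  obtain ⟨p, hprime, hchar⟩ := O.exists_char
  have := Fact.mk hprime
  have := Fintype.ofFinite F
  have := O.ntW
  have hf := O.hf
  have h2 := O.two
  obtain ⟨d, -, hd0, hd⟩ := hf.exists_isotropic (P := (⊤ : Submodule F U)) (by rw [finrank_top, O.dU])
  obtain ⟨e, hee, hde, z, hz, hdz, hez⟩ := O.exists_aniso_orthU hd hd0
  have hed : f e d = 1 := by rw [hf.symm, hde]
  let c : F × F → U := fun t => if 2 * t.1 * t.2 + f z z = 0 then d + t.1 • e else t.1 • d + z + t.2 • e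
  have hne : ∀ t : F × F, 2 * t.1 * t.2 + f z z = 0 → t.1 ≠ 0 := fun t h h0 => hz (by
    rw [h0] at h
    linear_combination h)
  have hc : ∀ t, f (c t) (c t) ≠ 0 := fun t => by
    simp only [c]
    split_ifs with h
    · simp [hd, hee, hde, hed]
      exact fun h0 => hne t h ((mul_eq_zero.1 (show (2 : F) * t.1 = 0 by linear_combination h0)).resolve_left h2)
    · simp only [map_add, map_smul, LinearMap.add_apply, LinearMap.smul_apply, smul_eq_mul, hd, hee, hde, hed, hdz,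
        hez, hf.symm d z, hf.symm e z]
      exact fun h0 => h (by linear_combination h0)
  choose ρ hρH hρe hρ2 _ _ using fun t => O.half_turn (p := p) (hc t)
  have hcinj : ∀ t t' : F × F, (∃ s : F, c t' = s • c t) → t = t' := by
    rintro ⟨a, b⟩ ⟨a', b'⟩ ⟨s, hs⟩
    have k1 := congrArg (f z) hs
    have k2 := congrArg (f e) hs
    have k3 := congrArg (f d) hs
    by_cases h : 2 * a * b + f z z = 0 <;> by_cases h' : 2 * a' * b' + f z z = 0 <;>
      simp [c, h, h', hd, hee, hde, hed, hdz, hez, hf.symm d z, hf.symm e z, hz] at k1 k2 k3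
    · subst k2
      rw [one_mul] at k3
      subst k3
      have ha := hne (a', b) h
      have hb : b = b' := mul_left_cancel₀ (mul_ne_zero h2 ha) (by linear_combination h - h')
      rw [hb]
    · exact absurd k2 (by rw [k1]; simp)
    · subst k1
      rw [one_mul] at k2 k3
      subst k2; subst k3
      rfl
  have hinj : Function.Injective ρ := fun t t' h => hcinj t t' (by
    have h1 : -reflU (c t) = -reflU (c t') := O.PU_unique (hρe t) (h ▸ hρe t')
    have h3 := LinearMap.congr_fun (neg_injective h1) (c t')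
    rw [MixTensor.refl_apply, MixTensor.refl_apply, div_mul_cancel₀ _ (hc t')] at h3
    refine ⟨f (c t) (c t') / f (c t) (c t), smul_right_injective U h2 ?_⟩
    show (2 : F) • c t' = (2 : F) • (f (c t) (c t') / f (c t) (c t)) • c t
    rw [smul_smul, show (2 : F) * (f (c t) (c t') / f (c t) (c t)) = 2 / f (c t) (c t) * f (c t) (c t') by ring]
    linear_combination (norm := module) h3)
  refine ⟨Finset.univ.image ρ, ?_, fun x hx => ?_⟩
  · rw [Finset.card_image_of_injective _ hinj, Finset.card_univ, Fintype.card_prod, pow_two,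
      Nat.card_eq_fintype_card]
  · obtain ⟨t, -, rfl⟩ := Finset.mem_image.1 hx
    exact ⟨hρH t, hρ2 t, c t, hc t, hρe t⟩

/-- The counting inside a subgroup. -/
theorem le_H_of_bound {C : Subgroup (OQ Q)} (hC : C ≤ K)
    (hturn : ∀ ρ : OQ Q, ∀ c, f c c ≠ 0 → ρ ∈ K → PU T ρ (-reflU c) → ρ ∈ C)
    (hbound : ∀ k ∈ C, k ∉ O.H → ∀ S : Subgroup (OQ Q), S ≤ C → S ≤ O.H → (∀ s ∈ S, k⁻¹ * s * k ∈ O.H) →
      Nat.card S < Nat.card F ^ 2) : C ≤ O.H := by
  classical
  have := finite_OQ' Q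
  obtain ⟨I₀, hn, hI₀⟩ := O.exists_half_turns
  have hIC : ∀ ρ ∈ I₀, ρ ∈ C := fun ρ hρ => by
    obtain ⟨hH, -, c, hc, e⟩ := hI₀ ρ hρ
    exact hturn ρ c hc hH.1 e
  let I : Finset C := I₀.attach.image fun ρ : {x // x ∈ I₀} => (⟨(ρ : OQ Q), hIC ρ ρ.2⟩ : C)
  have hIcard : I.card = I₀.card := by
    have hinj : Function.Injective fun ρ : {x // x ∈ I₀} => (⟨(ρ : OQ Q), hIC ρ ρ.2⟩ : C) := fun a b h =>
      Subtype.ext (congrArg (fun x : C => (x : OQ Q)) h)
    exact (Finset.card_image_of_injective I₀.attach hinj).trans Finset.card_attach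
  have hI : ∀ ρ ∈ I, (ρ : OQ Q) ∈ I₀ := fun ρ hρ => by
    obtain ⟨x, -, rfl⟩ := Finset.mem_image.1 hρ
    exact x.2
  have htop := top_of_count (O.H.subgroupOf C) I
    (fun ρ hρ => ⟨Subgroup.mem_subgroupOf.2 (hI₀ _ (hI ρ hρ)).1,
      Subtype.ext (by rw [← pow_two]; exact (hI₀ _ (hI ρ hρ)).2.1)⟩)
    (fun k ρ hρ h => by
      obtain ⟨hH, -, c, hc, e⟩ := hI₀ _ (hI ρ hρ)
      exact Subgroup.mem_subgroupOf.2 ⟨hC k.2,
        O.tens_of_half_turn (hC k.2) hc hH.1 e (Subgroup.mem_subgroupOf.1 h)⟩)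
    fun k hk S hS => by
      have h1 := hbound (k : OQ Q) k.2 (fun h => hk (Subgroup.mem_subgroupOf.2 h)) (S.map C.subtype)
        (Subgroup.map_subtype_le S) (by
          rintro _ ⟨s, hs, rfl⟩
          exact Subgroup.mem_subgroupOf.1 (hS s hs).1) (by
          rintro _ ⟨s, hs, rfl⟩
          exact Subgroup.mem_subgroupOf.1 (hS s hs).2)
      rw [Nat.card_congr (Subgroup.equivMapOfInjective S C.subtype C.subtype_injective).toEquiv]
      omega
  exact fun x hx => Subgroup.mem_subgroupOf.1 (htop ▸ Subgroup.mem_top (⟨x, hx⟩ : C))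

variable {p : ℕ} [Fact p.Prime] [CharP F p]

/-- An element moved by the group conjugates semisimple subgroups only. -/
theorem pfree_of_not {k : OQ Q} (hk : k ∈ K) (hkH : k ∉ O.H) {S : Subgroup (OQ Q)} (hS : S ≤ O.H)
    (hc : ∀ s ∈ S, k⁻¹ * s * k ∈ O.H) : ¬ p ∣ Nat.card S := fun h => by
  have := finite_OQ' Q
  obtain ⟨s, hs⟩ := exists_prime_orderOf_dvd_card' p h
  refine hkH ⟨hk, O.tens_of_order_p (p := p) hk (hS s.2) ?_ ?_ (hc _ s.2)⟩
  · rw [← hs, ← Subgroup.orderOf_coe, pow_orderOf_eq_one]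
  · intro h1
    have h2 : orderOf (s : OQ Q) = p := by rw [Subgroup.orderOf_coe, hs]
    rw [h1, orderOf_one] at h2
    exact (Fact.out : p.Prime).one_lt.ne h2

/-- **The centraliser of a semisimple element of the second factor.** -/
theorem comm_semiW {y b : OQ Q} (hy : y ∈ K) (hb : b ∈ K) {B : W →ₗ[F] W} (eb : PW T b B)
    (hB : B ≠ LinearMap.id) {r : ℕ} (hr : r.Prime) (hbr : b ^ r = 1) (hc : Commute y b) : Tens T y := by
  obtain ⟨p, hprime, hchar⟩ := O.exists_char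
  have := Fact.mk hprime
  have hmem : ∀ {k : OQ Q}, k ∈ K ⊓ Subgroup.centralizer {b} ↔ k ∈ K ∧ Commute k b := fun {k} => by
    simp only [Subgroup.mem_inf, Subgroup.mem_centralizer_iff, Set.mem_singleton_iff, forall_eq]
    exact and_congr_right fun _ => eq_comm
  refine (O.le_H_of_bound (C := K ⊓ Subgroup.centralizer {b}) inf_le_left ?_ ?_ (hmem.2 ⟨hy, hc⟩)).2
  · intro ρ c _ hρ eρ
    refine hmem.2 ⟨hρ, O.el_ext fun a v => ?_⟩
    show (ρ : V ≃ₗ[F] V) ((b : V ≃ₗ[F] V) (T a v)) = (b : V ≃ₗ[F] V) ((ρ : V ≃ₗ[F] V) (T a v))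
    rw [eb, eρ, eρ, eb]
  · intro k hk hkH S hSC hS hconj
    have hp := O.pfree_of_not (p := p) (hmem.1 hk).1 hkH hS hconj
    refine O.card_lt_no_pureU (p := p) hS hp hb eb hB hr hbr (fun s hs => (hmem.1 (hSC hs)).2) ?_
    intro s hs A eA
    by_contra h1
    refine hkH ⟨(hmem.1 hk).1, O.tens_of_semiU (p := p) (hmem.1 hk).1 (hS hs).1 eA
      ⟨_, hp, O.subgroup_pow (⟨s, hs⟩ : S)⟩ ?_ (hconj s hs)⟩
    exact fun hA => h1 (O.el_ext fun a v => by rw [eA, hA]; rfl)

/-- **Semisimple elements of the second factor are not fused to the outside.** -/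
theorem tens_of_semiW {k b : OQ Q} (hk : k ∈ K) (hb : b ∈ K) {B : W →ₗ[F] W} (eb : PW T b B)
    (hB : B ≠ LinearMap.id) {r : ℕ} (hr : r.Prime) (hrp : r ≠ p) (hbr : b ^ r = 1) (h : k⁻¹ * b * k ∈ O.H) :
    Tens T k := by
  classical
  have := finite_OQ' Q
  set h' := k⁻¹ * b * k with hh'
  have hh'r : h' ^ r = 1 := by
    rw [hh', show k⁻¹ * b * k = k⁻¹ * b * k⁻¹⁻¹ by rw [inv_inv], conj_pow, hbr, mul_one, mul_inv_cancel]
  obtain ⟨A', B', hA', hB', e⟩ := O.exists_pair h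
  have hpr : ¬ p ∣ r := fun hd => hrp ((Nat.prime_dvd_prime_iff_eq (Fact.out : p.Prime) hr).1 hd).symm
  by_cases hA'1 : A' = LinearMap.id
  · have hB'1 : B' ≠ LinearMap.id := fun hB'1 => by
      have h1 : k⁻¹ * b * k = 1 := O.el_ext fun a v => by rw [← hh', e, hA'1, hB'1]; rfl
      rw [mul_assoc, inv_mul_eq_one, eq_comm, mul_eq_right] at h1
      exact hB (O.PW_unique eb (h1 ▸ fun _ _ => rfl))
    have eh : PW T h' B' := fun a v => by rw [e, hA'1]; rfl
    obtain ⟨d, -, hd0, hd⟩ := O.hf.exists_isotropic (P := (⊤ : Submodule F U)) (by rw [finrank_top, O.dU])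
    obtain ⟨u, -, hdu, z, hz, hdz, -⟩ := O.exists_aniso_orthU hd hd0
    obtain ⟨σ, hσK, eσ⟩ := O.inU_siegel hd hdz hz
    have hσb : Commute σ b := O.el_ext fun a v => by
      show (σ : V ≃ₗ[F] V) ((b : V ≃ₗ[F] V) (T a v)) = (b : V ≃ₗ[F] V) ((σ : V ≃ₗ[F] V) (T a v))
      rw [eb, eσ, eσ, eb]
    have hyK : k⁻¹ * σ * k ∈ K := K.mul_mem (K.mul_mem (K.inv_mem hk) hσK) hk
    have hy : Tens T (k⁻¹ * σ * k) := O.comm_semiW hyK h.1 eh hB'1 hr hh'r (by
      have h2 := Commute.map hσb (MulAut.conj k⁻¹).toMonoidHom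
      simpa [hh', mul_assoc] using h2)
    refine O.tens_of_order_p (p := p) (h := σ) hk ⟨hσK, OrthTensor.sv f d z, LinearMap.id, eσ⟩
      (O.el_ext fun a v => by rw [O.PU_pow eσ p a v, O.svU_p (p := p) hd hdz]; rfl) (fun h1 => ?_) ⟨hyK, hy⟩
    have := O.ntW
    obtain ⟨v, hv⟩ := exists_ne (0 : W)
    have h3 := eσ u v
    rw [h1] at h3
    have h4 := ((sv_fix_iff O.hf hd hd0 hdz hz u).1 (O.T_injective hv h3).symm).1
    rw [hdu] at h4
    exact one_ne_zero h4
  · obtain ⟨X, hXK, eX⟩ := id hA'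
    have hAr := (O.prod_unique (O.inU_pow hA' r) InU.one (O.inW_pow hB' r) InW.one fun a v => by
      rw [← O.pair_pow e r a v, hh'r]
      rfl).1
    have hXp : PF p X := ⟨r, hpr, O.el_ext fun a v => by rw [O.PU_pow eX r a v, hAr]; rfl⟩
    have hXh : Commute X h' := O.el_ext fun a v => by
      show (X : V ≃ₗ[F] V) ((h' : V ≃ₗ[F] V) (T a v)) = (h' : V ≃ₗ[F] V) ((X : V ≃ₗ[F] V) (T a v))
      rw [e, eX, eX, e]
    have hyK : k * X * k⁻¹ ∈ K := K.mul_mem (K.mul_mem hk hXK) (K.inv_mem hk)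
    have hy : Tens T (k * X * k⁻¹) := O.comm_semiW hyK hb eb hB hr hbr (by
      have h2 := Commute.map hXh (MulAut.conj k).toMonoidHom
      simpa [hh', mul_assoc] using h2)
    have h2 := O.tens_of_semiU (p := p) (K.inv_mem hk) hXK eX hXp hA'1 (by rw [inv_inv]; exact ⟨hyK, hy⟩)
    exact inv_inv k ▸ h2.inv

omit [Fact p.Prime] [CharP F p] in
/-- **Without central elements the group consists of products.** -/
theorem tens_all {k : OQ Q} (hk : k ∈ K) : Tens T k := by
  obtain ⟨p, hprime, hchar⟩ := O.exists_char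
  have := Fact.mk hprime
  have := finite_OQ' Q
  refine (O.le_H_of_bound (C := K) le_rfl (fun _ _ _ h _ => h) (fun x hx hxH S _ hS hconj => ?_) hk).2
  have hp := O.pfree_of_not (p := p) hx hxH hS hconj
  refine O.card_lt_no_pureW (p := p) hS hp fun s hs B eB => ?_
  by_contra h1
  obtain ⟨r, hr, hrd⟩ := Nat.exists_prime_and_dvd (show orderOf s ≠ 1 by rwa [Ne, orderOf_eq_one_iff])
  set m := orderOf s / r
  have hord : orderOf (s ^ m) = r := orderOf_pow_orderOf_div (isOfFinOrder_of_finite s).orderOf_pos.ne' hrd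
  have hrp : r ≠ p := fun h => hp (h ▸ hrd.trans (orderOf_dvd_of_pow_eq_one (O.subgroup_pow (⟨s, hs⟩ : S))))
  refine hxH ⟨hx, O.tens_of_semiW (p := p) (b := s ^ m) hx (K.pow_mem (hS hs).1 m) (O.PW_pow eB m) (fun hB => ?_) hr
    hrp (by rw [← hord, pow_orderOf_eq_one]) (hconj _ (S.pow_mem hs m))⟩
  have h2 : s ^ m = 1 := O.el_ext fun a v => by rw [O.PW_pow eB m a v, hB]; rfl
  rw [h2, orderOf_one] at hord
  exact hr.one_lt.ne hord

end Four

end CfsgLib.Geo.OrthTensorFour
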