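/-
The stabiliser of `O₃ ⊗ O₄⁻` is maximal in `Ω`.
-/
import Cfsg.Agent.Lib.Geo.OrthTensorFour.Count
import Cfsg.Agent.Lib.Geo.OrthTensor.Final

set_option autoImplicit false
set_option linter.unusedSectionVars false

namespace CfsgLib.Geo.OrthTensorFour

open CfsgLib.Classical CfsgLib.Classical.Quad CfsgLib.Geo.OrthMax Module
open CfsgLib.Geo.MixTensor (SymForm)
open CfsgLib.Geo.OrthTensor (Tensor Tens Small Pre)
open QuadraticMap (polar polarBilin)
open LinearMap (BilinForm)
open scoped Kronecker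
open Matrix

section Abstract

variable {F : Type*} [Field F] [Finite F] {U W V : Type*} [AddCommGroup U] [Module F U] [FiniteDimensional F U]
  [AddCommGroup W] [Module F W] [FiniteDimensional F W] [AddCommGroup V] [Module F V] [FiniteDimensional F V]
  {Q : QuadraticForm F V} {f : BilinForm F U} {g : BilinForm F W} {T : U →ₗ[F] W →ₗ[F] V}
  {K : Subgroup (OQ Q)}

/-- **The dichotomy.** -/
theorem dichotomy (D : Tensor Q f g T) (dU : finrank F U = 3) (dW : finrank F W = 4) (hthin : Thin g)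
    (h5 : 5 ≤ Nat.card F) (hbase : ∀ k ∈ commutator (OQ Q), Tens T k → k ∈ K) (hsub : K ≤ commutator (OQ Q)) :
    eichGroup D.hQ ≤ K ∨ ∀ k ∈ K, Tens T k := by
  classical
  by_cases hnc : ∃ k ∈ K, ∃ (w : W) (φ : U →ₗ[F] U), w ≠ 0 ∧ g w w = 0 ∧
      (∀ a y, (k : V ≃ₗ[F] V) (T a y) = T a y + g w y • T (φ a) w) ∧ φ ≠ 0
  · obtain ⟨k, hk, w, φ, hw0, hw, hka, hne⟩ := hnc
    have hs : Small f :=
      { form := D.hf
        three := by rw [dU]
        big := fun h => by
          exfalso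
          have := Fintype.ofFinite F
          rw [Nat.card_eq_fintype_card] at h5
          have h3 : Fintype.card F ≤ 3 := by
            rw [← Finset.card_univ]
            exact (Finset.card_le_card (t := ({0, 1, -1} : Finset F)) fun u _ => by simpa using h u).trans
              Finset.card_le_three
          omega
        four := fun h => by omega }
    have O : Pre Q f g T K := Pre.of_tens D (by rw [dW]; omega) hs hbase
    exact Or.inl (O.eichGroup_le hw0 hw ⟨k, hk, hka⟩ hne)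
  · push Not at hnc
    have O : Four Q f g T K :=
      { D with dU := dU, dW := dW, thin := hthin, five := h5, base := hbase, sub := hsub, nc := hnc }
    exact Or.inr fun k hk => O.tens_all hk

end Abstract

variable {F : Type*} [Field F] [Fintype F] {ι : Type} [Fintype ι] [DecidableEq ι]

/-- A form of minus type has no totally singular planes. -/
theorem thin_of_minus {f₀ : (Fin 4 → F) → (Fin 4 → F) → F} {f : BilinForm F (Fin 4 → F)} (hf : SymForm f)
    (e : ∀ u v, f u v = f₀ u v) (h : ¬ Cfsg.Geo.IsPlusTypeOn (fun v => f₀ v v) ⊤) : Thin f := by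
  intro d z hd hd0 hdz hz
  by_contra hzd
  have hli : LinearIndependent F ![d, z] := by
    rw [LinearIndependent.pair_iff' hd0]
    exact fun a ha => hzd (ha ▸ Submodule.smul_mem _ _ (Submodule.mem_span_singleton_self d))
  refine h ⟨Submodule.span F (Set.range ![d, z]), le_top, fun v hv => ?_, ?_⟩
  · rw [Submodule.mem_span_range_iff_exists_fun] at hv
    obtain ⟨s, rfl⟩ := hv
    simp only [← e]
    simp [Fin.sum_univ_two, hd, hdz, hz, hf.symm d z]
  · rw [finrank_top, Module.finrank_fin_fun, finrank_span_eq_card hli, Fintype.card_fin]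

/-- **The stabiliser of an orthogonal tensor decomposition is maximal.** -/
theorem maximal {Q : QuadraticForm F (ι → F)} (hQ : (polarBilin Q).Nondegenerate) (hn : Fintype.card ι = 12)
    (hodd : Odd (Fintype.card F)) (hq : 5 ≤ Fintype.card F)
    (e : ι ≃ Fin 3 × Fin 4) (P : Matrix.GeneralLinearGroup ι F)
    {f₁ : (Fin 3 → F) → (Fin 3 → F) → F} {f₂ : (Fin 4 → F) → (Fin 4 → F) → F}
    (hf₁ : Cfsg.Geo.IsSymmetricForm f₁) (hf₂ : Cfsg.Geo.IsSymmetricForm f₂)
    (hminus : ¬ Cfsg.Geo.IsPlusTypeOn (fun v => f₂ v v) ⊤)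
    (hT : Cfsg.Geo.IsTensorFormStructure id (polar ⇑Q) f₁ f₂ e P) :
    Cfsg.Geo.IsMaximalIn (Cfsg.Geo.omegaGL (⇑Q))
      (Cfsg.Geo.tensorProductSubgroup 3 4 e P ⊓ Cfsg.Geo.omegaGL (⇑Q)) := by
  classical
  obtain ⟨c, hc, hT⟩ := hT
  have two : (2 : F) ≠ 0 := Ring.two_ne_zero fun h => by
    rw [FiniteField.even_card_iff_char_two, ← Nat.even_iff] at h
    exact Nat.not_odd_iff_even.2 h hodd
  have hcard : Fintype.card ι = 3 * 4 := by simpa using Fintype.card_congr e
  let f : BilinForm F (Fin 3 → F) := c • LinearMap.mk₂ F f₁ hf₁.bilinear.add_left hf₁.bilinear.smul_left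
    hf₁.bilinear.add_right hf₁.bilinear.smul_right
  let g : BilinForm F (Fin 4 → F) := LinearMap.mk₂ F f₂ hf₂.bilinear.add_left hf₂.bilinear.smul_left
    hf₂.bilinear.add_right hf₂.bilinear.smul_right
  let T : (Fin 3 → F) →ₗ[F] (Fin 4 → F) →ₗ[F] (ι → F) := LinearMap.mk₂ F (pureTensor e P)
    (fun x x' y => by simp only [pureTensor, ← Matrix.mulVec_add]; congr 1; funext i; simp [add_mul])
    (fun s x y => by rw [pureTensor_smul_left, pureTensor_smul_right])
    (fun x y y' => pureTensor_add_right e P x y y')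
    (fun s x y => pureTensor_smul_right e P s x y)
  have hf : SymForm f := by
    refine ⟨two, ?_, fun a b => by show c * f₁ b a = c * f₁ a b; rw [hf₁.symm]⟩
    constructor <;> intro x hx <;> by_contra h0
    · obtain ⟨y, hy⟩ := (hf₁.nondegenerate x h0).2
      exact hy ((mul_eq_zero.1 (hx y)).resolve_left hc)
    · obtain ⟨y, hy⟩ := (hf₁.nondegenerate x h0).1
      exact hy ((mul_eq_zero.1 (hx y)).resolve_left hc)
  have hg : SymForm g := by
    refine ⟨two, ?_, fun a b => hf₂.symm b a⟩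
    constructor <;> intro x hx <;> by_contra h0
    · obtain ⟨y, hy⟩ := (hf₂.nondegenerate x h0).2
      exact hy (hx y)
    · obtain ⟨y, hy⟩ := (hf₂.nondegenerate x h0).1
      exact hy (hx y)
  have hspan : Submodule.span F (Set.range fun p : (Fin 3 → F) × (Fin 4 → F) => T p.1 p.2) = ⊤ := by
    refine eq_top_iff.2 fun v _ => ?_
    set u := (((P⁻¹ : Matrix.GeneralLinearGroup ι F) : Matrix ι ι F) *ᵥ v)
    have ev : v = ∑ q : Fin 3 × Fin 4, u (e.symm q) • T (Pi.single q.1 1) (Pi.single q.2 1) := by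
      rw [← Matrix.one_mulVec v, ← Units.val_one, ← mul_inv_cancel P, Units.val_mul, ← Matrix.mulVec_mulVec]
      simp only [T, LinearMap.mk₂_apply, pureTensor, ← Matrix.mulVec_smul, ← Matrix.mulVec_sum]
      congr 1
      funext i
      rw [Finset.sum_apply, Finset.sum_eq_single (e i)]
      · simp [u]
      · intro q _ hq
        rcases not_and_or.1 (fun h : q.1 = (e i).1 ∧ q.2 = (e i).2 => hq (Prod.ext h.1 h.2)) with h | h <;>
          simp [Ne.symm h]
      · simp
    rw [ev]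
    exact Submodule.sum_mem _ fun q _ => Submodule.smul_mem _ _ (Submodule.subset_span ⟨(_, _), rfl⟩)
  have D : Tensor Q f g T :=
    { hQ := hQ
      hf := hf
      hg := hg
      polarT := fun a b y z => by
        show polar ⇑Q (pureTensor e P a y) (pureTensor e P b z) = c * f₁ a b * f₂ y z
        rw [polar_pureTensor e P hf₁.bilinear hf₂.bilinear hT, mul_assoc]
      span := hspan }
  let e' := oEquiv Q
  have hn5 : 5 ≤ Module.finrank F (ι → F) := by rw [Module.finrank_pi]; omega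
  have hΩ : ∀ g : Cfsg.isometryGroup F (⇑Q),
      (g : Matrix.GeneralLinearGroup ι F) ∈ Cfsg.Geo.omegaGL (⇑Q) ↔ e' g ∈ eichGroup hQ := by
    intro g
    have hmap : (commutator ↥(Cfsg.isometryGroup F (⇑Q))).map e'.toMonoidHom = commutator (OQ Q) := by
      rw [commutator_def, commutator_def, Subgroup.map_commutator,
        Subgroup.map_top_of_surjective _ e'.surjective]
    rw [eichGroup_eq_commutator hQ hn5, ← hmap, Subgroup.mem_map_equiv, MulEquiv.symm_apply_apply]
    exact ⟨fun ⟨g', hg', hgg⟩ => by rw [← Subtype.ext hgg]; exact hg', fun h => ⟨g, h, rfl⟩⟩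
  have hiso : ∀ x, x ∈ Cfsg.Geo.omegaGL (⇑Q) → x ∈ Cfsg.isometryGroup F (⇑Q) := by
    rintro _ ⟨g, -, rfl⟩
    exact g.2
  have hact : ∀ (k : OQ Q) v, (((e'.symm k : Cfsg.isometryGroup F (⇑Q)) :
      Matrix.GeneralLinearGroup ι F) : Matrix ι ι F) *ᵥ v = (k : (ι → F) ≃ₗ[F] (ι → F)) v := fun k v => by
    rw [← oEquiv_apply, MulEquiv.apply_symm_apply]
  -- Kronecker products
  have htoT : ∀ (k : OQ Q) (A : (Fin 3 → F) →ₗ[F] (Fin 3 → F)) (B : (Fin 4 → F) →ₗ[F] (Fin 4 → F)),
      (∀ x y, (k : (ι → F) ≃ₗ[F] (ι → F)) (T x y) = T (A x) (B y)) →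
      ((e'.symm k : Cfsg.isometryGroup F (⇑Q)) : Matrix.GeneralLinearGroup ι F) ∈
        Cfsg.Geo.tensorProductSubgroup 3 4 e P := by
    intro k A B hk
    have hu₁ : IsUnit A.toMatrix' := by
      refine Matrix.mulVec_injective_iff_isUnit.1 fun a b hab => ?_
      rw [LinearMap.toMatrix'_mulVec, LinearMap.toMatrix'_mulVec] at hab
      let y₀ : Fin 4 → F := Pi.single ⟨0, by omega⟩ 1
      have hy : y₀ ≠ 0 := fun h => one_ne_zero (α := F) (by simpa [y₀] using congrFun h ⟨0, by omega⟩)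
      exact D.T_injective hy ((k : (ι → F) ≃ₗ[F] (ι → F)).injective (by rw [hk, hk, hab]))
    have hu₂ : IsUnit B.toMatrix' := by
      refine Matrix.mulVec_injective_iff_isUnit.1 fun a b hab => ?_
      rw [LinearMap.toMatrix'_mulVec, LinearMap.toMatrix'_mulVec] at hab
      let x₀ : Fin 3 → F := Pi.single ⟨0, by omega⟩ 1
      have hx : x₀ ≠ 0 := fun h => one_ne_zero (α := F) (by simpa [x₀] using congrFun h ⟨0, by omega⟩)
      by_contra hne
      refine hx (D.T_eq_zero (sub_ne_zero.2 hne) ((k : (ι → F) ≃ₗ[F] (ι → F)).injective ?_))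
      rw [hk, map_sub, hab, sub_self, map_zero, map_zero]
    obtain ⟨a, ha⟩ := hu₁
    obtain ⟨b, hb⟩ := hu₂
    let K₀ : Matrix.GeneralLinearGroup (Fin 3 × Fin 4) F :=
      Matrix.GeneralLinearGroup.mkOfDetNeZero
        ((a : Matrix (Fin 3) (Fin 3) F) ⊗ₖ (b : Matrix (Fin 4) (Fin 4) F)) (by
          rw [Matrix.det_kronecker]
          exact mul_ne_zero (pow_ne_zero _ (Matrix.GeneralLinearGroup.det_ne_zero a))
            (pow_ne_zero _ (Matrix.GeneralLinearGroup.det_ne_zero b)))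
    have hK₀ : K₀ ∈ Cfsg.Geo.kroneckerSubgroup 3 4 F := ⟨a, b, rfl⟩
    have hmem : MulAut.conj P (Cfsg.Geo.glReindex e.symm K₀) ∈ Cfsg.Geo.tensorProductSubgroup 3 4 e P :=
      ⟨_, ⟨K₀, hK₀, rfl⟩, rfl⟩
    have hKpure : ∀ x y, (MulAut.conj P (Cfsg.Geo.glReindex e.symm K₀) : Matrix.GeneralLinearGroup ι F).1 *ᵥ
        pureTensor e P x y = pureTensor e P ((a : Matrix (Fin 3) (Fin 3) F) *ᵥ x)
          ((b : Matrix (Fin 4) (Fin 4) F) *ᵥ y) := by
      intro x y
      show ((P * Cfsg.Geo.glReindex e.symm K₀ * P⁻¹ : Matrix.GeneralLinearGroup ι F) : Matrix ι ι F) *ᵥ _ = _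
      rw [pureTensor, pureTensor, Units.val_mul, Matrix.mulVec_mulVec, Matrix.mul_assoc, Units.inv_mul,
        Matrix.mul_one, Units.val_mul, ← Matrix.mulVec_mulVec]
      congr 1
      show Matrix.reindex e.symm e.symm
        ((a : Matrix (Fin 3) (Fin 3) F) ⊗ₖ (b : Matrix (Fin 4) (Fin 4) F)) *ᵥ _ = _
      funext i
      simp only [Matrix.mulVec, dotProduct, Matrix.reindex_apply, Matrix.submatrix_apply, Equiv.symm_symm,
        Function.comp_apply]
      rw [e.sum_comp (fun q => ((a : Matrix (Fin 3) (Fin 3) F) ⊗ₖ (b : Matrix (Fin 4) (Fin 4) F))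
        (e i) q * (x q.1 * y q.2)), Fintype.sum_prod_type, Finset.sum_mul_sum]
      refine Finset.sum_congr rfl fun p _ => Finset.sum_congr rfl fun q _ => ?_
      rw [Matrix.kroneckerMap_apply]
      ring
    convert hmem
    refine Units.ext (Matrix.toLin'.injective (LinearMap.ext_on hspan ?_))
    rintro _ ⟨⟨x, y⟩, rfl⟩
    rw [Matrix.toLin'_apply, Matrix.toLin'_apply, hact, hk]
    show pureTensor e P (A x) (B y) = _ *ᵥ pureTensor e P x y
    rw [hKpure, ha, hb, LinearMap.toMatrix'_mulVec, LinearMap.toMatrix'_mulVec]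
  refine ⟨lt_of_le_of_ne inf_le_right fun he => ?_, fun M hHM hMS => ?_⟩
  · obtain ⟨k, hk, hnk⟩ := D.exists_not_tens (by rw [Module.finrank_fin_fun]) (by rw [Module.finrank_fin_fun]; norm_num) hn5
    set gk := e'.symm k
    have hg : (gk : Matrix.GeneralLinearGroup ι F) ∈ Cfsg.Geo.omegaGL (⇑Q) :=
      (hΩ gk).2 (by rw [MulEquiv.apply_symm_apply]; exact hk)
    rw [← he] at hg
    obtain ⟨A, B, hAB⟩ := exists_of_mem_tensor e P hg.1
    refine hnk ⟨Matrix.toLin' (A : Matrix (Fin 3) (Fin 3) F), Matrix.toLin' (B : Matrix (Fin 4) (Fin 4) F),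
      fun x y => ?_⟩
    rw [← hact]
    exact hAB x y
  set K := (M.subgroupOf (Cfsg.isometryGroup F (⇑Q))).map e'.toMonoidHom
  have hmK : ∀ g : Cfsg.isometryGroup F (⇑Q), e' g ∈ K ↔ (g : Matrix.GeneralLinearGroup ι F) ∈ M :=
    fun g => by
      rw [Subgroup.mem_map_equiv, MulEquiv.symm_apply_apply, Subgroup.mem_subgroupOf]
  have hbase : ∀ k ∈ commutator (OQ Q), Tens T k → k ∈ K := by
    rintro k hk ⟨A, B, hAB⟩
    rw [← eichGroup_eq_commutator hQ hn5] at hk
    have h := (hmK (e'.symm k)).2 (hHM ⟨htoT k A B hAB, (hΩ _).2 (by rw [MulEquiv.apply_symm_apply]; exact hk)⟩)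
    rwa [MulEquiv.apply_symm_apply] at h
  have hsub : K ≤ commutator (OQ Q) := fun k hk => by
    obtain ⟨g, rfl⟩ := e'.surjective k
    rw [← eichGroup_eq_commutator hQ hn5]
    exact (hΩ g).1 (hMS ((hmK g).1 hk))
  have key : eichGroup hQ ≤ K ∨ ∀ k ∈ K, Tens T k :=
    dichotomy D (Module.finrank_fin_fun F) (Module.finrank_fin_fun F) (thin_of_minus hg (fun _ _ => rfl) hminus)
      (by rwa [Nat.card_eq_fintype_card]) hbase hsub
  rcases key with hle | htens
  · exact Or.inr (le_antisymm hMS fun x hx => (hmK ⟨x, hiso x hx⟩).1 (hle ((hΩ ⟨x, _⟩).1 hx)))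
  · refine Or.inl (le_antisymm (le_inf (fun x hx => ?_) hMS) hHM)
    obtain ⟨A, B, hAB⟩ := htens _ ((hmK ⟨x, hiso x (hMS hx)⟩).2 hx)
    have h := htoT _ A B hAB
    rwa [MulEquiv.symm_apply_apply] at h

end CfsgLib.Geo.OrthTensorFour
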